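import Cfsg.Agent.H17.AL0
import Cfsg.Agent.H09.SLBasic
import Cfsg.Agent.S2601

/-!
# Identification of the automorphism group of `PGL₃(4)`
-/

set_option autoImplicit false

namespace H28.AlF
open Subgroup Cfsg Matrix
open scoped MatrixGroups

universe u v

theorem le7 {S X : Type*} [Group S] [Group X] [Finite X] [IsSimpleGroup S] (hS : 5040 < Nat.card S) (j : S →* X)
    (Y : Subgroup X) (hY : Y.index ≤ 7) (s : S) : j s ∈ Y := by
  let ψ := (MulAction.toPermHom X (X ⧸ Y)).comp j
  rcases ψ.normal_ker.eq_bot_or_eq_top with h | h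
  · have h1 := Nat.card_le_card_of_injective ψ (ψ.ker_eq_bot_iff.1 h)
    rw [Nat.card_perm] at h1
    have h2 := Nat.factorial_le hY
    rw [show Nat.factorial 7 = 5040 from rfl] at h2
    exact absurd (h1.trans h2) (not_le.2 hS)
  · have h1 : j s ∈ (MulAction.toPermHom X (X ⧸ Y)).ker := h.ge (mem_top s)
    rw [← normalCore_eq_ker] at h1
    exact Y.normalCore_le h1

theorem aut_le {S X : Type*} [Group S] [Group X] [Finite X] [IsSimpleGroup S] (hS : Nat.card S = 20160)
    (hX : Nat.card X = 60480) (j : S →* X) (hj : Function.Injective j) (hZ : ∀ c : X, (∀ x, c * x = x * c) → c = 1) :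
    Nat.card (MulAut X) ≤ Nat.card (MulAut S) := by
  have := Finite.of_injective j hj
  have e := MonoidHom.ofInjective hj
  have h1 : Nat.card j.range = 20160 := (Nat.card_congr e.toEquiv).symm.trans hS
  have h2 : j.range.index = 3 := by have := j.range.card_mul_index; rw [h1] at this; omega
  have h3 : ∀ α : MulAut X, j.range.map α.toMonoidHom = j.range := fun α =>
    (eq_of_le_of_card_ge (by
      rintro _ ⟨s, rfl⟩
      exact le7 (by omega) j _ (by rw [index_map_of_bijective α.bijective, h2]; decide) s)
      (card_map_of_injective α.injective).le).symm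
  have h4 : ∀ c : X, (∀ p ∈ j.range, c * p = p * c) → c = 1 := fun c hc => by
    have h5 : j.range ≤ centralizer {c} := fun p hp => mem_centralizer_singleton_iff.2 (hc p hp).symm
    have h6 := index_dvd_of_le h5
    rw [h2, Nat.dvd_prime Nat.prime_three] at h6
    rcases h6 with h6 | h6
    · exact hZ c fun x => (mem_centralizer_singleton_iff.1 ((index_eq_one.1 h6).ge (mem_top x))).symm
    · have h7 : j.range = centralizer {c} := eq_of_le_of_card_ge h5 (by
        have := (centralizer {c}).card_mul_index; rw [h6] at this; omega)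
      obtain ⟨s, rfl⟩ := h7.ge (mem_centralizer_singleton_iff.2 rfl)
      rcases (inferInstance : (center S).Normal).eq_bot_or_eq_top with h | h
      · rw [show s = 1 from mem_bot.1 (h.le (mem_center_iff.2 fun g => hj (by
          rw [map_mul, map_mul, hc _ ⟨g, rfl⟩]))), map_one]
      · letI := Group.commGroupOfCenterEqTop h
        have := IsSimpleGroup.prime_card (α := S)
        rw [hS] at this
        exact absurd this (by norm_num)
  rw [Nat.card_congr (MulAut.congr e).toEquiv]
  refine Nat.card_le_card_of_injective (fun α : MulAut X => (show MulAut j.range from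
    (α.subgroupMap j.range).trans (MulEquiv.subgroupCongr (h3 α)))) fun α β h => MulEquiv.ext fun x => ?_
  have h8 : ∀ p ∈ j.range, α p = β p := fun p hp => congrArg Subtype.val (MulEquiv.congr_fun h ⟨p, hp⟩)
  refine (inv_mul_eq_one.1 (h4 _ fun p hp => ?_)).symm
  obtain ⟨q, hq, rfl⟩ := (h3 α).ge hp
  have h9 := h8 _ ((h3 (MulAut.conj x)).le ⟨q, hq, rfl⟩)
  change α (x * q * x⁻¹) = β (x * q * x⁻¹) at h9
  change (β x)⁻¹ * α x * α q = α q * ((β x)⁻¹ * α x)
  rw [map_mul, map_mul, map_mul, map_mul, map_inv, map_inv, ← h8 q hq] at h9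
  rw [mul_assoc, show α x * α q = β x * α q * (β x)⁻¹ * α x by rw [← h9]; group]
  group

theorem f : H17.AL.FStmt.{u, v} := by
  rintro G _ _ F _ _ hF K hK h4 hC ⟨f, hf⟩ ⟨A, -, -, hA, hN⟩
  have hX : Nat.card (H07.L4.PG F) = 60480 := by
    have h1 := (center (GL (Fin 3) F)).card_eq_card_quotient_mul_card_subgroup
    rw [H09.card_center_GL, card_GL_field, hF, show ∏ i : Fin 3, (4 ^ 3 - 4 ^ (i : ℕ)) = 181440 by decide] at h1
    unfold H07.L4.PG
    omega
  have hS : Nat.card PSL(3, F) = 20160 := by
    have h1 := H09.card_PSL_mul (ι := Fin 3) (F := F)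
    rw [← H09.card_PGL_eq_card_SL, hF, Fintype.card_fin, show Nat.card (ProjGenLinGroup (Fin 3) F) = 60480 from hX] at h1
    rw [show Nat.gcd 3 (4 - 1) = 3 from rfl] at h1
    omega
  have := H09.PSL_isSimpleGroup (ι := Fin 3) (F := F) (by simp)
  let j : PSL(3, F) →* H07.L4.PG F := ProjectiveSpecialLinearGroup.toPGL
  have hj : Function.Injective j := ProjectiveSpecialLinearGroup.toPGL_injective
  have h1 := (normalizer (A : Set K)).card_mul_index
  have h2 := f.range.card_mul_index
  have h3 : (normalizer (A : Set K)).index ≠ 1 := fun e => hA (normalizer_eq_top_iff.1 (index_eq_one.1 e))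
  rw [← Nat.card_congr (MonoidHom.ofInjective hf).toEquiv, ← h1, hN, hX] at h2
  have h5 : (normalizer (A : Set K)).index * f.range.index = 21 := by nlinarith
  have h6 : (normalizer (A : Set K)).index ∈ Nat.divisors 21 := Nat.mem_divisors.2 ⟨⟨_, h5.symm⟩, by decide⟩
  rw [show Nat.divisors 21 = {1, 3, 7, 21} by decide] at h6
  simp only [Finset.mem_insert, Finset.mem_singleton] at h6
  have h7 : ∀ s, j s ∈ f.range := le7 (by omega) j _ (by rcases h6 with h | h | h | h <;> rw [h] at h5 <;> omega)
  have h8 : (normalizer (A : Set K)).index = 21 := by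
    by_contra q
    let j' := (MonoidHom.ofInjective hf).symm.toMonoidHom.comp (j.codRestrict _ h7)
    have q1 := Nat.card_le_card_of_injective (j'.codRestrict _ (le7 (by omega) j' (normalizer (A : Set K)) (by omega)))
      fun a b h => hj (congrArg Subtype.val ((MonoidHom.ofInjective hf).symm.injective
        (show j' a = j' b from congrArg Subtype.val h)))
    omega
  rw [h8, hN] at h1
  let e := MulEquiv.ofBijective f (hf.bijective_of_nat_card_le (by omega))
  have h9 : Nat.card (MulAut PSL(3, F)) ≤ 12 * 20160 := by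
    have : Fact (Nat.Prime 2) := ⟨Nat.prime_two⟩
    obtain ⟨φ, q1, -, q2⟩ := Cfsg.Agent.S2601.result (p := 2) (f := 2) (n := 3) (by decide) hF le_rfl
    have q3 := φ.ker.card_mul_index
    rw [q2, index_ker, MonoidHom.range_eq_top.2 q1, card_top] at q3
    rw [(Inn PSL(3, F)).card_eq_card_quotient_mul_card_subgroup, ← hS]
    refine Nat.mul_le_mul (q3.ge.trans (by simp)) (Nat.card_le_card_of_surjective _ (MulAut.conj.rangeRestrict_surjective))
  have hi : Function.Injective (MulAut.conjNormal : G →* MulAut K) := (injective_iff_map_eq_one _).2 fun g hg =>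
    mem_bot.1 (hC.le (mem_centralizer_iff.2 fun k hk =>
      (mul_inv_eq_iff_eq_mul.1 (congrArg Subtype.val (MulEquiv.congr_fun hg ⟨k, hk⟩))).symm))
  have h10 := aut_le hS hX j hj fun c hc => by
    obtain ⟨k, rfl⟩ := e.surjective c
    rw [show k = 1 from Subtype.ext (mem_bot.1 (hC.le (mem_centralizer_iff.2 fun y hy => congrArg Subtype.val
      (e.injective (by rw [map_mul, map_mul, hc]) : (⟨y, hy⟩ : K) * k = k * ⟨y, hy⟩)))), map_one]
  have h11 := K.card_mul_index
  rw [h4] at h11
  exact ⟨.ofBijective ((MulAut.congr e).toMonoidHom.comp MulAut.conjNormal)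
    (((MulAut.congr e).injective.comp hi).bijective_of_nat_card_le (by omega))⟩

end H28.AlF
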