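import Cfsg.Agent.H11.AltSec
import Cfsg.Agent.H11.PG
import Cfsg.Agent.S2378

/-!
# Rational elements of composite order lifted from sections
-/

set_option autoImplicit false

namespace H28.Fa
open Subgroup

section grp
variable {G A : Type*} [Group G] [Group A] [Finite G]

theorem fr (π : G →* A) (M : Subgroup G) {l : ℕ} [Fact l.Prime] {V : Subgroup A} (hV : IsPGroup l V)
    (h1 : ∀ m ∈ M, π m ∈ normalizer (V : Set A)) (h2 : V ≤ M.map π) :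
    ∃ Q : Subgroup G, Q ≤ M ∧ IsPGroup l Q ∧ Q.map π = V ∧ M.map π ≤ (normalizer (Q : Set G) ⊓ M).map π ∧
      ∀ x ∈ M, x ∈ normalizer (Q : Set G) → π x ∈ V → ∀ n, x ^ l ^ n = 1 → x ∈ Q := by
  let ψ := π.comp M.subtype
  let N := V.comap ψ
  have : N.Normal := ⟨fun n hn g => by
    change ψ (g * n * g⁻¹) ∈ V
    rw [map_mul, map_mul, map_inv]
    exact (mem_normalizer_iff.1 (h1 g g.2) _).1 hn⟩
  let P : Sylow l N := default
  let f : N →* V := (ψ.comp N.subtype).codRestrict V fun x => x.2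
  have hf : Function.Surjective f := fun v => by
    obtain ⟨x, hx, e⟩ := h2 v.2
    exact ⟨⟨⟨x, hx⟩, show π x ∈ V from e ▸ v.2⟩, Subtype.ext e⟩
  have e1 : (P.mapSurjective hf : Subgroup V) = ⊤ := ((P.mapSurjective hf).3 (hV.to_subgroup ⊤) le_top).symm
  let Q0 := (P : Subgroup N).map N.subtype
  have e2 : (Q0.map M.subtype).map π = V := le_antisymm (by
    rintro _ ⟨_, ⟨_, ⟨x, -, rfl⟩, rfl⟩, rfl⟩; exact x.2) fun v hv => by
    obtain ⟨x, hx, e⟩ := e1.ge (mem_top (⟨v, hv⟩ : V))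
    exact ⟨_, ⟨_, ⟨x, hx, rfl⟩, rfl⟩, congrArg Subtype.val e⟩
  have e3 : ∀ m : M, m ∈ normalizer (Q0 : Set M) ↔ (m : G) ∈ normalizer (Q0.map M.subtype : Set G) := fun m => by
    simp only [mem_normalizer_iff]
    refine ⟨fun h x => ⟨?_, fun ⟨y, hy, e⟩ => ?_⟩, fun h x => ?_⟩
    · rintro ⟨y, hy, rfl⟩
      exact ⟨_, (h y).1 hy, rfl⟩
    · refine ⟨m⁻¹ * y * m, (h _).2 (by simpa [mul_assoc] using hy), ?_⟩
      change (m : G)⁻¹ * y * m = x
      rw [show (y : G) = _ from e]; group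
    · exact (mem_map_iff_mem M.subtype_injective (x := x)).symm.trans ((h x).trans
        (mem_map_iff_mem M.subtype_injective (x := m * x * m⁻¹)))
  refine ⟨Q0.map M.subtype, map_subtype_le _, (P.isPGroup'.map _).map _, e2, ?_, fun x hx h3 h4 n h5 => ?_⟩
  · rintro _ ⟨m, hm, rfl⟩
    have h6 : (⟨m, hm⟩ : M) ∈ normalizer (Q0 : Set M) ⊔ N := by rw [Sylow.normalizer_sup_eq_top]; trivial
    obtain ⟨a, ha, b, hb, e⟩ := mem_sup_of_normal_right.1 h6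
    obtain ⟨c, hc, e'⟩ := e2.ge hb
    refine ⟨a * c, ⟨mul_mem ((e3 a).1 ha) (le_normalizer hc), mul_mem a.2 (map_subtype_le _ hc)⟩, ?_⟩
    rw [map_mul, e', ← show (a : G) * b = m from congrArg Subtype.val e, map_mul]; rfl
  · let y : N := ⟨⟨x, hx⟩, h4⟩
    have h6 : IsPGroup l (zpowers y) := IsPGroup.iff_card.2 (by
      rw [Nat.card_zpowers]
      exact ((Nat.dvd_prime_pow Fact.out).1 (orderOf_dvd_of_pow_eq_one (Subtype.ext (Subtype.ext h5)))).imp fun _ h => h.2)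
    have h7 : y ∈ normalizer ((P : Subgroup N) : Set N) := by
      have := (e3 ⟨x, hx⟩).2 h3
      rw [mem_normalizer_iff] at this ⊢
      intro z
      exact (mem_map_iff_mem N.subtype_injective (x := z)).symm.trans ((this z).trans
        (mem_map_iff_mem N.subtype_injective (x := y * z * y⁻¹)))
    have h8 := (h6.inf_normalizer_sylow P).le ⟨mem_zpowers y, h7⟩
    exact ⟨_, ⟨y, h8.2, rfl⟩, rfl⟩

theorem eig (π : G →* A) {l k : ℕ} [hl : Fact l.Prime] {Q : Subgroup G} (hQ : IsPGroup l Q)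
    (hc : ∀ a ∈ Q, ∀ b ∈ Q, a * b = b * a) {g : G} (hg : g ∈ normalizer (Q : Set G))
    (h1 : ∀ a ∈ Q, π g * π a * (π g)⁻¹ = π a ^ k) (h2 : ∃ a ∈ Q, π a ≠ 1) :
    ∃ y ∈ Q, orderOf y = l ∧ g * y * g⁻¹ = y ^ k := by
  let f : Q → Q := fun x => ⟨g * x * g⁻¹ * ((x : G) ^ k)⁻¹,
    mul_mem ((mem_normalizer_iff.1 hg _).1 x.2) (inv_mem (pow_mem x.2 _))⟩
  have h3 : ¬ Function.Injective f := fun h => by
    obtain ⟨a, ha, h2⟩ := h2
    obtain ⟨x, hx⟩ := Finite.injective_iff_surjective.1 h ⟨a, ha⟩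
    refine h2 ?_
    rw [← show g * x * g⁻¹ * ((x : G) ^ k)⁻¹ = a from congrArg Subtype.val hx, map_mul, map_mul, map_mul, map_inv, map_inv,
      map_pow, h1 _ x.2, mul_inv_cancel]
  obtain ⟨x, y, e, hxy⟩ := Function.not_injective_iff.1 h3
  have e' : g * x * g⁻¹ * ((x : G) ^ k)⁻¹ = g * y * g⁻¹ * ((y : G) ^ k)⁻¹ := congrArg Subtype.val e
  have h4 : g * ((y : G)⁻¹ * x) * g⁻¹ = ((y : G)⁻¹ * x) ^ k := by
    rw [Commute.mul_pow (hc _ (inv_mem y.2) _ x.2), inv_pow]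
    calc _ = (g * y * g⁻¹)⁻¹ * (g * x * g⁻¹ * ((x : G) ^ k)⁻¹) * (x : G) ^ k := by group
      _ = _ := by rw [e']; group
  obtain ⟨n, hn⟩ := IsPGroup.iff_orderOf.1 hQ (y⁻¹ * x)
  obtain _ | n := n
  · exact absurd (inv_mul_eq_one.1 (orderOf_eq_one_iff.1 hn)).symm hxy
  have hn' : orderOf ((y : G)⁻¹ * x) = l ^ (n + 1) := (Subgroup.orderOf_coe (y⁻¹ * x)).trans hn
  refine ⟨((y : G)⁻¹ * x) ^ l ^ n, pow_mem (mul_mem (inv_mem y.2) x.2) _, ?_, ?_⟩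
  · rw [orderOf_pow, hn', Nat.gcd_eq_right (pow_dvd_pow _ n.le_succ), pow_succ, Nat.mul_div_cancel_left _ (pow_pos hl.out.pos _)]
  · rw [← conj_pow, h4, ← pow_mul, ← pow_mul, mul_comm]

theorem two (π : G →* A) (hπ : Function.Surjective π) {l m k : ℕ} [hl : Fact l.Prime] [hm : Fact m.Prime] (hlm : l ≠ m)
    (cl : ∀ Q : Subgroup G, IsPGroup l Q → ∀ a ∈ Q, ∀ b ∈ Q, a * b = b * a)
    (cm : ∀ Q : Subgroup G, IsPGroup m Q → ∀ a ∈ Q, ∀ b ∈ Q, a * b = b * a)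
    {u v b : A} (hu : orderOf u = l) (hv : orderOf v = m) (huv : u * v = v * u) (h1 : b * u * b⁻¹ = u ^ k)
    (h2 : b * v * b⁻¹ = v ^ k) : ∃ y : G, orderOf y = l * m ∧ IsConj y (y ^ k) := by
  have := Finite.of_surjective π hπ
  have nz : ∀ {x y : A} {i : ℕ}, x * y * x⁻¹ = y ^ i → x ∈ normalizer (zpowers y : Set A) := fun {x y i} h =>
    mem_normalizer_fintype (by rintro _ ⟨i, rfl⟩; rw [← conj_zpow, h]; exact zpow_mem (npow_mem_zpowers ..) _)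
  have pz : ∀ {y : A} {i : ℕ}, orderOf y = i → IsPGroup i (zpowers y) := fun h =>
    IsPGroup.of_card (n := 1) (by rw [Nat.card_zpowers, h, pow_one])
  let B := normalizer (zpowers u : Set A) ⊓ normalizer (zpowers v : Set A)
  have b1 : b ∈ B := ⟨nz h1, nz h2⟩
  have b2 : u ∈ B := ⟨nz (i := 1) (by group), nz (i := 1) (by rw [huv]; group)⟩
  have b3 : v ∈ B := ⟨nz (i := 1) (by rw [← huv]; group), nz (i := 1) (by group)⟩
  have b4 : (B.comap π).map π = B := map_comap_eq_self_of_surjective hπ B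
  obtain ⟨Q, -, q1, q2, q3, q4⟩ := fr π (B.comap π) (pz hu) (fun m h => h.1) (by rw [b4]; exact zpowers_le.2 b2)
  rw [b4] at q3
  obtain ⟨R, r0, r1, r2, r3, -⟩ := fr π (normalizer (Q : Set G) ⊓ B.comap π) (pz hv) (fun m h => h.2.2)
    ((zpowers_le.2 b3).trans q3)
  obtain ⟨g, ⟨g1, g2, -⟩, rfl⟩ := r3 (q3 b1)
  obtain ⟨x, ⟨x1, x2, x3⟩, rfl⟩ := r3 (q3 b2)
  obtain ⟨i, s, e⟩ := H11.exists_pow_part x hl.out 1
  have x4 : π (x ^ (1 + l ^ 1 * i)) = π x := by rw [map_pow, pow_add, pow_mul, pow_one, pow_one, ← hu, pow_orderOf_eq_one, one_pow, mul_one]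
  have x5 := q4 _ (pow_mem x3 _) (pow_mem x2 _) (by rw [x4]; exact mem_zpowers _) s e
  have cj : ∀ {y z : A}, π g * y * (π g)⁻¹ = y ^ k → z ∈ zpowers y → π g * z * (π g)⁻¹ = z ^ k := by
    rintro y _ h ⟨i, rfl⟩
    rw [← conj_zpow, h, ← zpow_natCast, ← zpow_natCast, ← zpow_mul, ← zpow_mul, mul_comm]
  obtain ⟨y, ⟨y1, y2⟩, y3, y4⟩ := eig π (k := k) (Q := Q ⊓ normalizer (R : Set G)) (q1.to_inf_left)
    (fun a ha b hb => cl Q q1 a ha.1 b hb.1) (g := g) (mem_normalizer_fintype fun a ha =>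
      ⟨(mem_normalizer_iff.1 g2 a).1 ha.1, (normalizer (R : Set G)).mul_mem (mul_mem g1 ha.2) (Subgroup.inv_mem _ g1)⟩)
    (fun a ha => cj h1 (q2.le ⟨a, ha.1, rfl⟩)) ⟨_, ⟨x5, pow_mem x1 _⟩, by
      rw [x4]; intro q; rw [q, orderOf_one] at hu; exact hl.out.ne_one hu.symm⟩
  obtain ⟨z0, z1, rfl⟩ := r2.ge (mem_zpowers v)
  obtain ⟨z, z2, z3, z4⟩ := eig π (k := k) r1 (cm R r1) g1 (fun a ha => cj h2 (r2.le ⟨a, ha, rfl⟩)) ⟨z0, z1, by
    intro q; rw [q, orderOf_one] at hv; exact hm.out.ne_one hv.symm⟩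
  have hc : Commute y z := by
    have d := IsPGroup.disjoint_of_ne l m hlm Q R q1 r1
    have : y * z * y⁻¹ * z⁻¹ = 1 := (disjoint_def.1 d) (by
      rw [mul_assoc, mul_assoc, ← mul_assoc z]
      exact mul_mem y1 ((mem_normalizer_iff.1 (r0 z2).1 _).1 (inv_mem y1)))
      (mul_mem ((mem_normalizer_iff.1 y2 _).1 z2) (inv_mem z2))
    exact commutatorElement_eq_one_iff_commute.1 this
  refine ⟨y * z, ?_, isConj_iff.2 ⟨g, ?_⟩⟩
  · rw [hc.orderOf_mul_eq_mul_orderOf_of_coprime (by rw [y3, z3]; exact (Nat.coprime_primes hl.out hm.out).2 hlm), y3, z3]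
  · rw [hc.mul_pow, ← y4, ← z4]; group

theorem ab_of (l : ℕ) [hl : Fact l.Prime] (h : l ∣ Nat.card G → ∀ P : Sylow l G, ∀ a ∈ (P : Subgroup G), ∀ b ∈ (P : Subgroup G), a * b = b * a)
    (H : Subgroup G) (Q : Subgroup H) (hQ : IsPGroup l Q) : ∀ a ∈ Q, ∀ b ∈ Q, a * b = b * a := fun a ha b hb => by
  obtain ⟨n, hn⟩ := IsPGroup.iff_orderOf.1 hQ ⟨a, ha⟩
  obtain _ | n := n
  · rw [show a = 1 from congrArg Subtype.val (orderOf_eq_one_iff.1 hn), one_mul, mul_one]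
  obtain ⟨P, hP⟩ := (hQ.map H.subtype).exists_le_sylow
  refine Subtype.ext (h ?_ P _ (hP ⟨a, ha, rfl⟩) _ (hP ⟨b, hb, rfl⟩))
  rw [← Subgroup.orderOf_coe, ← Subgroup.orderOf_coe] at hn
  exact (Dvd.intro_left _ (pow_succ l n).symm).trans (hn ▸ orderOf_dvd_natCard _)

end grp

open H11 Cfsg Cfsg.Lie StSys

variable {D : ChevalleyDatum} [Good D] [Cert D] {K G R : Type*} [Field K] [Group G] [Group R]

theorem trans_ord [IsAlgClosed K] [Finite R] {S : StSys D K G} {A : S.Gal} {σ B} (T : Tws A σ B) {j : R →* G}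
    (hj : Function.Injective j) (hr : j.range = fixS σ) (p : ℕ) [hp : Fact p.Prime] [CharP K p] {y : R}
    (hy : ¬ p ∣ orderOf y) {k : ℕ} (hk : IsConj y (y ^ k)) :
    ∃ (c : Node D → Kˣ) (w : Weyl D), orderOf c = orderOf y ∧ mact ((k : ℤ) • 1 * corM w.1) c = c := by
  obtain ⟨x, c, e, -⟩ := T.semisimple hr p (g := y) hy
  obtain ⟨g, hg⟩ := isConj_iff.1 hk
  obtain ⟨-, -, m, -, -, -, -, h2, -⟩ := conj_bruhat A.gen (torS_mem A.hm c) (torS_mem A.hm (c ^ k)) (g := x⁻¹ * j g * x) (by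
    rw [map_pow, ← e, show (x⁻¹ * j y * x) ^ k = x⁻¹ * j y ^ k * x by simpa using conj_pow (a := x⁻¹), ← map_pow, ← hg]; simp [mul_assoc])
  rw [conj_torS _ (Weyl.aut _) (acts_π m)] at h2
  refine ⟨c, (S.π m)⁻¹, ?_, ?_⟩
  · rw [← orderOf_injective _ T.inj, ← e, ← orderOf_injective j hj]; exact (MulAut.conj x).symm.orderOf_eq _
  · rw [mact_mul, mact_smul, mact_one, zpow_natCast, ← T.inj h2, ← mact_mul, ← corM_mul', inv_mul_cancel]
    exact (congrArg (mact · c) corM_one).trans (mact_one c)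

end H28.Fa
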