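import Mathlib
import Cfsg.Prelude.Def_FusionFitting
import Cfsg.Agent.H28.Bal
import Cfsg.Agent.H28.Prod

/-! Central products of fusion systems. -/

set_option autoImplicit false
set_option linter.unusedSectionVars false
set_option linter.style.haveILetI false

open Cfsg Cfsg.FusionSystem Equiv
open H26 (IsSyl)

namespace H28

variable {Ω : Type*} [Group Ω] {p : ℕ} {S : Subgroup Ω} {F : FusionSystem S}
  {P Q R T U V W X Y Z P' Q' R' T₁ T₂ P₁ P₂ : Subgroup Ω} {f g f₁ f₂ : Perm Ω} {E₁ : FusionSystem T₁} {E₂ : FusionSystem T₂}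
  {D : FusionSystem T}

theorem mem_sup_of_comm (h : ∀ x ∈ T₁, ∀ y ∈ T₂, x * y = y * x) {x : Ω} :
    x ∈ T₁ ⊔ T₂ ↔ ∃ a ∈ T₁, ∃ b ∈ T₂, a * b = x :=
  H26.mem_sup_of_le_normalizer fun a ha => centralizer_le_normalizer' _ fun b hb => (h a ha b hb).symm

theorem homOn_mul (h : ∀ x ∈ T₁, ∀ y ∈ T₂, x * y = y * x) : HomOn (T₁.prod T₂) fun x : Ω × Ω => x.1 * x.2 := by
  intro x hx y hy
  simp only [Prod.fst_mul, Prod.snd_mul, mul_assoc]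
  rw [← mul_assoc y.1, h _ hy.1 _ hx.2, mul_assoc]

theorem img_mul (h : ∀ x ∈ T₁, ∀ y ∈ T₂, x * y = y * x) : img (fun x : Ω × Ω => x.1 * x.2) (T₁.prod T₂) = T₁ ⊔ T₂ := by
  ext x
  rw [(homOn_mul h).mem_img, mem_sup_of_comm h]
  exact ⟨fun ⟨y, a, b⟩ => ⟨_, a.1, _, a.2, b⟩, fun ⟨a, ha, b, hb, e⟩ => ⟨(a, b), ⟨ha, hb⟩, e⟩⟩

structure IsCP (E₁ : FusionSystem T₁) (E₂ : FusionSystem T₂) (D : FusionSystem T) : Prop where
  comm : ∀ x ∈ T₁, ∀ y ∈ T₂, x * y = y * x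
  c1 : E₁.IsCentral (T₁ ⊓ T₂)
  c2 : E₂.IsCentral (T₁ ⊓ T₂)
  eq : T = T₁ ⊔ T₂
  iff : ∀ P f, M D P f ↔ ∃ P₁ P₂ f₁ f₂, M E₁ P₁ f₁ ∧ M E₂ P₂ f₂ ∧
    ∀ x ∈ P, ∃ x₁ ∈ P₁, ∃ x₂ ∈ P₂, x₁ * x₂ = x ∧ f x = f₁ x₁ * f₂ x₂

theorem IsCP.symm (h : IsCP E₁ E₂ D) : IsCP E₂ E₁ D := by
  refine ⟨fun x hx y hy => (h.comm y hy x hx).symm, inf_comm T₁ T₂ ▸ h.c2, inf_comm T₁ T₂ ▸ h.c1, h.eq.trans (sup_comm ..),
    fun P f => (h.iff P f).trans ⟨?_, ?_⟩⟩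
  · rintro ⟨P₁, P₂, f₁, f₂, h1, h2, e⟩
    refine ⟨P₂, P₁, f₂, f₁, h2, h1, fun x hx => ?_⟩
    obtain ⟨a, ha, b, hb, e1, e2⟩ := e x hx
    exact ⟨b, hb, a, ha, (h.comm _ (h1.le ha) _ (h2.le hb)).symm.trans e1, e2.trans (h.comm _ (h1.mem ha) _ (h2.mem hb))⟩
  · rintro ⟨P₂, P₁, f₂, f₁, h2, h1, e⟩
    refine ⟨P₁, P₂, f₁, f₂, h1, h2, fun x hx => ?_⟩
    obtain ⟨b, hb, a, ha, e1, e2⟩ := e x hx
    exact ⟨a, ha, b, hb, (h.comm _ (h1.le ha) _ (h2.le hb)).trans e1, e2.trans (h.comm _ (h1.mem ha) _ (h2.mem hb)).symm⟩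

theorem IsCP.le1 (h : IsCP E₁ E₂ D) : T₁ ≤ T := h.eq ▸ le_sup_left
theorem IsCP.le2 (h : IsCP E₁ E₂ D) : T₂ ≤ T := h.eq ▸ le_sup_right
theorem IsCP.mem_iff (h : IsCP E₁ E₂ D) {x : Ω} : x ∈ T ↔ ∃ a ∈ T₁, ∃ b ∈ T₂, a * b = x := by
  rw [h.eq]; exact mem_sup_of_comm h.comm

section Fin
variable [Finite T₁] [Finite T₂]

theorem central_ker_mul (hc : ∀ x ∈ T₁, ∀ y ∈ T₂, x * y = y * x) (c1 : E₁.IsCentral (T₁ ⊓ T₂)) (c2 : E₂.IsCentral (T₁ ⊓ T₂))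
    {D₀ : FusionSystem (T₁.prod T₂)} (h : IsProd E₁ E₂ D₀) : D₀.IsCentral ((homOn_mul hc).pre ⊥) := by
  refine isCentral_iff.2 ⟨(homOn_mul hc).pre_le, fun P f hf => ?_⟩
  obtain ⟨f₁, f₂, h1, h2, e⟩ := (h P f).1 hf
  obtain ⟨g₁, a1, a2, a3⟩ := central_ext c1 h1
  obtain ⟨g₂, b1, b2, b3⟩ := central_ext c2 h2
  have key : ∀ x ∈ (homOn_mul hc).pre ⊥, x.1 ∈ T₁ ⊓ T₂ ∧ x.2 ∈ T₁ ⊓ T₂ := fun x hx => by
    have e : x.1 = x.2⁻¹ := eq_inv_of_mul_eq_one_left hx.2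
    exact ⟨⟨hx.1.1, e ▸ T₂.inv_mem hx.1.2⟩, by simpa [e] using T₁.inv_mem hx.1.1, hx.1.2⟩
  refine ⟨pc g₁ g₂, h.M_of a1 b1 (sup_le ((le_prod_pr P).trans (Subgroup.prod_mono le_sup_left le_sup_left)) fun x hx =>
    ⟨Subgroup.mem_sup_right (key x hx).1, Subgroup.mem_sup_right (key x hx).2⟩), fun x hx => ?_, fun x hx => ?_⟩
  · rw [e x hx, pc_apply, pc_apply, a2 _ (mem_pr1 hx), b2 _ (mem_pr2 hx)]
  · rw [pc_apply, a3 _ (key x hx).1, b3 _ (key x hx).2]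

theorem isCP_of_quo (hc : ∀ x ∈ T₁, ∀ y ∈ T₂, x * y = y * x) {D₀ : FusionSystem (T₁.prod T₂)} (h : IsProd E₁ E₂ D₀)
    (hq : IsQuo D₀ (fun x => x.1 * x.2) D) (hZ : D₀.IsCentral ((homOn_mul hc).pre ⊥)) : IsCP E₁ E₂ D := by
  have hz : ∀ z ∈ T₁ ⊓ T₂, (z, z⁻¹) ∈ (homOn_mul hc).pre ⊥ := fun z hz => ⟨⟨hz.1, T₂.inv_mem hz.2⟩, mul_inv_cancel z⟩
  refine ⟨hc, isCentral_iff.2 ⟨inf_le_left, fun P f hf => ?_⟩, isCentral_iff.2 ⟨inf_le_right, fun P f hf => ?_⟩,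
    hq.surj.symm.trans (img_mul hc), fun P f => ⟨fun hf => ?_, ?_⟩⟩
  · obtain ⟨g, h1, h2, h3⟩ := central_ext hZ (h.M_pc hf (M.one E₂ bot_le))
    obtain ⟨g₁, g₂, a, -, e⟩ := (h _ g).1 h1
    refine ⟨g₁, a.mono (sup_le (fun x hx => mem_pr1 (x := (x, 1)) (Subgroup.mem_sup_left ⟨hx, rfl⟩)) fun x hx =>
      mem_pr1 (x := (x, x⁻¹)) (Subgroup.mem_sup_right (hz x hx))), fun x hx => ?_, fun x hx => ?_⟩
    · exact congrArg Prod.fst ((e (x, 1) (Subgroup.mem_sup_left ⟨hx, rfl⟩)).symm.trans (h2 _ ⟨hx, rfl⟩))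
    · exact congrArg Prod.fst ((e _ (Subgroup.mem_sup_right (hz x hx))).symm.trans (h3 _ (hz x hx)))
  · obtain ⟨g, h1, h2, h3⟩ := central_ext hZ (h.M_pc (M.one E₁ bot_le) hf)
    obtain ⟨g₁, g₂, -, a, e⟩ := (h _ g).1 h1
    have hz' : ∀ z ∈ T₁ ⊓ T₂, (z⁻¹, z) ∈ (homOn_mul hc).pre ⊥ := fun z a => by simpa using hz _ (inv_mem a)
    refine ⟨g₂, a.mono (sup_le (fun x hx => mem_pr2 (x := (1, x)) (Subgroup.mem_sup_left ⟨rfl, hx⟩)) fun x hx =>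
      mem_pr2 (x := (x⁻¹, x)) (Subgroup.mem_sup_right (hz' x hx))), fun x hx => ?_, fun x hx => ?_⟩
    · exact congrArg Prod.snd ((e (1, x) (Subgroup.mem_sup_left ⟨rfl, hx⟩)).symm.trans (h2 _ ⟨rfl, hx⟩))
    · exact congrArg Prod.snd ((e _ (Subgroup.mem_sup_right (hz' x hx))).symm.trans (h3 _ (hz' x hx)))
  · obtain ⟨g, h1, h2⟩ := hq.lift P f hf
    obtain ⟨g₁, g₂, a, b, e⟩ := (h _ g).1 h1
    refine ⟨_, _, g₁, g₂, a, b, fun x hx => ?_⟩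
    obtain ⟨y, hy, rfl⟩ := hq.exists_eq (hf.le hx)
    exact ⟨_, mem_pr1 (x := y) ⟨hy, hx⟩, _, mem_pr2 (x := y) ⟨hy, hx⟩, rfl, by rw [h2 y ⟨hy, hx⟩, e y ⟨hy, hx⟩]; rfl⟩
  · rintro ⟨P₁, P₂, f₁, f₂, h1, h2, e⟩
    obtain ⟨g, a, b⟩ := hq.mor _ _ (h.M_pc h1 h2)
    refine (a.mono fun x hx => ?_).congr fun x hx => ?_
    · obtain ⟨x₁, a1, x₂, a2, rfl, -⟩ := e x hx
      exact mem_img_of_mem (f := fun x : Ω × Ω => x.1 * x.2) (x := (x₁, x₂)) ⟨a1, a2⟩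
    · obtain ⟨x₁, a1, x₂, a2, rfl, e'⟩ := e x hx
      exact (b (x₁, x₂) ⟨a1, a2⟩).trans e'.symm

theorem exists_quo_mul (hc : ∀ x ∈ T₁, ∀ y ∈ T₂, x * y = y * x) {D₀ : FusionSystem (T₁.prod T₂)}
    (hZ : D₀.IsCentral ((homOn_mul hc).pre ⊥)) (hT : T = T₁ ⊔ T₂) : ∃ D : FusionSystem T, IsQuo D₀ (fun x => x.1 * x.2) D := by
  obtain ⟨D, hD⟩ := exists_factor D₀ (homOn_mul hc) ((img_mul hc).trans hT.symm)
  refine ⟨D, isQuo_of_ext _ (normal_sc (central_normal hZ)) ((img_mul hc).trans hT.symm) hD fun P f hf => ?_⟩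
  obtain ⟨g, h1, h2, -⟩ := central_ext hZ hf
  exact ⟨g, h1, fun x hx => by rw [h2 x hx, inv_mul_cancel]; exact one_mem _⟩

theorem exists_isCP (hc : ∀ x ∈ T₁, ∀ y ∈ T₂, x * y = y * x) (c1 : E₁.IsCentral (T₁ ⊓ T₂)) (c2 : E₂.IsCentral (T₁ ⊓ T₂)) :
    ∃ D : FusionSystem (T₁ ⊔ T₂), IsCP E₁ E₂ D := by
  obtain ⟨D₀, h⟩ := exists_isProd E₁ E₂
  obtain ⟨D, hD⟩ := exists_quo_mul hc (central_ker_mul hc c1 c2 h) rfl
  exact ⟨D, isCP_of_quo hc h hD (central_ker_mul hc c1 c2 h)⟩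

theorem IsCP.exists_quo (h : IsCP E₁ E₂ D) : ∃ D₀, IsProd E₁ E₂ D₀ ∧ D₀.IsCentral ((homOn_mul h.comm).pre ⊥) ∧
    IsQuo D₀ (fun x => x.1 * x.2) D := by
  obtain ⟨D₀, h0⟩ := exists_isProd E₁ E₂
  have hZ := central_ker_mul h.comm h.c1 h.c2 h0
  obtain ⟨D', hD⟩ := exists_quo_mul h.comm hZ h.eq
  haveI := hD.finite
  obtain rfl : D' = D := eq_of_M fun P f => ((isCP_of_quo h.comm h0 hD hZ).iff P f).trans (h.iff P f).symm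
  exact ⟨D₀, h0, hZ, hD⟩

theorem IsCP.finite (h : IsCP E₁ E₂ D) : Finite T := let ⟨_, _, _, a⟩ := h.exists_quo; a.finite

theorem isCP_iff : IsCentralProductOf E₁ E₂ D ↔ IsCP E₁ E₂ D := by
  constructor
  · rintro ⟨D₀, h0, Z, θ, h1, -, -, h2, h3, h4⟩
    have hZ := central_iff_le_center.2 h1
    have e : ∀ x ∈ T₁.prod T₂, tot θ x = x.1 * x.2 := fun x hx => by
      rw [tot_apply θ hx]
      refine Eq.trans ?_ (congrArg₂ (· * ·) (h2 x.1 ⟨hx.1, one_mem _⟩) (h3 x.2 ⟨one_mem _, hx.2⟩))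
      rw [← map_mul]
      congr 1; ext <;> simp
    have hc : ∀ x ∈ T₁, ∀ y ∈ T₂, x * y = y * x := fun x hx y hy => by
      have := (homOn_tot θ).map_mul (x := (1, y)) (y := (x, 1)) ⟨one_mem _, hy⟩ ⟨hx, one_mem _⟩
      rw [e (1, y) ⟨one_mem _, hy⟩, e (x, 1) ⟨hx, one_mem _⟩, e _ (mul_mem (⟨one_mem _, hy⟩ : (1, y) ∈ T₁.prod T₂)
        (⟨hx, one_mem _⟩ : (x, 1) ∈ T₁.prod T₂))] at this
      simpa using this
    refine isCP_of_quo hc (isProductSystem_iff.1 h0) ((isQuo_of_factor_normal (central_normal hZ) h4).congr e) ?_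
    refine central_mono hZ fun x hx => ?_
    rw [factor_ker h4]
    exact ⟨hx.1, by rw [e x hx.1]; exact hx.2⟩
  · intro h
    obtain ⟨D₀, h0, hZ, hq⟩ := h.exists_quo
    have hq' := hq.congr fun x hx => (tot_toHom (homOn_mul h.comm) hx).symm
    refine ⟨D₀, isProductSystem_iff.2 h0, _, (homOn_mul h.comm).toHom, ?_, ?_, ?_, fun x _ => mul_one x,
      fun x _ => one_mul x, hq'.isFactorSystem⟩
    · refine le_center (central_mono hZ fun x hx => ⟨hx.1, ?_⟩)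
      exact (tot_toHom (homOn_mul h.comm) hx.1).symm.trans hx.2
    · refine eq_bot_iff.2 fun x hx => ?_
      have a : x.2 = 1 := hx.2.2
      have b : x.1 * x.2 = 1 := (tot_toHom (homOn_mul h.comm) hx.1.1).symm.trans hx.1.2
      exact Prod.ext (by simpa [a] using b) a
    · refine eq_bot_iff.2 fun x hx => ?_
      have a : x.1 = 1 := hx.2.1
      have b : x.1 * x.2 = 1 := (tot_toHom (homOn_mul h.comm) hx.1.1).symm.trans hx.1.2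
      exact Prod.ext a (by simpa [a] using b)

theorem IsCP.isPGroup (h : IsCP E₁ E₂ D) (h₁ : IsPGroup p T₁) (h₂ : IsPGroup p T₂) : IsPGroup p T :=
  let ⟨_, _, _, a⟩ := h.exists_quo; a.isPGroup (isPGroup_prod h₁ h₂)

theorem IsCP.sat [Fact p.Prime] (h : IsCP E₁ E₂ D) (h₁ : IsPGroup p T₁) (h₂ : IsPGroup p T₂) (s₁ : E₁.IsSaturated p)
    (s₂ : E₂.IsSaturated p) : D.IsSaturated p :=
  let ⟨_, a, _, b⟩ := h.exists_quo; b.sat (isPGroup_prod h₁ h₂) (a.sat h₁ h₂ s₁ s₂)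

theorem IsCP.exists_ext (h : IsCP E₁ E₂ D) (h1 : M E₁ P₁ f₁) (h2 : M E₂ P₂ f₂) :
    ∃ g, M D (P₁ ⊔ P₂) g ∧ ∀ x ∈ P₁, ∀ y ∈ P₂, g (x * y) = f₁ x * f₂ y := by
  obtain ⟨D₀, h0, -, hq⟩ := h.exists_quo
  obtain ⟨g, a, b⟩ := hq.mor _ _ (h0.M_pc h1 h2)
  refine ⟨g, a.mono (sup_le (fun x hx => ?_) fun x hx => ?_), fun x hx y hy => b (x, y) ⟨hx, hy⟩⟩
  · simpa using mem_img_of_mem (f := fun x : Ω × Ω => x.1 * x.2) (x := (x, 1)) (P := P₁.prod P₂) ⟨hx, one_mem _⟩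
  · simpa using mem_img_of_mem (f := fun x : Ω × Ω => x.1 * x.2) (x := (1, x)) (P := P₁.prod P₂) ⟨one_mem _, hx⟩

theorem IsCP.cen1 (h : IsCP E₁ E₂ D) : Cen D E₁ T₂ := by
  refine ⟨fun y hy => mem_centralizerIn.2 ⟨h.le2 hy, fun x hx => h.comm x hx y hy⟩, fun P f hf => ?_⟩
  obtain ⟨g, h1, h2⟩ := h.exists_ext hf (M.one E₂ le_rfl)
  exact ⟨g, h1, fun x hx => by simpa using h2 x hx 1 (one_mem _), fun y hy => by
    simpa [hf.hom.map_one] using h2 1 (one_mem _) y hy⟩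

theorem IsCP.cen2 (h : IsCP E₁ E₂ D) : Cen D E₂ T₁ := h.symm.cen1

theorem IsCP.sub1 (h : IsCP E₁ E₂ D) : E₁.IsSubsystemOf D := sub_iff_M.2 fun P f hf =>
  let ⟨_, a, b, _⟩ := h.cen1.2 P f hf; (a.mono le_sup_left).congr b

theorem IsCP.sub2 (h : IsCP E₁ E₂ D) : E₂.IsSubsystemOf D := h.symm.sub1

theorem IsCP.M_inf (h : IsCP E₁ E₂ D) (hf : M D P f) : M E₁ (P ⊓ T₁) f := by
  obtain ⟨P₁, P₂, f₁, f₂, h1, h2, e⟩ := (h.iff P f).1 hf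
  obtain ⟨g, a, b, c⟩ := central_ext h.c1 h1
  have key : ∀ x ∈ P ⊓ T₁, x ∈ P₁ ⊔ T₁ ⊓ T₂ ∧ g x = f x := fun x hx => by
    obtain ⟨x₁, a1, x₂, a2, rfl, e'⟩ := e x hx.1
    have hz : x₂ ∈ T₁ ⊓ T₂ := ⟨(T₁.mul_mem_cancel_left (h1.le a1)).1 hx.2, h2.le a2⟩
    exact ⟨mul_mem (Subgroup.mem_sup_left a1) (Subgroup.mem_sup_right hz), by
      rw [a.hom _ (Subgroup.mem_sup_left a1) _ (Subgroup.mem_sup_right hz), b _ a1, c _ hz, e', central_fix h.c2 h2 a2 hz]⟩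
  exact (a.mono fun x hx => (key x hx).1).congr fun x hx => (key x hx).2

theorem IsCP.M1 (h : IsCP E₁ E₂ D) (hf : M D P f) (hP : P ≤ T₁) : M E₁ P f := (h.M_inf hf).mono (le_inf le_rfl hP)
theorem IsCP.M2 (h : IsCP E₁ E₂ D) (hf : M D P f) (hP : P ≤ T₂) : M E₂ P f := h.symm.M1 hf hP

theorem IsCP.sc1 (h : IsCP E₁ E₂ D) : D.StronglyClosed T₁ :=
  haveI := h.finite
  stronglyClosed_iff.2 ⟨h.le1, fun _ _ hf _ a b => (h.M_inf hf).mem ⟨a, b⟩⟩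

theorem IsCP.sub_of [Finite S] (h : IsCP E₁ E₂ D) (h₁ : Cen F E₁ T₂) (h₂ : Cen F E₂ T₁) : D.IsSubsystemOf F := by
  haveI := h.finite
  refine sub_iff_M.2 fun P f hf => ?_
  obtain ⟨P₁, P₂, f₁, f₂, h1, h2, e⟩ := (h.iff P f).1 hf
  obtain ⟨g₁, a1, a2, a3⟩ := h₁.2 _ _ h1
  obtain ⟨g₂, b1, b2, b3⟩ := h₂.2 _ _ h2
  have key : ∀ x ∈ P, x ∈ P₁ ⊔ T₂ ∧ g₁ x ∈ P₂ ⊔ T₁ ∧ g₂ (g₁ x) = f x := fun x hx => by
    obtain ⟨x₁, c1, x₂, c2, rfl, e'⟩ := e x hx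
    have c3 := h2.le c2
    rw [a1.hom _ (Subgroup.mem_sup_left c1) _ (Subgroup.mem_sup_right c3), a2 _ c1, a3 _ c3,
      b1.hom _ (Subgroup.mem_sup_right (h1.mem c1)) _ (Subgroup.mem_sup_left c2), b3 _ (h1.mem c1), b2 _ c2, e']
    exact ⟨mul_mem (Subgroup.mem_sup_left c1) (Subgroup.mem_sup_right c3),
      mul_mem (Subgroup.mem_sup_right (h1.mem c1)) (Subgroup.mem_sup_left c2), rfl⟩
  exact ((a1.mono fun x hx => (key x hx).1).comp b1 fun x hx => (key x hx).2.1).congr fun x hx => (key x hx).2.2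

theorem IsCP.same {D' : FusionSystem U} (h : IsCP E₁ E₂ D) (h' : IsCP E₁ E₂ D') : Same D D' :=
  haveI := h.finite; haveI := h'.finite
  ⟨h.sub_of h'.cen1 h'.cen2, h'.sub_of h.cen1 h.cen2⟩

theorem IsCP.normal1 [Fact p.Prime] (h : IsCP E₁ E₂ D) (h₁ : IsPGroup p T₁) (h₂ : IsPGroup p T₂) (s₁ : E₁.IsSaturated p)
    (s₂ : E₂.IsSaturated p) : E₁.IsNormalIn D p := by
  haveI := h.finite
  have hs := h.sat h₁ h₂ s₁ s₂
  refine isNormalIn_iff.2 ⟨⟨s₁, hs, inv_of_strong (h.isPGroup h₁ h₂) hs h.sc1 h.sub1 fun P P' Q f g hf a b c hg hP => ?_⟩,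
    fun a ha => ?_⟩
  · exact ((((h.M1 hg c).mono a).inv hP.mem).comp hf fun x => hP.inv_mem).comp (h.M1 hg c) (fun x hx => b _ (hP.inv_mem hx))
      |>.congr fun x _ => by simp only [ma]
  · obtain ⟨b, b1, b2, b3⟩ := h.cen1.2 _ _ ha.map
    refine ⟨b, b1.mono (sup_le le_sup_left (centralizerIn_le.trans h.eq.le)), b2, fun c hc => ?_⟩
    obtain ⟨x, hx, y, hy, rfl⟩ := h.mem_iff.1 hc.1
    rw [b1.hom _ (Subgroup.mem_sup_left hx) _ (Subgroup.mem_sup_right hy), b3 y hy, b2 x hx, mul_inv_rev, mul_assoc,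
      ← mul_assoc x⁻¹, h.comm _ (mul_mem (T₁.inv_mem hx) (ha.map_mem hx)) _ hy, inv_mul_cancel_left]
    exact mul_mem (T₁.inv_mem hx) (ha.map_mem hx)

theorem IsCP.normal2 [Fact p.Prime] (h : IsCP E₁ E₂ D) (h₁ : IsPGroup p T₁) (h₂ : IsPGroup p T₂) (s₁ : E₁.IsSaturated p)
    (s₂ : E₂.IsSaturated p) : E₂.IsNormalIn D p := h.symm.normal1 h₂ h₁ s₂ s₁

theorem IsCP.pidx2 [Fact p.Prime] {E₂ : FusionSystem T₂} (h : IsCP (innerFusionSystem T₁) E₂ D) (hT : IsPGroup p T) :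
    E₂.HasPPowerIndexIn D p := by
  haveI := h.finite
  refine pidx_iff.2 ⟨h.sub2, hyperfocal_le_of_inner_mod hT (sc_le_normalizer h.symm.sc1) fun P f hf => ?_,
    fun P hP b hb _ => h.M2 hb.map hP⟩
  obtain ⟨P₁, P₂, f₁, f₂, h1, h2, e⟩ := (h.iff P f).1 hf
  obtain ⟨-, s, hs, e1⟩ := M_inner.1 h1
  refine ⟨s, h.le1 hs, fun x hx => ?_⟩
  obtain ⟨x₁, c1, x₂, c2, rfl, e'⟩ := e x hx
  have : s * (x₁ * x₂) * s⁻¹ = s * x₁ * s⁻¹ * x₂ := by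
    rw [mul_assoc _ s⁻¹, h.comm _ (T₁.inv_mem hs) _ (h2.le c2)]; simp only [mul_assoc]
  rw [e', e1 _ c1, this, mul_inv_rev, mul_assoc, inv_mul_cancel_left]
  exact mul_mem (T₂.inv_mem (h2.le c2)) (h2.mem c2)

end Fin

variable [Finite S] [Fact p.Prime] (hS : IsPGroup p S)
include hS

theorem mem_pCore_of_triv_inner (hT : F.StronglyClosed T) (hf : Iso F P P f) (h2 : Triv T P f) {s : Ω} (hs : s ∈ P)
    (h1 : ∀ x ∈ P, x ∈ T → f x = s * x * s⁻¹) : res P f ∈ pCoreOf p (F.autGroup P) := by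
  have hP := hf.le
  haveI := finite_mulAut hP
  have hn : ∀ s ∈ P, ∀ x ∈ T, s * x * s⁻¹ ∈ T := fun s hs x => conj_mem_of_normalizer (sc_le_normalizer hT (hP hs))
  obtain ⟨A, hA⟩ := le_of_mul_closed (A := F.autGroup P ⊓ commIn P T)
    (C := fun α => ∃ s ∈ P, ∀ x ∈ P, x ∈ T → ex P α x = s * x * s⁻¹) ⟨1, one_mem _, by simp⟩ (by
      rintro a - b - ⟨s, hs, e⟩ ⟨t, ht, e'⟩
      refine ⟨s * t, mul_mem hs ht, fun x hx hx' => ?_⟩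
      rw [ex_mul_apply, e' x hx hx', e _ (mul_mem (mul_mem ht hx) (P.inv_mem ht)) (hn t ht x hx')]; group)
  refine H26.le_pCoreOf (Q := A) (fun a ha => ((hA a).1 ha).1.1) (Subgroup.le_normalizer_iff.2 fun a ha b hb => ?_)
    (H26.isPGroup_iff_mem.2 fun a ha => ?_) ((hA _).2 ⟨⟨hf.res_mem, (triv_res hf.hiso).2 h2⟩, s, hs, fun x hx hx' => by
      rw [hf.hiso.ex_res hx, h1 x hx hx']⟩)
  · obtain ⟨⟨b1, b2⟩, t, ht, e⟩ := (hA b).1 hb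
    have ha' := iso_ex hP ha
    refine (hA _).2 ⟨⟨mul_mem (mul_mem ha b1) (Subgroup.inv_mem _ ha), conj_mem_of_normalizer (le_normalizer_commIn hT hP ha) b2⟩,
      ex P a t, ex_mem a ht, fun x hx hx' => ?_⟩
    rw [ex_mul_apply, ex_mul_apply, ex_inv_apply, e _ (ha'.inv_mem hx) (sc_mem hT ha'.symm.map hx hx'),
      ha'.hom.map_conj ht (ha'.inv_mem hx), ai]
  · obtain ⟨⟨b1, b2⟩, t, ht, e⟩ := (hA a).1 ha
    obtain ⟨k, hk⟩ := exists_pow_card hS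
    have key : ∀ n : ℕ, ∀ x ∈ P, x ∈ T → ex P (a ^ n) x = t ^ n * x * (t ^ n)⁻¹ := fun n x hx hx' => by
      induction n with
      | zero => simp
      | succ n ih =>
        rw [pow_succ', ex_mul_apply, ih, e _ (mul_mem (mul_mem (pow_mem ht n) hx) (P.inv_mem (pow_mem ht n)))
          (hn _ (pow_mem ht n) x hx'), pow_succ']; group
    have := mem_pCore_of_triv_fix hS hT (iso_ex hP (pow_mem b1 (p ^ k))) (fun x hx hx' => by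
      rw [key _ x hx hx', hk t (hP ht)]; simp) (pow_mem b2 (p ^ k))
    obtain ⟨j, hj⟩ := H26.isPGroup_iff_mem.1 (H26.isPGroup_pCoreOf _) _ this
    exact ⟨k + j, by rw [pow_add, pow_mul, ← res_ex (a ^ p ^ k), hj]⟩

theorem left_mem_of_radical (h₁ : F.StronglyClosed T₁) (h₂ : F.StronglyClosed T₂) (hc : ∀ x ∈ T₁, ∀ y ∈ T₂, x * y = y * x)
    (hC : F.IsCentric R) (hR : F.IsRadical p R) {x y : Ω} (hx : x ∈ T₁) (hy : y ∈ T₂) (h : x * y ∈ R) : x ∈ R := by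
  have hm := homOn_mul hc
  have n₁ := hR.1.trans (sc_le_normalizer h₁)
  have n₂ := hR.1.trans (sc_le_normalizer h₂)
  have hQ : pr1 (hm.pre R) ≤ T₁ := pr1_le hm.pre_le
  haveI := finite_of_le (hQ.trans h₁.1)
  refine le_of_normalizerIn_le (Q := pr1 (hm.pre R)) hS hR.1 (hQ.trans h₁.1) (fun s hs => mem_normalizer_of_conj_mem ?_)
    (fun s hs => ?_) (mem_pr1 (x := (x, y)) ⟨⟨hx, hy⟩, h⟩)
  · rintro _ ⟨z, hz, rfl⟩
    refine mem_pr1 (x := (s * z.1 * s⁻¹, s * z.2 * s⁻¹))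
      ⟨⟨conj_mem_of_normalizer (n₁ hs) hz.1.1, conj_mem_of_normalizer (n₂ hs) hz.1.2⟩, ?_⟩
    have := mul_mem (mul_mem hs hz.2) (R.inv_mem hs)
    convert this using 1; group
  · obtain ⟨⟨z, hz, rfl⟩, hn⟩ := hs
    have hs' : z.1 ∈ normalizerIn S R := ⟨h₁.1 hz.1.1, hn⟩
    refine mem_of_res_cj_mem_Inn (centric_self hC) hR.1 hs' ?_
    rw [← hR.2]
    refine mem_pCore_of_triv_inner hS h₁ (Iso.cj F hR.1 hs') (triv_cj n₁ hz.1.1) hz.2 fun u _ hu => ?_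
    rw [cj_apply, mul_inv_rev, mul_assoc z.1 z.2, ← hc u hu _ hz.1.2, MonoidHom.coe_fst]; group

variable (hF : F.IsSaturated p)
include hF

theorem cen_of_comm (h₁ : E₁.IsNormalIn F p) (h₂ : F.StronglyClosed T₂) (hc : ∀ x ∈ T₁, ∀ y ∈ T₂, x * y = y * x)
    (c1 : E₁.IsCentral (T₁ ⊓ T₂)) : Cen F E₁ T₂ :=
  haveI := inv_finite h₁.1.2.2
  cen_of_fix hS hF h₁ h₂ (fun _ _ hf _ a b => central_fix c1 hf a ⟨hf.le a, b⟩) fun x hx =>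
    mem_centralizerIn.2 ⟨inv_le h₁.1.2.2 hx, fun y hy => (hc x hx y hy).symm⟩

theorem Cen.ext_triv (h₁ : E₁.IsNormalIn F p) (h : Cen F E₁ T₂) (hf : Iso E₁ T₁ T₁ f) (hc : (orderOf (res T₁ f)).Coprime p)
    (h1 : T₁ ≤ W) (h2 : W ≤ T₁ ⊔ centralizerIn S T₁) :
    ∃ b, Iso F W W b ∧ Triv T₁ W b ∧ (∀ x ∈ T₁, b x = f x) ∧ ∀ y ∈ T₂, b y = y := by
  have hT := h₁.1.2.2.2.1
  haveI := finite_of_le hT.1
  obtain ⟨β, a, b, c⟩ := normal_ext_triv h₁ hf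
  have hi := hf.hiso.congr fun x hx => (c x hx).symm
  obtain ⟨n, d, e⟩ := exists_pow_p' a hi (by rwa [hi.res_congr c])
  have e1 : ∀ x ∈ T₁, (β ^ n) x = f x := fun x hx => (d x hx).trans (c x hx)
  have e2 : (T₁ ⊔ centralizerIn S T₁) ⊓ T₁ = T₁ := inf_eq_right.2 le_sup_left
  refine ⟨β ^ n, (b.pow a.hiso n).iso (a.pow n) (inf_le_right.trans h1) h2, (b.pow a.hiso n).mono h2, e1, fun y hy =>
    h.fix hS hF h₁ (by rw [e2]; exact tc_top hT) (a.pow n) (b.pow a.hiso n) e (by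
      rw [e2]; exact hf.map.congr fun x hx => (e1 x hx).symm) hy (Subgroup.mem_sup_right (h.1 hy))⟩

theorem IsCP.normalIn (h : IsCP E₁ E₂ D) (h₁ : E₁.IsNormalIn F p) (h₂ : E₂.IsNormalIn F p) : D.IsNormalIn F p := by
  have i₁ := h₁.1.2.2
  have i₂ := h₂.1.2.2
  have s₁ := i₁.2.1
  have s₂ := i₂.2.1
  haveI := inv_finite i₁
  haveI := inv_finite i₂
  haveI := h.finite
  have c₁ := cen_of_comm hS hF h₁ s₂ h.comm h.c1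
  have c₂ := cen_of_comm hS hF h₂ s₁ h.symm.comm h.symm.c1
  have hT : F.StronglyClosed T := h.eq ▸ sc_sup hS hF s₁ s₂
  have hinv : ∀ P P' f a, M D P f → Iso F T T a → HIso P P' a → M D P' (a * f * a⁻¹) := fun P P' f a hf ha hP => by
    obtain ⟨P₁, P₂, f₁, f₂, h1, h2, e⟩ := (h.iff P f).1 hf
    have a1 := (ha.hom.mono (h1.le.trans h.le1)).hiso_img
    have a2 := (ha.hom.mono (h2.le.trans h.le2)).hiso_img
    refine (h.iff _ _).2 ⟨_, _, _, _, inv_conj i₁ h1 (sc_iso s₁ ha.map h.le1) a1, inv_conj i₂ h2 (sc_iso s₂ ha.map h.le2) a2,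
      fun x hx => ?_⟩
    obtain ⟨x₁, b1, x₂, b2, e1, e2⟩ := e _ (hP.inv_mem hx)
    refine ⟨a x₁, a1.map_mem b1, a x₂, a2.map_mem b2, ?_, ?_⟩
    · rw [← ha.hom _ (h.le1 (h1.le b1)) _ (h.le2 (h2.le b2)), e1, ai]
    · simp only [ma, ia]; rw [e2, ha.hom _ (h.le1 (h1.mem b1)) _ (h.le2 (h2.mem b2))]
  have aux : ∀ {T₁ T₂ : Subgroup Ω} {E₁ : FusionSystem T₁} {E₂ : FusionSystem T₂}, IsCP E₁ E₂ D → E₁.IsInvariantIn F →
      ∀ R b t, Iso F R R b → t ∈ normalizerIn T R → M E₁ (R ⊓ T₁) (b * cj t * b⁻¹) := fun h i R b t hb ht => by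
    obtain ⟨x, hx, y, hy, rfl⟩ := h.mem_iff.1 ht.1
    have e : ∀ u ∈ R ⊓ _, cj x u = cj (x * y) u := fun u hu => by
      rw [cj_apply, cj_apply, mul_inv_rev, mul_assoc x y, ← h.comm u hu.2 _ hy]; group
    have hi := sc_iso_inf i.2.1 hb
    exact inv_strong i ((M.cj _ inf_le_right hx).congr e) le_rfl (fun u hu => ⟨conj_mem_of_normalizer ht.2 hu.1,
      conj_mem_of_normalizer (sc_le_normalizer i.2.1 (hT.1 ht.1)) hu.2⟩) inf_le_right hi.map hi.hiso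
  refine normalIn_of_cop hS ⟨h.sat (hS.to_le s₁.1) (hS.to_le s₂.1) h₁.1.1 h₂.1.1, hF, isInvariantIn_iff.2
    ⟨h.sub_of c₁ c₂, hT, hinv, fun P hP f hf => frattini_of hS hF hT hinv (fun R b t hR hb ht => ?_) hP hf⟩⟩ fun a ha hc => ?_
  · refine (h.iff _ _).2 ⟨_, _, _, _, aux h i₁ R b t hb ht, aux h.symm i₂ R b t hb ht, fun x hx => ?_⟩
    obtain ⟨x₁, b1, x₂, b2, rfl⟩ := h.mem_iff.1 hx.2
    have b3 := left_mem_of_radical hS s₁ s₂ h.comm hR.1 (essential_radical hS hF hR) b1 b2 hx.1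
    have b4 := (R.mul_mem_cancel_left b3).1 hx.1
    exact ⟨x₁, ⟨b3, b1⟩, x₂, ⟨b4, b2⟩, rfl, (hiso_conj_cj hb.hiso ht.2).hom _ b3 _ b4⟩
  · have aux2 : ∀ {T₁ T₂ : Subgroup Ω} [Finite T₁] [Finite T₂] {E₁ : FusionSystem T₁} {E₂ : FusionSystem T₂}, IsCP E₁ E₂ D →
        E₁.IsNormalIn F p → Cen F E₁ T₂ → ∃ b, Iso F (T ⊔ centralizerIn S T) (T ⊔ centralizerIn S T) b ∧
          Triv T (T ⊔ centralizerIn S T) b ∧ (∀ x ∈ T₁, b x = a x) ∧ ∀ y ∈ T₂, b y = y := fun h h₁ c₁ => by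
      have a1 := (h.M1 (ha.map.mono h.le1) le_rfl).iso_top
      obtain ⟨b, b1, b2, b3⟩ := c₁.ext_triv hS hF h₁ a1 (coprime_res ha.hiso a1.hiso h.le1 hc) (h.le1.trans le_sup_left)
        (sup_le (h.eq.le.trans (sup_le_sup_left c₁.1 _)) ((centralizerIn_mono h.le1).trans le_sup_right))
      exact ⟨b, b1, fun x hx => h.le1 (b2 x hx), b3⟩
    obtain ⟨b, b1, b2, b3, b4⟩ := aux2 h h₁ c₁
    obtain ⟨c, c1, c2, c3, c4⟩ := aux2 h.symm h₂ c₂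
    refine ⟨b * c, (c1.trans b1).map, fun x hx => ?_, fun x hx => c2.comp b2 (fun _ => c1.map_mem) x (Subgroup.mem_sup_right hx)⟩
    obtain ⟨x₁, d1, x₂, d2, rfl⟩ := h.mem_iff.1 hx
    rw [(c1.trans b1).hom _ (Subgroup.mem_sup_left (h.le1 d1)) _ (Subgroup.mem_sup_left (h.le2 d2)), ma, ma, c4 _ d1, b3 _ d1,
      c3 _ d2, b4 _ (sc_mem h.symm.sc1 ha.map (h.le2 d2) d2), ha.hom _ (h.le1 d1) _ (h.le2 d2)]

end H28
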