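import Mathlib
import Cfsg.Agent.H28.Res

/-! The centralizer in `S` of a normal subsystem. -/

set_option autoImplicit false
set_option linter.unusedSectionVars false
set_option linter.style.haveILetI false

open Cfsg Cfsg.FusionSystem Equiv
open H26 (IsSyl)

namespace H28

variable {Ω : Type*} [Group Ω] {p : ℕ} {S : Subgroup Ω} [Finite S] {F : FusionSystem S}
  {P Q R T U V X Y Z P' Q' R' T' : Subgroup Ω} {f g : Perm Ω} {𝓔 : ∀ T' : Subgroup Ω, FusionSystem T' → Prop}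

theorem res_mem_normalizer_autInducedBy (hP : P ≤ S) (hf : HomOn R f) (hi : HIso P P f) (hPR : P ≤ R) (hZ : Z ≤ R)
    (h : ∀ z ∈ Z, f z ∈ Z) : res P f ∈ Subgroup.normalizer (autInducedBy Z P : Set (MulAut P)) := by
  haveI := finite_mulAut hP
  refine mem_normalizer_of_conj_mem fun α hα => ?_
  obtain ⟨z, hz, rfl⟩ := mem_autInducedBy'.1 hα
  rw [hf.res_conj_cj hi hPR (hZ hz.1) hz.2]
  exact res_cj_mem (h z hz.1) (hi.mem_normalizer hf hPR (hZ hz.1) hz.2)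

/-- `Y` centralizes the subsystem `E` -/
def Cen (F : FusionSystem S) (E : FusionSystem T) (Y : Subgroup Ω) : Prop :=
  Y ≤ centralizerIn S T ∧ ∀ P f, M E P f → ∃ g, M F (P ⊔ Y) g ∧ (∀ x ∈ P, g x = f x) ∧ ∀ y ∈ Y, g y = y

theorem cen_iff {E : FusionSystem T} [Finite T] :
    Cen F E Y ↔ Y ≤ centralizerIn S T ∧ ∀ P, E.Hom P ⊆ F.centralizerHom Y P :=
  and_congr_right fun h => forall_congr' fun _ => by
    rw [hom_subset_centralizerHom_iff]
    exact forall_congr' fun f => forall_congr' fun hf => ⟨fun a => ⟨fun x hx => ⟨let ⟨_, b, _⟩ := a; b.le (Subgroup.mem_sup_left hx),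
      fun y hy => ((h hy).2 x (hf.le hx)).symm⟩, a⟩, fun a => a.2⟩

theorem Cen.mono {E : FusionSystem T} (h : Cen F E Y) (hX : X ≤ Y) : Cen F E X :=
  ⟨hX.trans h.1, fun P f hf => let ⟨g, a1, a2, a3⟩ := h.2 P f hf
    ⟨g, a1.mono (sup_le_sup_left hX _), a2, fun y hy => a3 y (hX hy)⟩⟩

theorem Cen.sub {E : FusionSystem T} {D : FusionSystem U} (h : Cen F E Y) (hD : D.IsSubsystemOf E) : Cen F D Y :=
  ⟨h.1.trans (centralizerIn_mono (le_of_sub hD)), fun P f hf => h.2 P f (hf.of_sub hD)⟩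

theorem Cen.conj {E : FusionSystem T} (hE : E.IsInvariantIn F) (h : Cen F E Y) (hg : M F R g) (hT : T ≤ R) (hY : Y ≤ R)
    {Y' : Subgroup Ω} (hi : HIso Y Y' g) : Cen F E Y' := by
  have a1 := sc_iso hE.2.1 hg hT
  refine ⟨fun y hy => ?_, fun P f hf => ?_⟩
  · obtain ⟨x, hx, rfl⟩ := hi.surj hy
    exact hg.mem_centralizerIn a1.hiso hT (hY hx) (h.1 hx).2
  obtain ⟨P', a2, a3⟩ := a1.symm.restrict hf.le
  have a0 := inv_conj hE hf a1.symm a3.hiso
  obtain ⟨k, b1, b2, b3⟩ := h.2 _ _ a0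
  have a4 := Iso.sup (hg.mono (sup_le (a2.trans hT) hY)) a3.hiso.symm hi
  refine ⟨g * (k * g⁻¹), (a4.symm.map.comp b1 fun _ => a4.inv_mem).comp hg fun x hx => b1.hom.mem_of_sup
    (fun y hy => hT (b2 y hy ▸ a0.mem hy)) (fun y hy => (b3 y hy).symm ▸ hY hy) _ (a4.inv_mem hx), fun x hx => ?_, fun y hy => ?_⟩
  · simp only [ma, b2 _ (a3.map_mem hx), inv_inv, ai]
  · simp only [ma, b3 _ (hi.inv_mem hy), ai]

/-- the centralizer of a normal subsystem -/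
def cenS (p : ℕ) (F : FusionSystem S) (E : FusionSystem T) : Subgroup Ω where
  carrier := {y | y ∈ centralizerIn S T ∧ ∀ P β, TC F T P → Bp F T (fam1 E) (P ⊔ centralizerIn S P) β →
    (orderOf (res (P ⊔ centralizerIn S P) β)).Coprime p → β y = y}
  mul_mem' := fun {a b} ha hb => ⟨mul_mem ha.1 hb.1, fun P β h1 h2 h3 => by
    rw [h2.iso.hom _ (Subgroup.mem_sup_right (centralizerIn_mono h1.1 ha.1)) _
      (Subgroup.mem_sup_right (centralizerIn_mono h1.1 hb.1)), ha.2 P β h1 h2 h3, hb.2 P β h1 h2 h3]⟩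
  one_mem' := ⟨one_mem _, fun _ _ _ h2 _ => h2.iso.hom.map_one⟩
  inv_mem' := fun {a} ha => ⟨inv_mem ha.1, fun P β h1 h2 h3 => by
    rw [h2.iso.hom.map_inv (Subgroup.mem_sup_right (centralizerIn_mono h1.1 ha.1)), ha.2 P β h1 h2 h3]⟩

theorem cenS_le {E : FusionSystem T} : cenS p F E ≤ centralizerIn S T := fun _ h => h.1

variable [Fact p.Prime] (hS : IsPGroup p S) (hF : F.IsSaturated p)
include hS hF

omit hF in
theorem u2_aux (hT : F.StronglyClosed T) (hc : TC F T Q) (hp : Pair p F Q P) (hf : Iso F P P f) (tf : Triv T P f)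
    (cf : (orderOf (res P f)).Coprime p) (hi : HIso Q Q f) (hg : Iso F R R g) (tg : Triv T R g)
    (cg : (orderOf (res R g)).Coprime p) (hR : P ⊔ centralizerIn S Q ≤ R) (hP : P ≤ normalizerIn S Q) (e : ∀ x ∈ Q, g x = f x) :
    ∃ z ∈ centralizerIn Q Q, ∀ x ∈ P, f x = g (z * x * z⁻¹) := by
  have h0 := hc.self hT.1
  have hPR := le_sup_left.trans hR
  have hQR := hp.le.trans hPR
  have h1 := hi.congr fun x hx => (e x hx).symm
  have h2 := (hg.map.mono hPR).iso_self fun u hu => by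
    have a1 := hg.map.inv_mul_mem_centralizerIn h1 hQR (hPR hu) (hf.map.mem hu) fun x hx => by
      rw [e _ (conj_mem_of_normalizer (hP hu).2 hx), e x hx, hf.hom.map_conj hu (hp.le hx)]
    simpa using mul_mem (hf.map_mem hu) (hp.le (h0 ⟨by simpa [mul_assoc] using mul_mem (inv_mem (tf u hu)) (tg u (hPR hu)), a1.2⟩))
  have h3 := hf.trans h2.symm
  have h4 : ∀ x ∈ Q, (g⁻¹ * f) x = x := fun x hx => by rw [ma, ← e x hx, ia]
  obtain ⟨s, hs, h5⟩ := mem_autInducedBy'.1 (hp.inner_of_triv hS hT ((centralizerIn_mono_left inf_le_right).trans h0) hc.1 h3 h4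
    (tf.comp ((tg.mono hPR).inv h2.hiso) fun _ => hf.map_mem))
  have h6 : s ∈ centralizerIn S Q := ⟨hs.1, fun x hx => by
    have := ex_res_cj hs.2 (hp.le hx)
    rw [h5, h3.hiso.ex_res (hp.le hx), h4 x hx] at this
    exact eq_mul_inv_iff_mul_eq.1 this⟩
  have h7 := hR (Subgroup.mem_sup_right h6)
  have h8 := hg.symm.map.mem_centralizerIn h1.symm hQR h7 h6.2
  have h9 := mul_mem (inv_mem h6) h8
  obtain ⟨k, hk⟩ := H26.isPGroup_iff_mem.1 hS s hs.1
  obtain ⟨z, hz, a1⟩ := mem_autInducedBy.1 (mem_of_comm_coprime (p := p) (N := autInducedBy (centralizerIn Q Q) P)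
    (res_mem_normalizer_autInducedBy hf.le hg.hom h2.hiso hPR (centralizerIn_le.trans hQR) fun z hz =>
      ⟨h1.map_mem hz.1, h1.comm_of_comm h1.hom le_rfl hz.1 hz.2⟩)
    (res_mem_normalizer_autInducedBy hf.le (homOn_cj ⊤ s) (hiso_cj_of_normalizer hs.2) le_top le_top fun z hz => by
      rw [cj_apply, ← h6.2 z hz.1, mul_inv_cancel_right]; exact hz) (by
      have b1 := h2.hiso.symm.mem_normalizer hg.symm.hom hPR h7 hs.2
      have := hg.symm.hom.res_conj_cj h2.hiso.symm hPR h7 hs.2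
      rw [h2.hiso.res_inv, inv_inv] at this
      rw [this, ← res_cj_inv hs.2, ← res_cj_mul (inv_mem hs.2) b1]
      exact res_cj_mem ⟨h0 ⟨tg.inv hg.hiso s h7, h9.2⟩, h9.2⟩ (mul_mem (inv_mem hs.2) b1))
    (coprime_res hg.hiso h2.hiso hPR cg) (by rwa [h5, h2.hiso.symm.res_mul hf.hiso, h2.hiso.res_inv, mul_inv_cancel_left])
    ⟨k, by rw [← res_cj_pow hs.2, hk]; simp⟩)
  exact ⟨z, hz, fun x hx => by rw [← a1 x hx, h5, h3.hiso.ex_res hx, ma, ai]⟩

theorem Fam.u2 (h : Fam p F T 𝓔) (hc : TC F T Q) (hQP : Q ≤ P) (hP : P ≤ normalizerIn S Q) (hf : Iso F P P f) (tf : Triv T P f)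
    (cf : (orderOf (res P f)).Coprime p) (hg : Iso F P P g) (tg : Triv T P g) (cg : (orderOf (res P g)).Coprime p)
    (hb : Hb F T 𝓔 Q f) (e : ∀ x ∈ Q, g x = f x) : ∃ z ∈ centralizerIn Q Q, ∀ x ∈ P, g x = f (z * x * z⁻¹) := by
  wlog hp : F.IsFullyNormalized Q ∧ Pair p F Q P generalizing P Q f g
  · obtain ⟨Q₁, ψ, a1, a2, a3⟩ := sat_exists_fn hS hF (hQP.trans hf.le)
    obtain ⟨P₁, a4⟩ := a1.exists_iso_le hP
    have a5 : P₁ ≤ normalizerIn S Q₁ := fun y hy => by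
      obtain ⟨x, hx, rfl⟩ := a4.surj hy
      exact a1.normalizerIn_mem a2 (hQP.trans hf.le) (hP hx)
    obtain ⟨P₂, φ, b1, b2, b3, b4⟩ := exists_pair_fn hS hF a3 ((a2.le_iff a4.hiso).2 hQP) a5
    obtain ⟨χ, b5, b0⟩ : ∃ χ, Iso F P P₂ χ ∧ HIso Q Q₁ χ := ⟨_, a4.trans (b1.iso_of_le (le_normalizerIn a5) b2), a2.trans b3⟩
    have b6 := b5.map.iso_of_le hQP b0
    obtain ⟨z, hz, c⟩ := this (hc.iso h.sc b6) b4.le (fun y hy => by
      obtain ⟨x, hx, rfl⟩ := b5.surj hy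
      exact b5.map.mem_normalizerIn b6.hiso hQP hx (hP hx).2) (b5.conj hf) (tf.conj h.sc hf.hiso b5)
      (coprime_conj b5.hiso hf.hiso cf) (b5.conj hg) (tg.conj h.sc hg.hiso b5) (coprime_conj b5.hiso hg.hiso cg) (hb.conj b6)
      (fun x hx => by simp only [ma, e _ (b6.inv_mem hx)]) ⟨a3, b4⟩
    obtain ⟨y, hy, rfl⟩ := b6.surj hz.1
    refine ⟨y, mem_centralizerIn.2 ⟨hy, by simpa using b6.hiso.symm.comm_of_comm b6.symm.hom le_rfl hz.1 hz.2⟩, fun x hx => ?_⟩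
    have := c _ (b5.map_mem hx)
    rw [← b5.hom.map_conj (hQP hy) hx] at this
    simpa only [ma, ia, EmbeddingLike.apply_eq_iff_eq] using this
  obtain ⟨β, a1, a2, a3⟩ := hb.ext_cop hp.1.1 (coprime_res hf.hiso hb.1 hQP cf)
  obtain ⟨k, b1, b2, b3⟩ := h.up_fn hS hF hp.1 hc hQP hP a1 a3 fun s hs => ⟨f s, hf.map_mem hs,
    by simpa using inv_mem (tf s hs), fun x hx => by
      rw [a2 _ (conj_mem_of_normalizer (hP hs).2 hx), a2 x hx, hf.hom.map_conj hs (hQP hx)]⟩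
  have b4 : ∀ x ∈ Q, k x = f x := fun x hx => (b2 x (Subgroup.mem_sup_left hx)).trans (a2 x hx)
  obtain ⟨z, hz, c1⟩ := u2_aux hS h.sc hc hp.2 hf tf cf hb.1 b1.iso b1.triv b3 le_rfl hP b4
  obtain ⟨w, hw, c2⟩ := u2_aux hS h.sc hc hp.2 hg tg cg (hb.1.congr fun x hx => (e x hx).symm) b1.iso b1.triv b3 le_rfl hP
    fun x hx => (b4 x hx).trans (e x hx).symm
  have c3 := mul_mem (inv_mem hz) hw
  refine ⟨_, c3, fun x hx => ?_⟩
  rw [c2 x hx, c1 _ (mul_mem (mul_mem (hQP c3.1) hx) (inv_mem (hQP c3.1)))]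
  congr 1
  group

theorem Fam.u2' (h : Fam p F T 𝓔) (hc : TC F T Q) (hQP : Q ≤ P) (hP : P ≤ Q ⊔ centralizerIn S Q) (hf : Iso F P P f)
    (tf : Triv T P f) (cf : (orderOf (res P f)).Coprime p) (hg : Iso F P P g) (tg : Triv T P g)
    (cg : (orderOf (res P g)).Coprime p) (hb : Hb F T 𝓔 Q f) (e : ∀ x ∈ Q, g x = f x) : ∀ x ∈ P, g x = f x := fun x hx => by
  obtain ⟨z, hz, h1⟩ := h.u2 hS hF hc hQP (hP.trans (sup_centralizerIn_le (hQP.trans hf.le))) hf tf cf hg tg cg hb e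
  obtain ⟨u, hu, c, hc, rfl⟩ := mem_sup_centralizerIn.1 (hP hx)
  rw [h1 _ hx, ← mul_assoc, ← hz.2 u hu, mul_assoc u, hc.2 z hz.1, mul_assoc, mul_inv_cancel_right]

section Normal
variable {E : FusionSystem T} (hE : E.IsNormalIn F p)
include hE

theorem cen_cenS : Cen F E (cenS p F E) := by
  have hi := hE.1.2.2
  haveI := inv_finite hi
  have hT := inv_le hi
  refine ⟨cenS_le, fun P f hf => alperin_cop (hS.to_le hT) hE.1.1 (C := fun P f => ∃ g, M F (P ⊔ cenS p F E) g ∧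
    (∀ x ∈ P, g x = f x) ∧ ∀ y ∈ cenS p F E, g y = y) (fun P Q f g _ ⟨k, a1, a2, a3⟩ a4 e => ⟨k, a1.mono (sup_le_sup_right a4 _),
      fun x hx => (a2 x (a4 hx)).trans (e x hx), a3⟩) (fun P Q f g _ _ ⟨k, a1, a2, a3⟩ ⟨l, b1, b2, b3⟩ e => ⟨l * k,
      a1.comp b1 (a1.hom.mem_of_sup (fun x hx => a2 x hx ▸ Subgroup.mem_sup_left (e x hx))
        fun y hy => (a3 y hy).symm ▸ Subgroup.mem_sup_right hy), fun x hx => by rw [ma, ma, a2 x hx, b2 _ (e x hx)],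
      fun y hy => by rw [ma, a3 y hy, b3 y hy]⟩) (fun s hs => ⟨cj s, M.cj F (sup_le hT (cenS_le.trans centralizerIn_le)) (hT hs),
      fun _ _ => rfl, fun y hy => by rw [cj_apply, hy.1.2 s hs, mul_inv_cancel_right]⟩) (fun R a hR ha hc => ?_) hf⟩
  have h1 := (tc_iff hi).2 (cr_of_alperin (hS.to_le hT) hE.1.1 hR).1
  obtain ⟨β, a1, a2, a3⟩ := (hb_of_normal hS hF hE h1 ha hc).ext_cop (h1.1.trans hT) hc
  exact ⟨β, a1.iso.map.mono (sup_le_sup_left (cenS_le.trans (centralizerIn_mono h1.1)) _), a2, fun y hy => hy.2 R β h1 a1 a3⟩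

/-- a `p'`-automorphism trivial modulo `T` and restricting into `E` fixes what centralizes `E` -/
theorem Cen.fix (h : Cen F E Y) (hc : TC F T (P ⊓ T)) (hf : Iso F P P f) (tf : Triv T P f) (cf : (orderOf (res P f)).Coprime p)
    (h1 : M E (P ⊓ T) f) {y : Ω} (hy : y ∈ Y) (hyP : y ∈ P) : f y = y := by
  have hT := hE.1.2.2.2.1
  have a0 := Subgroup.zpowers_le.2 hy
  have a1 := h1.iso_of (sc_iso_inf hT hf).hiso
  obtain ⟨g, b1, b2, b3⟩ := (h.mono a0).2 _ _ h1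
  have a2 : P ⊓ T ⊔ Subgroup.zpowers y ≤ P := sup_le inf_le_left (Subgroup.zpowers_le.2 hyP)
  have a3 := tf.iso hf le_sup_left a2
  have b4 := b1.iso_self (b1.hom.mem_of_sup (fun x hx => b2 x hx ▸ Subgroup.mem_sup_left (a1.map_mem hx))
    fun y hy => (b3 y hy).symm ▸ Subgroup.mem_sup_right hy)
  have b5 := a1.hiso.congr fun x hx => (b2 x hx).symm
  have a4 := coprime_res hf.hiso a1.hiso inf_le_left cf
  obtain ⟨n, c1, c2⟩ := exists_pow_p' b4 b5 (by rwa [b5.res_congr b2])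
  have c3 : ∀ n : ℕ, (g ^ n) y = y := fun n => Function.IsFixedPt.perm_pow (b3 y (Subgroup.mem_zpowers y)) n
  rw [← (fam_one hE.1).u2' hS hF hc le_sup_left (sup_le_sup_left (a0.trans (h.1.trans (centralizerIn_mono inf_le_right))) _)
    a3 (tf.mono a2) (coprime_res hf.hiso a3.hiso a2 cf) (b4.pow n) ((triv_sup b1.hom (b1.le.trans (sc_le_normalizer hT))
      (fun x hx => mul_mem (inv_mem hx.2) (b5.map_mem hx).2) fun x hx => by simp [b3 x hx]).pow b4.hiso n) c2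
    (hb_of_normal hS hF hE hc a1 a4) (fun x hx => (c1 x hx).trans (b2 x hx)) y (Subgroup.mem_sup_right (Subgroup.mem_zpowers y)), c3]

theorem Cen.le_cenS (h : Cen F E Y) : Y ≤ cenS p F E := fun y hy => ⟨h.1 hy, fun P β h1 h2 h3 =>
  h.fix hS hF hE (by rwa [h1.sup_inf (inv_le hE.1.2.2)]) h2.iso h2.triv h3 (h2.mem T E (Same.refl E)) hy
    (Subgroup.mem_sup_right (centralizerIn_mono h1.1 (h.1 hy)))⟩

theorem cen_iff_le : Cen F E Y ↔ Y ≤ cenS p F E := ⟨fun h => h.le_cenS hS hF hE, (cen_cenS hS hF hE).mono⟩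

theorem sc_cenS : F.StronglyClosed (cenS p F E) := by
  have hi := hE.1.2.2
  have hT := hi.2.1
  have h := fam_one hE.1
  have h0 := cen_cenS hS hF hE
  refine stronglyClosed_iff.2 ⟨cenS_le.trans centralizerIn_le, fun P f hf => alperin_rel hS hF hT.1 (sc_le_normalizer hT)
    (C := fun P f => ∀ x ∈ P, x ∈ cenS p F E → f x ∈ cenS p F E) (fun _ _ _ _ _ a1 a2 e x hx hx' => e x hx ▸ a1 x (a2 hx) hx')
    (fun _ _ _ _ _ _ a1 a2 e x hx hx' => a2 _ (e x hx) (a1 x hx hx')) (fun R a _ a1 a2 x hx hx' => ?_)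
    (fun R b t a1 a2 a3 x hx hx' => ?_) hf⟩
  · exact ((h0.mono (Subgroup.zpowers_le.2 hx')).conj hi a2.map a1 (Subgroup.zpowers_le.2 hx) (a2.hom.hiso_zpowers hx)).le_cenS
      hS hF hE (Subgroup.mem_zpowers _)
  have b1 := (nclo_le_res hS hF hT a1.2.1 (bpGrp_le a2.le) (h.le_normalizer_bpGrp a2.le) fun α hα => by
    obtain ⟨t, ht, rfl⟩ := mem_autInducedBy'.1 hα
    exact (h.bp_cj a2.le ht).res_mem).trans (sup_le (c := MulAction.stabilizer (MulAut R) (⟨x, hx⟩ : R))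
    (H26.pResidualOf_le_iff.2 fun α hα hc => Subtype.ext ((ex_apply α hx).symm.trans (h0.fix hS hF hE
      (tc_inf_of_alperin hS hF hT (Or.inr a1)) (hα a2.le).iso (hα a2.le).triv (by rwa [res_ex])
      ((hα a2.le).mem T E (Same.refl E)) hx' hx))) fun α hα => by
    obtain ⟨t, ht, e⟩ := mem_autInducedBy.1 hα
    exact Subtype.ext ((ex_apply α hx).symm.trans (by rw [e x hx, hx'.1.2 t ht, mul_inv_cancel_right]))) (mem_nclo a2 a3)
  rwa [← (hiso_conj_cj a2.hiso a3.2).res_coe ⟨x, hx⟩, show res R (b * cj t * b⁻¹) ⟨x, hx⟩ = ⟨x, hx⟩ from b1]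

theorem inv_mul_mem_cenS (hg : M F R g) (hT : T ≤ R) (e : ∀ t ∈ T, g t = t) {x : Ω} (hx : x ∈ R) (hx' : x ∈ centralizerIn S T) :
    x⁻¹ * g x ∈ cenS p F E := by
  have hi := hE.1.2.2
  have h := fam_one hE.1
  have a0 : HIso T T g := (HIso.refl T).congr fun x hx => (e x hx).symm
  have a1 := hg.mem_centralizerIn a0 hT hx hx'.2
  refine ⟨mul_mem (inv_mem hx') a1, fun P β b1 b2 b3 => ?_⟩
  have b0 := (b1.sup_inf h.sc.1).le
  have k : ∀ {y}, y ∈ centralizerIn S T → P ⊔ Subgroup.zpowers y ≤ P ⊔ centralizerIn S P := fun hy =>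
    sup_le_sup_left (Subgroup.zpowers_le.2 (centralizerIn_mono b1.1 hy)) _
  have a2 : HIso P P g := (HIso.refl P).congr fun x hx => (e x (b1.1 hx)).symm
  have a3 := Iso.sup (hg.mono (sup_le (b1.1.trans hT) (Subgroup.zpowers_le.2 hx))) a2 (hg.hom.hiso_zpowers hx)
  have c1 := b2.restrict' (b0.trans le_sup_left) (k hx')
  have c2 := b2.restrict' (b0.trans le_sup_left) (k a1)
  have c3 := b2.restrict' b0 le_sup_left
  have c4 := h.bp_conj c1 a3
  have c5 := h.u2' hS hF b1 le_sup_left (k a1) c2.iso c2.triv (coprime_res b2.iso.hiso c2.iso.hiso (k a1) b3) c4.iso c4.triv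
    (coprime_conj a3.hiso c1.iso.hiso (coprime_res b2.iso.hiso c1.iso.hiso (k hx') b3)) (hb_of_normal hS hF hE b1
      (((c3.mem T E (Same.refl E)).mono (le_inf le_rfl b1.1)).iso_of c3.iso.hiso) (coprime_res b2.iso.hiso c3.iso.hiso le_sup_left b3))
    (fun y hy => by
      rw [ma, ma, e _ (b1.1 (c3.iso.map_mem (a2.inv_mem hy))), ← e _ (b1.1 (a2.inv_mem hy)), ai]) _
    (Subgroup.mem_sup_right (Subgroup.mem_zpowers _))
  have m1 := k hx' (Subgroup.mem_sup_right (Subgroup.mem_zpowers _))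
  have c6 := b2.triv x m1
  rw [ma, ma, ia] at c5
  have c7 := e _ c6
  rw [hg.hom.map_inv_mul hx (by simpa using mul_mem hx (hT c6)), c5] at c7
  rw [b2.iso.hom.map_inv_mul m1 (k a1 (Subgroup.mem_sup_right (Subgroup.mem_zpowers _))), ← mul_inv_cancel_left (g x) (β (g x)), c7]
  have c8 := (mul_mem (inv_mem hx') a1).2 _ c6
  calc (β x)⁻¹ * (g x * (x⁻¹ * β x)) = (x⁻¹ * β x)⁻¹ * (x⁻¹ * g x * (x⁻¹ * β x)) := by group
    _ = _ := by rw [← c8]; group

theorem focal_le_cenS {C : FusionSystem V} (hC : IsNK F T ⊥ C) : C.focalSubgroup ≤ cenS p F E := by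
  haveI := hC.finite
  refine focal_le_iff.2 fun P f hf x hx => ?_
  obtain ⟨g, a1, a2, a3, a4⟩ := hC.ext hf
  rw [← a2 x hx]
  exact inv_mul_mem_cenS hS hF hE a1 le_sup_right (a3.res_eq_one_iff.1 a4) (Subgroup.mem_sup_left hx)
    (nK_bot.le (hC.eq.le (hf.le hx)))

end Normal

end H28
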