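import Mathlib
import Cfsg.Agent.H28.Comp

/-! Transport of components and of the layer. -/

set_option autoImplicit false
set_option linter.unusedSectionVars false
set_option linter.style.haveILetI false

open Cfsg Cfsg.FusionSystem Equiv
open H26 (IsSyl)

namespace H28

variable {Ω Ω' : Type*} [Group Ω] [Group Ω'] {p : ℕ} {S : Subgroup Ω} [Finite S] {F : FusionSystem S}
  {P Q R T U V W X Y Z P' Q' R' : Subgroup Ω} {f g : Perm Ω} {S' T' U' : Subgroup Ω'} {F' : FusionSystem S'} {t : Ω → Ω'}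

theorem isFIso_of_mor {u : Ω' → Ω} (h : IsMor F t F') (h' : IsMor F' u F) (e1 : ∀ x ∈ S, u (t x) = x) (e2 : ∀ y ∈ S', t (u y) = y) :
    IsFIso F t F' := by
  have a1 : img t S = S' := le_antisymm (h.img_le le_rfl) fun y hy => e2 y hy ▸ mem_img_of_mem (h'.mem y hy)
  haveI : Finite S' := a1 ▸ h.hom.finite_img
  refine isFIso_of h.hom (fun x hx y hy e => by rw [← e1 x hx, e, e1 y hy]) a1 fun P f f' hP hf e =>
    ⟨fun a => h.M_of a le_rfl e, fun a => h'.M_of a (fun x hx => e1 x (hP hx) ▸ mem_img_of_mem (mem_img_of_mem hx)) fun y hy => ?_⟩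
  obtain ⟨x, hx, rfl⟩ := (h.hom.mono hP).mem_img.1 hy
  rw [e1 x (hP hx), e x hx, e1 _ (hf x hx)]

theorem isMor_of_conj {D : FusionSystem U} (ha : HIso S U g) (h : ∀ P P' f, M F P f → HIso P P' g → M D P' (g * f * g⁻¹)) :
    IsMor F g D := ⟨ha.hom, fun _ => ha.map_mem, fun P f hf =>
  ⟨_, h _ _ f hf (ha.hom.mono hf.le).hiso_img, fun x _ => by simp only [ma, ia]⟩⟩

theorem isFIso_of_inv {E : FusionSystem T} (h : E.IsInvariantIn F) (hg : Iso F T T g) : IsFIso E g E :=
  haveI := inv_finite h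
  isFIso_of_mor (isMor_of_conj hg.hiso fun _ _ _ a => inv_conj h a hg) (isMor_of_conj hg.hiso.symm fun _ _ _ a => inv_conj h a hg.symm)
    (fun x _ => ia g x) fun x _ => ai g x

theorem IsFIso.M_conj {D : FusionSystem U} (h : IsFIso F g D) (hf : M F P f) (hP : HIso P P' g) : M D P' (g * f * g⁻¹) :=
  h.M_of hf hP.img_eq.ge fun x _ => by simp only [ma, ia]

theorem IsFIso.perm_symm {D : FusionSystem U} (h : IsFIso F g D) : IsFIso D (g⁻¹ : Perm Ω) F := h.symm_of fun x _ => ia g x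

theorem IsFIso.same {E : FusionSystem T'} (h : IsFIso F t F') (h' : IsFIso F t E) : Same F' E := by
  obtain rfl := h.surj.symm.trans h'.surj
  exact h.unique h'.toIsQuo ▸ Same.refl F'

theorem IsFIso.exists_pull (h : IsFIso F t F') (E' : FusionSystem T') (hT : T' ≤ S') :
    ∃ T ≤ S, ∃ E : FusionSystem T, IsFIso E t E' ∧ IsFIso E' (Function.invFunOn t S) E := by
  haveI := h.finite
  haveI := finite_of_le hT
  obtain ⟨E, hE⟩ := h.symm.exists_push E' hT
  exact ⟨_, h.symm.img_le hT, E, hE.symm_of fun y hy => h.apply_inv (hT hy), hE⟩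

theorem M.exists_isFIso {C : FusionSystem U} (hg : M F U g) : ∃ V, HIso U V g ∧ ∃ C' : FusionSystem V, IsFIso C g C' :=
  haveI := finite_of_le hg.le
  ⟨_, hg.hom.hiso_img, H28.exists_isFIso C hg.hom g.injective.injOn rfl⟩

variable [Fact p.Prime] (hS : IsPGroup p S)
include hS

theorem IsFIso.component (h : IsFIso F t F') {C : FusionSystem U} {C' : FusionSystem U'} (h' : IsFIso C t C')
    (hC : C.IsComponentIn F p) : C'.IsComponentIn F' p :=
  haveI := finite_of_le (subnormal_le hC.1)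
  ⟨h.subnormal hS h' hC.1, h'.quasisimple (hS.to_le (subnormal_le hC.1)) hC.2⟩

theorem IsFIso.layer (h : IsFIso F t F') {E : FusionSystem T} {E' : FusionSystem T'} (h' : IsFIso E t E') (hE : E.IsLayerOf F p) :
    E'.IsLayerOf F' p := by
  haveI := h.finite
  haveI := inv_finite hE.1.1.2.2
  have a0 := h.isPGroup hS
  refine ⟨h.normalIn hS h'.toIsQuo hE.1, fun U' C' hC => ?_, fun R' D' a1 a2 => ?_⟩
  · obtain ⟨U, b1, C, b2, b3⟩ := h.exists_pull C' (subnormal_le hC.1)
    exact h'.sub b2.toIsQuo (hE.2.1 U C (h.symm.component a0 b3 hC))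
  · obtain ⟨R, b1, D, b2, b3⟩ := h.exists_pull D' (inv_le a1.1.2.2)
    haveI := finite_of_le b1
    haveI := inv_finite a1.1.2.2
    refine b2.sub h'.toIsQuo (hE.2.2 R D (h.symm.normalIn a0 b3.toIsQuo a1) fun U C hC => ?_)
    obtain ⟨C', c1⟩ := h.exists_push C (subnormal_le hC.1)
    haveI := finite_of_le (subnormal_le hC.1)
    exact b3.sub (c1.symm_of fun x hx => h.inv_apply (subnormal_le hC.1 hx)).toIsQuo (a2 _ C' (h.component hS c1 hC))

omit hS [Fact p.Prime] [Finite S] in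
theorem layer_same {E : FusionSystem T} {D : FusionSystem U} (hE : E.IsLayerOf F p) (hD : D.IsLayerOf F p) : Same E D :=
  ⟨hE.2.2 _ D hD.1 hD.2.1, hD.2.2 _ E hE.1 hE.2.1⟩

theorem IsFIso.layer_self {t : Ω → Ω} (h : IsFIso F t F) {E : FusionSystem T} (hE : E.IsLayerOf F p) : IsFIso E t E := by
  obtain ⟨E', h'⟩ := h.exists_push E (inv_le hE.1.1.2.2)
  exact (layer_same (h.layer hS h' hE) hE).ind (C := fun D => IsFIso E t D) h'

variable (hF : F.IsSaturated p)
include hF

theorem subnormal_conj {C : FusionSystem U} (h : C.IsSubnormalIn F p) (hg : M F U g) {C' : FusionSystem V} (hC : IsFIso C g C') :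
    C'.IsSubnormalIn F p := by
  haveI := finite_of_le hg.le
  refine subnormal_rec (C := fun {_} D => ∀ g V (C' : FusionSystem V), M D U g → IsFIso C g C' → C'.IsSubnormalIn D p)
    (fun g V C' a1 a2 => ((isFIso_of_inv (self_normalIn (hS.to_le hg.le) (subnormal_sat hS hF h)).1.2.2 a1.iso_top).same a2).ind
      (C := fun A => A.IsSubnormalIn C p) (.refl C p)) (fun {S W} _ F D hS h1 h2 ih g V C' a1 a2 => ?_) hS h g V C' hg hC
  obtain ⟨a, g₀, b1, b2, b3⟩ := inv_frattini h2.1.2.2 (subnormal_le h1) a1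
  haveI := inv_finite h2.1.2.2
  obtain ⟨V₀, b4, C₀, b5⟩ := b2.exists_isFIso (C := C)
  haveI := b5.finite
  refine ((isFIso_of_inv h2.1.2.2 b1).subnormal (hS.to_le (inv_le h2.1.2.2)) ((b5.perm_symm.comp a2).congr fun y hy => ?_)
    (ih g₀ V₀ C₀ b2 b5)).step h2
  obtain ⟨x, hx, rfl⟩ := b4.surj hy
  rw [ia, b3 x hx]

theorem comp_conj {C : FusionSystem U} (h : C.IsComponentIn F p) (hg : M F U g) {C' : FusionSystem V} (hC : IsFIso C g C') :
    C'.IsComponentIn F p :=
  haveI := finite_of_le hg.le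
  ⟨subnormal_conj hS hF h.1 hg hC, hC.quasisimple (hS.to_le hg.le) h.2⟩

theorem layer_normal {D : FusionSystem V} (hD : D.IsNormalIn F p) {E : FusionSystem T} (hE : E.IsLayerOf D p) : E.IsNormalIn F p :=
  haveI := inv_finite hD.1.2.2
  haveI := inv_finite hE.1.1.2.2
  normal_trans_of_ainv hS hF hD hE.1 fun _ _ _ _ a1 a2 =>
    ((isFIso_of_inv hD.1.2.2 a2).layer_self (hS.to_le (inv_le hD.1.2.2)) hE).M_conj a1

omit hF in
theorem normalIn_of_stable {C : FusionSystem U} (hC : C.IsSaturated p) (h : C.IsSubnormalIn F p) (h1 : ∀ g, M F U g → IsFIso C g C) :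
    C.IsNormalIn F p := by
  haveI := finite_of_le (subnormal_le h)
  exact subnormal_rec (C := fun {_} D => (∀ g, M D U g → IsFIso C g C) → C.IsNormalIn D p)
    (fun _ => self_normalIn (hS.to_le (subnormal_le h)) hC) (fun {S W} _ F D hS h1 h2 ih a => normal_trans_of_ainv hS h2.1.2.1 h2
      (ih fun g hg => a g (hg.of_sub h2.1.2.2.1)) fun _ _ _ g b1 b2 => (a g (b2.map.mono (subnormal_le h1))).M_conj b1) hS h h1

end H28
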