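import Cfsg.Agent.H28.Ea4

/-!
# The 56 weights of type `E₇`: tables
-/

set_option autoImplicit false

open Module Finset

namespace H28.Eb
open H11 Cfsg Cfsg.Lie StSys H28.Al H28.Ea

universe u

/-- table of the 56 roots -/
def gtab (x : Bool × Fin 8 × Fin 8) : ℕ := ((if x.1 then [[0, 168, 140, 134, 129, 125, 122, 120], [168, 0, 232, 231, 230, 229, 228, 227],
  [140, 232, 0, 224, 223, 222, 221, 220], [134, 231, 224, 0, 218, 217, 216, 215], [129, 230, 223, 218, 0, 213, 212, 211],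
  [125, 229, 222, 217, 213, 0, 209, 208], [122, 228, 221, 216, 212, 209, 0, 206], [120, 227, 220, 215, 211, 208, 206, 0]] else
  [[0, 225, 233, 234, 235, 236, 237, 238], [225, 0, 146, 151, 155, 158, 160, 161], [233, 146, 0, 173, 177, 180, 182, 183],
  [234, 151, 173, 0, 187, 190, 192, 193], [235, 155, 177, 187, 0, 196, 198, 199], [236, 158, 180, 190, 196, 0, 201, 202],
  [237, 160, 182, 192, 198, 201, 0, 203], [238, 161, 183, 193, 199, 202, 203, 0]]).getD x.2.1 []).getD x.2.2 0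

theorem gtab_lt : ∀ x, gtab x < chevE8.nroots := by decide +kernel

/-- the root with given sign and pair -/
def gt (x : Bool × Fin 8 × Fin 8) : Root chevE8 := ⟨gtab x, gtab_lt x⟩

/-- the highest coroot -/
def v8 (i : Node chevE8) : ℤ := [2, 3, 4, 6, 5, 4, 3, 2].getD i 0

/-- coordinates for the subsystem of type `A₇` -/
def bb (a : Fin 8) (j : Node chevE8) : ℤ := ([[0, -1, 0, 0, 0, 0, 0], [2, -1, 0, 0, 0, 0, 0], [-2, -1, 2, 0, 0, 0, 0],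
  [0, -1, -2, 2, 0, 0, 0], [0, 1, 0, -2, 2, 0, 0], [0, 1, 0, 0, -2, 2, 0], [0, 1, 0, 0, 0, -2, 2], [0, 1, 0, 0, 0, 0, -2]].getD a []).getD j 0

theorem fv8 (r : Root chevE8) : fv v8 r = ∑ i : Fin 8, [2, 3, 4, 6, 5, 4, 3, 2].getD i 0 * fastE8.wt r i := by
  simp only [fv, dotProduct, agreeE8.wt_eq]; rfl

theorem chk1 : ∀ x : Bool × Fin 8 × Fin 8, x.2.1 ≠ x.2.2 → fv v8 (gt x) = 1 ∧
    ∀ j : Node chevE8, j.1 = 7 ∨ 2 * wt (gt x) j = (if x.1 then 1 else -1) * (bb x.2.1 j + bb x.2.2 j) := by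
  simp only [fv8, agreeE8.wt_eq]; decide +kernel

theorem chk2 : ∀ r : Root chevE8, fv v8 r = 1 → #{x : Bool × Fin 8 × Fin 8 | x.2.1 ≠ x.2.2 ∧ gt x = r} = 2 := by
  simp only [fv8]; decide +kernel

theorem chk3 : #{r : Root chevE8 | fv v8 r = 1} = 56 := by simp only [fv8]; decide +kernel

theorem chk4 : ∀ r : Root chevE8, fv v8 r ∈ [-2, -1, 0, 1, 2] := by simp only [fv8]; decide +kernel

theorem chk5 : ∀ i : Node chevE7, fv v8 (sroot (Fin.castLE (by decide) i : Node chevE8)) = 0 := by simp only [fv8]; decide +kernel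

/-- twice the multiplicity -/
def MM {l : ℕ} [NeZero l] (h : ZMod l) (c : ZMod l → ℕ) (k : ZMod l) : ℕ :=
  ∑ s, c s * c (k - s) + ∑ s, c s * c (-k - s) - (c (h * k) + c (-(h * k)))

/-- counts from a list -/
def cv (l : ℕ) (L : List ℕ) (s : ZMod l) : ℕ := L.getD s.val 0

/-- the check for order seven -/
def ok7 (L : List ℕ) : Bool := decide (MM 4 (cv 7 L) 2 = MM 4 (cv 7 L) 4 → MM 4 (cv 7 L) 2 = MM 4 (cv 7 L) 6 →
  cv 7 L 0 = 8 ∨ MM 4 (cv 7 L) 0 ∈ [4, 16, 40])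

set_option synthInstance.maxSize 4096 in
set_option synthInstance.maxHeartbeats 200000 in
theorem fin7 : ∀ c0 < 9, ∀ c1 < 9 - c0, ∀ c2 < 9 - (c0 + c1), ∀ c3 < 9 - (c0 + c1 + c2), ∀ c4 < 9 - (c0 + c1 + c2 + c3),
    ∀ c5 < 9 - (c0 + c1 + c2 + c3 + c4), ∀ c6 < 9, c0 + c1 + c2 + c3 + c4 + c5 + c6 = 8 →
      (c1 + 2 * c2 + 3 * c3 + 4 * c4 + 5 * c5 + 6 * c6) % 7 = 0 → ok7 [c0, c1, c2, c3, c4, c5, c6] = true := by decide +kernel

set_option synthInstance.maxSize 4096 in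
theorem fin5 : ∀ c0 < 9, ∀ c1 < 9 - c0, ∀ c2 < 9 - (c0 + c1), ∀ c3 < 9 - (c0 + c1 + c2), ∀ c4 < 9, c0 + c1 + c2 + c3 + c4 = 8 →
    (c1 + 2 * c2 + 3 * c3 + 4 * c4) % 5 = 0 → MM 3 (cv 5 [c0, c1, c2, c3, c4]) 2 = MM 3 (cv 5 [c0, c1, c2, c3, c4]) 4 →
      c0 = 8 ∨ MM 3 (cv 5 [c0, c1, c2, c3, c4]) 0 = 32 := by decide +kernel

end H28.Eb
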