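import Mathlib
import Cfsg.Agent.H28.El15

/-!
# Non-degenerate subspaces fixed by semisimple elements of prime order (namespace `H28.El`)
-/

set_option autoImplicit false

open Module Polynomial H24.Sim H10 H10.Form

namespace H28.El

theorem nc_top {n m c : ℕ} (hc : 0 < c) (h0 : 0 < m) (h1 : m < n) {R A : ℕ → Prop} {B : ℕ → ℕ → Prop}
    (hB : n % c = 0 → m % c = 0 → 0 < m / c → ¬ R (n / c) → ¬ A (m / c) → B (n / c - 1) (m / c - 1)) : NC n m c R A B ↔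
    (0 < n / c → (n % c = 0 → R (n / c)) → m % c ≤ n % c ∧ (m % c = 0 → A (m / c)) ∧ (m % c = n % c → B (n / c) (m / c))) := by
  obtain ⟨-, -, -, k1, k2, -⟩ := dm_facts (n := n) (m := m) hc
  have k3 : m / c = 0 → m % c ≠ 0 := fun h h' => by
    have := Nat.div_add_mod m c
    rw [h, h'] at this; omega
  rw [nc_iff hc]
  generalize n / c = ν, n % c = u, m / c = μ, m % c = v at *
  refine ⟨fun H h2 h3 => ?_, fun H k h2 h3 h4 => ?_⟩
  · obtain ⟨j, -, l1, l2, l3, l4⟩ := H ν h2 le_rfl fun _ => h3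
    obtain rfl : j = μ := by omega
    exact ⟨by omega, l3 rfl, l4 (by omega)⟩
  rcases h3.eq_or_lt with rfl | h5
  · obtain ⟨l1, l2, l3⟩ := H h2 (h4 rfl)
    exact ⟨μ, by omega, le_rfl, by omega, fun _ => l2, fun _ => l3⟩
  rcases lt_or_ge k μ with h6 | h6
  · exact ⟨k, le_rfl, h6.le, by omega, by omega, by omega⟩
  by_cases h7 : v = 0 → A μ
  · exact ⟨μ, h6, le_rfl, by omega, fun _ => h7, by omega⟩
  push Not at h7
  have h8 : 0 < μ := by omega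
  refine ⟨μ - 1, by omega, by omega, by omega, by omega, fun l1 l2 => ?_⟩
  obtain rfl : k = ν - 1 := by omega
  exact hB (by omega) h7.1 h8 (fun h => h7.2 ((H (by omega) fun _ => h).2.1 h7.1)) h7.2

theorem iff2 {a b : Prop} : (a ↔ (b ↔ a)) ↔ b := by tauto

theorem iff3 {a b c : Prop} (h : (a ↔ b) ↔ c) : b ↔ (c ↔ a) := by tauto

theorem iff4 {β e s k j : Prop} (h : ¬ (e ↔ (β → ¬ k))) (h' : ¬ (s ↔ (β → ¬ j))) : (e ↔ (β → k)) ↔ (s ↔ (β → j)) := by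
  tauto

section
variable {F V : Type*} [Field F] [AddCommGroup V] [Module F V] {φ : Form F V} {U W W₀ X Y Z A A' M M' : Submodule F V}
  {g x y : End F V} {r : ℕ}

variable (φ) in
/-- conjugate subspaces -/
def Cj (A B : Submodule F V) : Prop := ∃ g : φ.Isom, A.map (g.1 : V →ₗ[F] V) = B

theorem Cj.refl : Cj φ A A := ⟨1, Submodule.map_id A⟩

theorem cj_map (g : φ.Isom) : Cj φ A (A.map (g.1 : V →ₗ[F] V)) := ⟨g, rfl⟩

theorem Cj.trans (h : Cj φ A U) (h' : Cj φ U W) : Cj φ A W := by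
  obtain ⟨g, rfl⟩ := h
  obtain ⟨k, rfl⟩ := h'
  exact ⟨k * g, by rw [← Submodule.map_comp]; rfl⟩

theorem Cj.symm (h : Cj φ A U) : Cj φ U A := by
  obtain ⟨g, rfl⟩ := h
  refine ⟨g⁻¹, ?_⟩
  rw [← Submodule.map_comp]
  convert Submodule.map_id A
  ext v; exact g.1.symm_apply_apply v

theorem Cj.finrank_eq (h : Cj φ A U) : finrank F A = finrank F U := by
  obtain ⟨g, rfl⟩ := h; exact (LinearEquiv.finrank_map_eq _ _).symm

theorem Cj.nd (h : Cj φ A U) (hA : φ.NondegOn A) : φ.NondegOn U := by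
  obtain ⟨g, rfl⟩ := h
  rintro _ ⟨v, hv, rfl⟩ h
  rw [hA v hv fun w hw => (g.2.B v w).symm.trans (h _ ⟨w, hw, rfl⟩), map_zero]

theorem Cj.exists_le (h : Cj φ A U) (hW : W ≤ A) : ∃ X ≤ U, Cj φ W X := by
  obtain ⟨g, rfl⟩ := h; exact ⟨_, Submodule.map_mono hW, cj_map g⟩

theorem Cj.ts (h : Cj φ A U) (hA : φ.TS A) : φ.TS U := by obtain ⟨g, rfl⟩ := h; exact hA.map g

theorem Cj.equiv (h : Cj φ A U) : ∃ e, IsEquiv (φ.restrict A) (φ.restrict U) e := by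
  obtain ⟨g, rfl⟩ := h
  exact ⟨g.1.submoduleMap A, fun a b => g.2.B _ _, fun a => g.2.Q _⟩

theorem inv_conj {g h : φ.Isom} (hc : IsConj g h) (hW : Inv (g.1 : End F V) W) : ∃ X, Inv (h.1 : End F V) X ∧ Cj φ X W := by
  obtain ⟨k, rfl⟩ := isConj_iff.1 hc
  refine ⟨_, ?_, (cj_map k).symm⟩
  rintro _ ⟨v, hv, rfl⟩
  exact ⟨_, hW v hv, congrArg (fun w => k.1 (g.1 w)) (k.1.symm_apply_apply v).symm⟩

variable [FiniteDimensional F V]

theorem Cj.pl (h : Cj φ A U) : Pl φ A ↔ Pl φ U :=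
  ⟨by obtain ⟨g, rfl⟩ := h; exact fun h => h.map g, by obtain ⟨g, rfl⟩ := h.symm; exact fun h => h.map g⟩

variable [φ.Nondeg]

theorem cj_iff : Cj φ A U ↔ ∃ e, IsEquiv (φ.restrict A) (φ.restrict U) e := ⟨Cj.equiv, fun ⟨e, he⟩ => by
  obtain ⟨g, hg⟩ := φ.witt_equiv A U e he.B he.Q
  refine ⟨g, le_antisymm ?_ fun u hu => ⟨e.symm ⟨u, hu⟩, Subtype.mem _, (hg _).trans (by simp)⟩⟩
  rintro _ ⟨a, ha, rfl⟩
  exact (hg ⟨a, ha⟩).symm ▸ Subtype.mem _⟩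

theorem Cj.perp (h : Cj φ A U) : Cj φ (φ.perp A) (φ.perp U) := by
  obtain ⟨g, rfl⟩ := h
  refine ⟨g, Submodule.eq_of_le_of_finrank_eq ?_ ?_⟩
  · rintro _ ⟨v, hv, rfl⟩
    refine φ.mem_perp.2 ?_
    rintro _ ⟨a, ha, rfl⟩
    exact (g.2.B _ _).trans (φ.mem_perp.1 hv a ha)
  · have := φ.finrank_perp A
    have := φ.finrank_perp (A.map (g.1 : V →ₗ[F] V))
    rw [LinearEquiv.finrank_map_eq] at *
    omega

theorem Cj.sup (hA : φ.NondegOn A) (hM : M ≤ φ.perp A) (hM' : M' ≤ φ.perp A') (h : Cj φ A A') (h' : Cj φ M M') :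
    Cj φ (A ⊔ M) (A' ⊔ M') := by
  obtain ⟨e, he⟩ := h.equiv
  obtain ⟨e', he'⟩ := h'.equiv
  obtain ⟨k, k1, k2⟩ := H24.Adj.exists_glue hA (h.nd hA) hM hM' he he'
  have key : ∀ {A A' : Submodule F V} (e : A ≃ₗ[F] A'), (∀ a : A, k.1 a = e a) → A.map (k.1 : V →ₗ[F] V) = A' :=
    fun {A A'} e h => le_antisymm (by rintro _ ⟨a, ha, rfl⟩; exact (h ⟨a, ha⟩).symm ▸ Subtype.mem _)
      fun u hu => ⟨e.symm ⟨u, hu⟩, Subtype.mem _, (h _).trans (by simp)⟩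
  exact ⟨k, by rw [Submodule.map_sup, key e k1, key e' k2]⟩

theorem cj_alt (hA : H09.IsAltF φ) (hU : φ.NondegOn U) (hW : φ.NondegOn W) (h : finrank F U = finrank F W) : Cj φ U W := by
  haveI := hU.nondeg
  haveI := hW.nondeg
  obtain ⟨k, hk⟩ := even_of_alt hA hU
  obtain ⟨e, he⟩ := (hA.restrict U).exists_isEquiv (m := k) (by omega)
  obtain ⟨e', he'⟩ := (hA.restrict W).exists_isEquiv (m := k) (by omega)
  exact cj_iff.2 ⟨_, he.trans he'.symm⟩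

theorem cj_vec {u v : V} (hu : u ≠ 0) (hv : v ≠ 0) (h : φ.Q u = φ.Q v) : Cj φ (F ∙ u) (F ∙ v) := by
  obtain ⟨g, rfl⟩ := φ.witt_vec hu hv h
  exact ⟨g, by rw [Submodule.map_span, Set.image_singleton]; rfl⟩

theorem exists_nd_alt (hA : H09.IsAltF φ) (hU : φ.NondegOn U) {k : ℕ} (hk : 2 * k ≤ finrank F U) :
    ∃ W ≤ U, φ.NondegOn W ∧ finrank F W = 2 * k :=
  let ⟨W, h1, h2, h3, _⟩ := (kd_alt hA).exists_pl hU hk fun _ => pl_alt hA hU
  ⟨W, h1, h2, h3⟩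

variable [Fintype F]

theorem cj_even (hQ : φ.IsQuad) (hU : φ.NondegOn U) (hW : φ.NondegOn W) (he : Even (finrank F U))
    (hd : finrank F U = finrank F W) (h : Pl φ U ↔ Pl φ W) : Cj φ U W := cj_iff.2 (exists_equiv_pl hQ hQ hU hW he hd h)

theorem cj_even_iff (hQ : φ.IsQuad) (hW : φ.NondegOn W₀) (he : Even (finrank F W₀)) :
    Cj φ W W₀ ↔ φ.NondegOn W ∧ finrank F W = finrank F W₀ ∧ (Pl φ W ↔ Pl φ W₀) :=
  ⟨fun h => ⟨h.symm.nd hW, h.finrank_eq, h.pl⟩, fun h => cj_even hQ h.1 hW (h.2.1 ▸ he) h.2.1 h.2.2⟩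

omit [Fintype F] in
theorem nb_quad (hQ : φ.IsQuad) (h2 : (2 : F) ≠ 0) (hU : φ.NondegOn U) {k : ℕ} (hk : k ≤ finrank F U) :
    ∃ W ≤ U, φ.NondegOn W ∧ finrank F W = k :=
  nb_one (fun _ => hQ.B_self_ne_zero h2) ⟨1, by simp [hQ.T_eq]⟩ hU hk

theorem exists_emb (hQ : φ.IsQuad) (h2 : (2 : F) ≠ 0) (hU : φ.NondegOn U) (hX : φ.NondegOn X)
    (h : finrank F X < finrank F U) : ∃ Y ≤ U, Cj φ X Y := by
  have key : ∀ X, φ.NondegOn X → finrank F X < finrank F U → Even (finrank F X) → ∃ Y ≤ U, Cj φ X Y := by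
    rintro X hX h ⟨k, hk⟩
    obtain ⟨Y, k1, k2, k3, k4⟩ := exists_nd_type hQ hU (Pl φ X) (k := k) (by omega)
      (fun h => by rw [Submodule.finrank_eq_zero.1 (by omega : finrank F X = 0)]; exact pl_bot) (by omega)
    exact ⟨Y, k1, cj_even hQ hX k2 ⟨k, hk⟩ (by omega) k4.symm⟩
  rcases Nat.even_or_odd (finrank F X) with he | ⟨k, hk⟩
  · exact key X hX h he
  obtain ⟨t, ht, k1⟩ := hX.exists_Q_ne_zero ⟨1, by simp [hQ.T_eq]⟩ (by rintro rfl; simp at hk)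
  have k2 := φ.nondegOn_singleton (hQ.B_self_ne_zero h2 k1)
  have k3 : (F ∙ t) ≤ X := by simpa
  have k4 := finrank_inf_perp hX k3
  have k0 : ∀ {v}, φ.Q v ≠ 0 → v ≠ 0 := fun h => by rintro rfl; simp at h
  rw [finrank_span_singleton (k0 k1)] at k4
  have k5 := rel_nd hX k2 k3
  obtain ⟨Y, l1, l2⟩ := key _ k5 (by omega) ⟨k, by omega⟩
  have l3 := finrank_inf_perp hU l1
  have l4 := l2.finrank_eq
  obtain ⟨u, hu, l5⟩ := hQ.exists_Q_eq (rel_nd hU (l2.nd k5) l1) (by omega) (φ.Q t)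
  refine ⟨Y ⊔ F ∙ u, sup_le l1 (by simpa using hu.1), ?_⟩
  rw [← rel_sup hX k2 k3, sup_comm]
  exact Cj.sup k5 (φ.le_perp_comm.1 inf_le_right) (by simpa using hu.2) l2 (cj_vec (k0 k1) (k0 (l5 ▸ k1)) l5.symm)

theorem exists_cj_sup (hQ : φ.IsQuad) (h2 : (2 : F) ≠ 0) (hW : φ.NondegOn W₀) (hU : φ.NondegOn U) (hX : φ.NondegOn X)
    (ho : U ≤ φ.perp X) (h : finrank F X < finrank F W₀) (h' : finrank F W₀ < finrank F X + finrank F U) :
    ∃ Y ≤ U, φ.NondegOn Y ∧ Cj φ (X ⊔ Y) W₀ := by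
  obtain ⟨X', k1, k2⟩ := exists_emb hQ h2 hW hX h
  have k3 := finrank_inf_perp hW k1
  have k4 := k2.finrank_eq
  have k5 := rel_nd hW (k2.nd hX) k1
  obtain ⟨Y, l1, l2⟩ := exists_emb hQ h2 hU k5 (by omega)
  exact ⟨Y, l1, l2.nd k5, rel_sup hW (k2.nd hX) k1 ▸ Cj.sup hX (l1.trans ho) inf_le_right k2 l2.symm⟩

theorem invol_cj (hQ : φ.IsQuad) (h2 : (2 : F) ≠ 0) (hW : φ.NondegOn W₀) (h0 : 0 < finrank F W₀)
    (h1 : finrank F W₀ < finrank F V) (g : End F V) (hg : Om φ g) (k1 : g ^ 2 = 1) (k2 : g ≠ 1) :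
    ∃ W, Inv g W ∧ Cj φ W W₀ := by
  by_cases k3 : g = -1
  · exact ⟨W₀, k3 ▸ fun v hv => W₀.neg_mem hv, Cj.refl⟩
  refine (invol_all hQ h2 (by omega)).2 (fun U k l1 l2 l3 l4 _ => ?_) g hg k1 k2 k3
  have := φ.finrank_perp U
  obtain ⟨B, m1, m2, m3⟩ := nb_quad hQ h2 l1.perp (min_le_right (finrank F W₀ - 1) _)
  obtain ⟨A, m4, -, m5⟩ := exists_cj_sup hQ h2 hW l1 m2 (φ.le_perp_comm.1 m1) (by omega) (by omega)
  exact ⟨A, m4, B, m1, sup_comm A B ▸ m5⟩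

omit [Fintype F] in
theorem sqm_even (hQ : φ.IsQuad) (h2 : (2 : F) ≠ 0) (hx : φ.IsIsom g) (h : g ^ 2 = -1) (hW : Inv g W)
    (hW' : φ.NondegOn W) : Even (finrank F W) :=
  even_iff_two_dvd.2 ((nb_sqm_quad hQ h2 hx h).dvd hx two_pos le_top hW hW')

theorem sqm_cj (hQ : φ.IsQuad) (h2 : (2 : F) ≠ 0) (hW : φ.NondegOn W₀) {j : ℕ} (hj : finrank F W₀ = 2 * j)
    (hx : φ.IsIsom g) (h : g ^ 2 = -1) : (∃ W, Inv g W ∧ Cj φ W W₀) ↔ (Pl φ W₀ ↔ IsSquare (-1 : F) ∨ Even j) := by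
  refine ⟨fun ⟨W, k1, k2⟩ => by rw [← k2.pl, pl_sqm hQ h2 hx h k1 (k2.symm.nd hW) (k2.finrank_eq.trans hj)], fun H => ?_⟩
  obtain ⟨W, -, k1, k2, k3⟩ := (nb_sqm_quad hQ h2 hx h).exists_sub hx two_pos j le_top inv_top (nondegOn_top φ)
    (by have := Submodule.finrank_le W₀; rw [finrank_top]; omega)
  exact ⟨W, k1, cj_even hQ k2 hW (by simp [k3]) (by omega) (by rw [H, pl_sqm hQ h2 hx h k1 k2 (j := j) (by omega)])⟩

variable [hr : Fact r.Prime]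

local notation "bb" => orderOf ((Fintype.card F : ℕ) : ZMod r)
local notation "qq" => Fintype.card F

omit [FiniteDimensional F V] in
theorem real_k (h0 : (r : F) ≠ 0) (k : ℕ) :
    ∃ a h, a ≤ tt F r ∧ (a + 2 * h) * bb = k * cc F r ∧ (Even a ↔ (Even bb → Even k)) := by
  rcases tc_facts h0 with ⟨h1, h2, h3, h4⟩ | ⟨h1, h2, h3⟩
  · exact ⟨k % 2, k / 2, by omega, by rw [h2, Nat.mod_add_div], by simp [h1, Nat.even_iff]⟩
  · exact ⟨0, k, by omega, by rw [h2]; ring, by simp [h1]⟩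

omit [FiniteDimensional F V] in
theorem cc_pos (h0 : (r : F) ≠ 0) : 0 < cc F r := by have := ord_pos h0; unfold cc; split_ifs <;> omega

theorem real_mv (hQ : φ.IsQuad) (h0 : (r : F) ≠ 0) (ho : Odd r) {e : Prop} (he : Even (finrank F V) → (Pl φ ⊤ ↔ e)) (k : ℕ)
    (hk : k * cc F r ≤ finrank F V) : (k * cc F r = finrank F V → (e ↔ (Even bb → Even k))) ↔
      ∃ y : End F V, φ.IsIsom y ∧ y ^ r = 1 ∧ finrank F (mv y) = k * cc F r := by
  have h1 : k * cc F r = finrank F V → (Pl φ ⊤ ↔ e) := fun h => he (h ▸ even_cc.mul_left k)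
  refine ⟨fun H => ?_, fun ⟨y, hx, hy, h⟩ h2 => ?_⟩
  · obtain ⟨a, h, k1, k2, k3⟩ := real_k h0 k
    obtain ⟨y, hx, hy, k4⟩ := real_quad h0 ho hQ k1 (k2 ▸ hk) fun l => by rw [k3, ← H (k2 ▸ l), h1 (k2 ▸ l)]
    exact ⟨y, hx, hy, k4.1.trans k2⟩
  · rw [← h1 h2, ← Submodule.eq_top_of_finrank_eq (h.trans h2)]
    exact pl_mv h0 ho hQ hx hy inv_mv le_rfl (nd_mv hx (H24.Adj.semisimple_of_pow h0 hy)) h

theorem nd_main {L : Prop} {n m c : ℕ} {R A : ℕ → Prop} {B : ℕ → ℕ → Prop} (h : L ↔ NC n m c R A B) (hc : 0 < c)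
    (h0 : 0 < m) (h1 : m < n) (hB : ∀ k j, ¬ R (k + 1) → ¬ A (j + 1) → B k j) (hl : L → c ≤ m) :
    (L → c ≤ m ∧ ((n % c = 0 → R (n / c)) → m % c ≤ n % c ∧ (m % c = 0 → A (m / c)) ∧ (m % c = n % c → B (n / c) (m / c)))) ∧
    (((n % c = 0 → R (n / c)) → m % c ≤ n % c ∧ (m % c = 0 → A (m / c)) ∧ (m % c = n % c → B (n / c) (m / c))) → L) := by
  rw [nc_top hc h0 h1 fun _ _ k1 k2 k3 => hB _ _
    (by rwa [Nat.sub_add_cancel (k1.trans_le (Nat.div_le_div_right h1.le))]) (by rwa [Nat.sub_add_cancel k1])] at h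
  exact ⟨fun k => ⟨hl k, h.1 k (Nat.div_pos ((hl k).trans h1.le) hc)⟩, fun k => h.2 fun _ => k⟩

theorem cj_le (hP : Par φ r (tt F r) (cc F r)) (h0 : (r : F) ≠ 0) (ho : Odd r) (hW : φ.NondegOn W₀)
    (hΩ : r ∣ Nat.card {W // Cj φ W W₀}) (hL : ∀ y : End F V, φ.IsIsom y → y ^ r = 1 → y ≠ 1 → ∃ W, Inv y W ∧ Cj φ W W₀) :
    cc F r ≤ finrank F W₀ :=
  nd_le (p := fun W => Cj φ W W₀) hP h0 ho (fun _ h => ⟨h.symm.nd hW, h.finrank_eq⟩) (fun g _ h => (cj_map g).symm.trans h) ⟨W₀, Cj.refl⟩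
    (fun _ _ h h' => (h.trans h'.symm).equiv) hΩ hL

theorem nd_alt (hA : H09.IsAltF φ) (h0 : (r : F) ≠ 0) (ho : Odd r) (hW : φ.NondegOn W₀) {m : ℕ} (hm : finrank F W₀ = m)
    (h1 : 0 < m) (h2 : m < finrank F V) (hΩ : r ∣ Nat.card {W // Cj φ W W₀}) :
    (∀ y : End F V, φ.IsIsom y → y ^ r = 1 → y ≠ 1 → ∃ W, Inv y W ∧ Cj φ W W₀) ↔
      cc F r ≤ m ∧ (m % cc F r ≤ finrank F V % cc F r) := by
  have := nd_main (nd_crit (par_alt h0 hA) h0 ho (R := fun _ => True) (A := fun _ => True) (B := fun _ _ => True)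
    (p := fun W => Cj φ W W₀) (fun _ h => ⟨h.symm.nd hW, h.finrank_eq.trans hm⟩) (fun y k j X hx hy k1 k2 k3 k4 k5 k6 => ?_)
    fun k hk => ?_) (cc_pos h0) h1 h2 (by simp) (hm ▸ cj_le (par_alt h0 hA) h0 ho hW hΩ)
  · exact ⟨fun h => by simpa using this.1 h, fun h => this.2 (by simp [h.2])⟩
  · have k7 := nd_fx hx (H24.Adj.semisimple_of_pow h0 hy)
    have k8 : fx y ≤ φ.perp X := (perp_mv hx).ge.trans (φ.perp_anti k2)
    simp only [imp_true_iff, and_true]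
    refine ⟨fun ⟨Y, l1, l2, l3⟩ => ?_, fun h => ?_⟩
    · have := l3.finrank_eq
      have := Submodule.finrank_mono l1
      rw [finrank_sup_perp k4 (l1.trans k8)] at *
      omega
    · obtain ⟨a, ha⟩ := even_of_alt hA hW
      obtain ⟨b, hb⟩ := even_of_alt hA k4
      obtain ⟨Y, l1, l2, l3⟩ := exists_nd_alt hA k7 (k := a - b) (by omega)
      exact ⟨Y, l1, l2, cj_alt hA (nd_sup k4 l2 (l1.trans k8)) hW (by rw [finrank_sup_perp k4 (l1.trans k8)]; omega)⟩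
  · obtain ⟨a, h, k1, k2, -⟩ := real_k h0 k
    obtain ⟨y, hx, hy, k4⟩ := real_alt h0 ho hA k1 (k2 ▸ hk)
    exact iff_of_true (fun _ => trivial) ⟨y, hx, hy, k4.1.trans k2⟩

/-- the criterion at the largest support -/
def ND (n m c : ℕ) (β e s : Prop) : Prop := (n % c = 0 → (e ↔ (β → Even (n / c)))) → m % c ≤ n % c ∧
  (m % c = 0 → (s ↔ (β → Even (m / c)))) ∧ (m % c = n % c → ((e ↔ (β → Even (n / c))) ↔ (s ↔ (β → Even (m / c)))))

theorem nd_even (hQ : φ.IsQuad) (h0 : (r : F) ≠ 0) (ho : Odd r) (hW : φ.NondegOn W₀) {m : ℕ} (hm : finrank F W₀ = m)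
    (hm' : Even m) (h1 : 0 < m) (h2 : m < finrank F V) {e s : Prop} (he : Even (finrank F V) → (Pl φ ⊤ ↔ e)) (hs : Pl φ W₀ ↔ s)
    (hΩ : r ∣ Nat.card {W // Cj φ W W₀}) {L : Prop}
    (hL : L ↔ ∀ y : End F V, φ.IsIsom y → y ^ r = 1 → y ≠ 1 → ∃ W, Inv y W ∧ Cj φ W W₀) :
    (L → cc F r ≤ m ∧ ND (finrank F V) m (cc F r) (Even bb) e s) ∧ (ND (finrank F V) m (cc F r) (Even bb) e s → L) := by
  refine nd_main (hL.trans (nd_crit (par_quad h0 ho hQ) h0 ho (R := fun k => e ↔ (Even bb → Even k))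
    (A := fun j => s ↔ (Even bb → Even j)) (B := fun k j => (e ↔ (Even bb → Even k)) ↔ (s ↔ (Even bb → Even j)))
    (fun _ h => ⟨h.symm.nd hW, h.finrank_eq.trans hm⟩) (fun y k j X hx hy k1 k2 k3 k4 k5 k6 => ?_) (real_mv hQ h0 ho he)))
    (cc_pos h0) h1 h2 (fun k j => by simp only [Nat.even_add_one]; exact iff4)
    fun h => hm ▸ cj_le (par_quad h0 ho hQ) h0 ho hW hΩ (hL.1 h)
  have hs' := H24.Adj.semisimple_of_pow h0 hy
  have k7 := nd_fx hx hs'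
  have k8 : fx y ≤ φ.perp X := (perp_mv hx).ge.trans (φ.perp_anti k2)
  have k9 := pl_mv h0 ho hQ hx hy k3 k2 k4 k5
  have k10 : Even (finrank F X) := k5 ▸ even_cc.mul_left j
  have k11 : Even (finrank F (mv y)) := k1 ▸ even_cc.mul_left k
  have k12 : Even (finrank F (fx y)) → (Pl φ (fx y) ↔ (e ↔ (Even bb → Even k))) := fun h => by
    have l1 : Even (finrank F V) := finrank_fx_add (g := y) ▸ h.add k11
    rw [← perp_mv hx, pl_perp hQ (nd_mv hx hs') l1 k11, he l1, pl_mv h0 ho hQ hx hy inv_mv le_rfl (nd_mv hx hs') k1]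
  obtain ⟨a, ha⟩ : Even (m - j * cc F r) := (Nat.even_sub k6).2 (iff_of_true hm' (k5 ▸ k10))
  simp only [cj_even_iff hQ hW (hm ▸ hm'), hm, hs]
  refine ⟨fun ⟨Y, l1, l2, _, l3, l4⟩ => ?_, fun h => ?_⟩
  · have := Submodule.finrank_mono l1
    rw [finrank_sup_perp k4 (l1.trans k8)] at l3
    rw [pl_sup hQ k4 l2 (l1.trans k8) k10 ⟨a, by omega⟩, k9] at l4
    refine ⟨by omega, fun h => ?_, fun h => ?_⟩
    · rw [Submodule.finrank_eq_zero.1 (by omega : finrank F Y = 0)] at l4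
      simp only [pl_bot, iff_true] at l4
      exact l4.symm
    · rw [Submodule.eq_of_le_of_finrank_eq l1 (by omega), k12 ⟨a, by omega⟩] at l4
      exact iff3 l4
  · obtain ⟨Y, l1, l2, l3, l4⟩ := exists_nd_type hQ k7 (s ↔ (Even bb → Even j)) (k := a) (by omega) (fun l => h.2.1 (by omega))
      fun l => by rw [k12 ⟨a, by omega⟩]; exact h.2.2 (by omega)
    refine ⟨Y, l1, l2, nd_sup k4 l2 (l1.trans k8), by rw [finrank_sup_perp k4 (l1.trans k8)]; omega, ?_⟩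
    rw [pl_sup hQ k4 l2 (l1.trans k8) k10 ⟨a, by omega⟩, k9, l4]
    exact iff2

theorem nd_odd (hQ : φ.IsQuad) (h3 : (2 : F) ≠ 0) (h0 : (r : F) ≠ 0) (ho : Odd r) (hW : φ.NondegOn W₀) {m : ℕ}
    (hm : finrank F W₀ = m) (hm' : Odd m) (hn : Even (finrank F V)) (h2 : m < finrank F V) {e : Prop} (he : Pl φ ⊤ ↔ e)
    (hΩ : r ∣ Nat.card {W // Cj φ W W₀}) {L : Prop}
    (hL : L ↔ ∀ y : End F V, φ.IsIsom y → y ^ r = 1 → y ≠ 1 → ∃ W, Inv y W ∧ Cj φ W W₀) :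
    (L → cc F r ≤ m ∧ ((finrank F V % cc F r = 0 → (e ↔ (Even bb → Even (finrank F V / cc F r)))) →
      m % cc F r ≤ finrank F V % cc F r)) ∧ (((finrank F V % cc F r = 0 → (e ↔ (Even bb → Even (finrank F V / cc F r)))) →
      m % cc F r ≤ finrank F V % cc F r) → L) := by
  have := nd_main (hL.trans (nd_crit (par_quad h0 ho hQ) h0 ho (R := fun k => e ↔ (Even bb → Even k))
    (A := fun _ => True) (B := fun _ _ => True)
    (fun _ h => ⟨h.symm.nd hW, h.finrank_eq.trans hm⟩) (fun y k j X hx hy k1 k2 k3 k4 k5 k6 => ?_)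
    (real_mv hQ h0 ho fun _ => he))) (cc_pos h0) hm'.pos h2 (by simp)
    fun h => hm ▸ cj_le (par_quad h0 ho hQ) h0 ho hW hΩ (hL.1 h)
  · simpa using this
  have k8 : fx y ≤ φ.perp X := (perp_mv hx).ge.trans (φ.perp_anti k2)
  have k10 : Even (finrank F X) := k5 ▸ even_cc.mul_left j
  have k11 : Even (finrank F (mv y)) := k1 ▸ even_cc.mul_left k
  have := finrank_fx_add (g := y)
  simp only [imp_true_iff, and_true]
  refine ⟨fun ⟨Y, l1, l2, l3⟩ => ?_, fun h => exists_cj_sup hQ h3 hW (nd_fx hx (H24.Adj.semisimple_of_pow h0 hy)) k4 k8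
    (by grind) (by grind)⟩
  have := l3.finrank_eq
  have := Submodule.finrank_mono l1
  rw [finrank_sup_perp k4 (l1.trans k8)] at *
  omega

end

end H28.El
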