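import Mathlib
import Cfsg.Agent.H28.El16

/-!
# Involutions in characteristic two and the criteria for non-degenerate subspaces (namespace `H28.El`)
-/

set_option autoImplicit false

open Module Polynomial H24.Sim H10 H10.Form

namespace H28.El

section
variable {F V : Type*} [Field F] [AddCommGroup V] [Module F V] {φ : Form F V} {U W W₀ X Y Z : Submodule F V}
  {g x y z : End F V} {r : ℕ}

variable (φ) in
/-- the Wall form is alternating -/
def Al (g : End F V) : Prop := ∀ v, φ.B v (g v - v) = 0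

variable (φ) in
/-- an involution of given rank and type supported in `U` -/
def Iv (U : Submodule F V) (k : ℕ) (a : Prop) : Prop :=
  ∃ x : End F V, φ.IsIsom x ∧ x ^ 2 = 1 ∧ mv x ≤ U ∧ finrank F (mv x) = k ∧ (Al φ x ↔ a)

theorem iv_zero : Iv φ U 0 True := ⟨1, isom_one, one_pow _, mv_one.trans_le bot_le, by rw [mv_one, finrank_bot], by simp [Al]⟩

theorem mul_self_iff' (g : φ.Isom) : g * g = 1 ↔ (g.1 : End F V) ^ 2 = 1 := by
  rw [← coe_isom_pow, sq, isom_eq_iff]; rfl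

theorem map_mv_restrict (hW : Inv z W) : (mv (z.restrict hW : End F W)).map W.subtype = W.map (z - 1) := by
  ext v
  simp only [Submodule.mem_map, mem_mv]
  exact ⟨by rintro ⟨_, ⟨a, rfl⟩, rfl⟩; exact ⟨a, a.2, rfl⟩, by rintro ⟨a, ha, rfl⟩; exact ⟨_, ⟨⟨a, ha⟩, rfl⟩, rfl⟩⟩

theorem isom_restrict (hx : φ.IsIsom z) (hW : Inv z W) : (φ.restrict W).IsIsom (z.restrict hW : End F W) :=
  ⟨fun _ _ => hx.B _ _, fun _ => hx.Q _⟩

theorem map_sub_le (hW : Inv z W) : W.map (z - 1) ≤ W := by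
  rintro _ ⟨a, ha, rfl⟩; exact W.sub_mem (hW a ha) ha

variable [FiniteDimensional F V] [φ.Nondeg]

theorem alt_toIsom (hx : φ.IsIsom g) : H24.Wall.Alt (φ.toIsom g) ↔ Al φ g :=
  forall_congr' fun v => by rw [H24.Wall.N_apply, φ.toIsom_apply hx]

theorem sq_toIsom (hx : φ.IsIsom g) : φ.toIsom g * φ.toIsom g = 1 ↔ g ^ 2 = 1 := by
  rw [mul_self_iff', φ.toIsom_coe hx]

theorem Al.even (hσ : ∀ a, φ.σ a = a) (hx : φ.IsIsom g) (h : Al φ g) : Even (finrank F (mv g)) :=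
  W_toIsom hx ▸ ((alt_toIsom hx).2 h).even hσ

theorem finrank_mv_split (hx : φ.IsIsom z) (hW : Inv z W) (hW' : φ.NondegOn W) :
    finrank F (mv z) = finrank F (W.map (z - 1)) + finrank F ((φ.perp W).map (z - 1)) := by
  rw [← finrank_sup_of_disjoint ((disj_of_perp hW' le_rfl).mono (map_sub_le hW) (map_sub_le (hW.perp hx))),
    ← Submodule.map_sup, hW'.isCompl_perp.sup_eq_top, Submodule.map_top]; rfl

theorem al_iff (hx : φ.IsIsom z) (hW : Inv z W) (hW' : φ.NondegOn W) :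
    Al φ z ↔ (∀ v ∈ W, φ.B v (z v - v) = 0) ∧ ∀ v ∈ φ.perp W, φ.B v (z v - v) = 0 := by
  refine ⟨fun h => ⟨fun v _ => h v, fun v _ => h v⟩, fun h v => ?_⟩
  obtain ⟨⟨a, ha⟩, ⟨b, hb⟩, rfl⟩ := exists_add_of_isCompl hW'.isCompl_perp v
  rw [map_add z, add_sub_add_comm, map_add (φ.B _), map_add, LinearMap.add_apply, LinearMap.add_apply, h.1 a ha, h.2 b hb,
    φ.mem_perp'.1 hb _ (W.sub_mem (hW a ha) ha), φ.mem_perp.1 ((φ.perp W).sub_mem (hW.perp hx b hb) hb) a ha]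
  simp

theorem iv_ext (hU : φ.NondegOn U) {g : (φ.restrict U).Isom} (hg : g * g = 1) :
    Iv φ U (finrank F (H24.Wall.W g)) (H24.Wall.Alt g) := by
  have h1 : ∀ u : U, ((extHom hU g).1 : End F V) u = g.1 u := extHom_left hU g
  have h2 : ∀ v ∈ φ.perp U, ((extHom hU g).1 : End F V) v = v := fun v hv => extHom_right hU g hv
  have h3 : Inv ((extHom hU g).1 : End F V) U := fun v hv => h1 ⟨v, hv⟩ ▸ Subtype.mem _
  have h4 : (φ.perp U).map (((extHom hU g).1 : End F V) - 1) = ⊥ := eq_bot_iff.2 (by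
    rintro _ ⟨v, hv, rfl⟩; exact sub_eq_zero.2 (h2 v hv))
  have h5 : mv ((extHom hU g).1 : End F V) = (H24.Wall.W g).map U.subtype := by
    rw [mv, ← Submodule.map_top, ← hU.isCompl_perp.sup_eq_top, Submodule.map_sup, h4, sup_bot_eq, ← map_mv_restrict h3]
    congr 3
    ext u; exact h1 u
  refine ⟨_, (extHom hU g).2, (mul_self_iff' _).1 (by rw [← map_mul, hg, map_one]), h5 ▸ Submodule.map_subtype_le _ _,
    h5 ▸ Submodule.finrank_map_subtype_eq _ _, (al_iff (extHom hU g).2 h3 hU).trans ⟨fun h u => ?_, fun h => ⟨fun u hu => ?_,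
      fun v hv => by simp [h2 v hv]⟩⟩⟩
  · have := h.1 u u.2; rwa [h1] at this
  · rw [h1 ⟨u, hu⟩]; exact h ⟨u, hu⟩

theorem iv_glue (hU : φ.NondegOn U) {k l : ℕ} {a b : Prop} (h : Iv φ U k a) (h' : Iv φ (φ.perp U) l b) :
    ∃ z : End F V, φ.IsIsom z ∧ z ^ 2 = 1 ∧ Inv z U ∧ finrank F (mv z) = k + l ∧ (Al φ z ↔ a ∧ b) := by
  obtain ⟨x, x1, x2, x3, rfl, x5⟩ := h
  obtain ⟨y, y1, y2, y3, rfl, y5⟩ := h'
  obtain ⟨k1, k2, k3, k4⟩ := glue x1 y1 hU x3 y3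
  have k5 : φ.IsIsom ⇑(x * y) := ⟨fun _ _ => (x1.B _ _).trans (y1.B _ _), fun _ => (x1.Q _).trans (y1.Q _)⟩
  have k6 : Inv (x * y) U := fun v hv => k2 v hv ▸ inv_of_mv_le x3 v hv
  refine ⟨x * y, k5, by rw [k1.mul_pow, x2, y2, mul_one], k6,
    k4 ▸ finrank_sup_of_disjoint ((disj_of_perp hU le_rfl).mono x3 y3), ?_⟩
  rw [← x5, ← y5, al_iff k5 k6 hU, al_iff x1 (inv_of_mv_le x3) hU, al_iff y1 (inv_of_mv_le y3) hU.perp, perp_perp]
  exact ⟨fun h => ⟨⟨fun v hv => k2 v hv ▸ h.1 v hv, fun v hv => by simp [fix_of_mv x1 x3 hv]⟩, fun v hv => k3 v hv ▸ h.2 v hv,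
      fun v hv => by simp [fix_of_mv y1 y3 (φ.le_perp_perp U hv)]⟩,
    fun h => ⟨fun v hv => (k2 v hv).symm ▸ h.1.1 v hv, fun v hv => (k3 v hv).symm ▸ h.2.1 v hv⟩⟩

theorem Al.even_map (hσ : ∀ a, φ.σ a = a) (hx : φ.IsIsom z) (h : Al φ z) (hW : Inv z W) (hW' : φ.NondegOn W) :
    Even (finrank F (W.map (z - 1))) := by
  haveI := hW'.nondeg
  rw [← map_mv_restrict hW, Submodule.finrank_map_subtype_eq]
  exact Al.even (φ := φ.restrict W) hσ (isom_restrict hx hW) fun v => h v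

open Classical in
/-- half of the largest even dimension of a totally singular subspace -/
noncomputable def wt (n : ℕ) (e : Prop) : ℕ := if e then n / 4 else (n - 1) / 4

theorem wt_iff (hK : Kd φ) (hU : φ.NondegOn U) (k : ℕ) :
    (∃ Z ≤ U, φ.TS Z ∧ finrank F Z = 2 * k) ↔ k ≤ wt (finrank F U) (Pl φ U) := by
  rw [hK.ts_iff hU, wt]
  split_ifs with h
  · simp only [h, imp_true_iff, and_true]; omega
  · have : finrank F U ≠ 0 := fun h' => h (Submodule.finrank_eq_zero.1 h' ▸ pl_bot)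
    simp only [h, imp_false]; omega

variable [Finite F] [CharP F 2]

theorem two_crit (hσ : ∀ a, φ.σ a = a) (hK : Kd φ) (hT : ∀ g : φ.Isom, g * g = 1 → H24.Wall.Alt g → φ.TS (H24.Wall.W g))
    (hN : ∀ U, φ.NondegOn U → ∀ k, 2 * k + 2 ≤ finrank F U →
      ∃ g : (φ.restrict U).Isom, g * g = 1 ∧ finrank F (H24.Wall.W g) = k + 1 ∧ ¬ H24.Wall.Alt g)
    {G : End F V → Prop} (h1 : ∀ g, G g → φ.IsIsom g) (h2 : ∀ g : End F V, φ.IsIsom g → Even (finrank F (mv g)) → G g)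
    (hW : φ.NondegOn W₀) (he : Even (finrank F W₀)) : (∀ g, G g → g ^ 2 = 1 → g ≠ 1 → ∃ W, Inv g W ∧ Cj φ W W₀) ↔
      wt (finrank F V) (Pl φ ⊤) ≤ wt (finrank F W₀) (Pl φ W₀) + wt (finrank F (φ.perp W₀)) (Pl φ (φ.perp W₀)) := by
  have iv1 : ∀ U k, φ.NondegOn U → k ≤ wt (finrank F U) (Pl φ U) → Iv φ U (2 * k) True := fun U k hU hk => by
    obtain ⟨Z, k1, k2, k3⟩ := (wt_iff hK hU k).2 hk
    obtain ⟨g, k4, rfl, k5⟩ := H24.Wall.exists_alt hσ k2 k3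
    exact ⟨_, g.2, (mul_self_iff' g).1 k4, k1, k3, iff_true_intro k5⟩
  have iv2 : ∀ U k, φ.NondegOn U → 2 * k ≤ finrank F U → Iv φ U k (k = 0) := fun U k hU hk => by
    cases k with
    | zero => simpa using iv_zero
    | succ k =>
      obtain ⟨g, k1, k2, k3⟩ := hN U hU k hk
      simpa [k2, k3] using iv_ext hU k1
  rw [← finrank_top F V]
  refine ⟨fun H => ?_, fun H g k1 k2 k3 => ?_⟩
  · obtain ⟨g, k1, k2, -, k3, k4⟩ := iv1 ⊤ _ (nondegOn_top φ) le_rfl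
    by_cases k5 : g = 1
    · rw [k5, mv_one, finrank_bot] at k3; omega
    obtain ⟨W, l1, l2⟩ := H g (h2 g k1 (by simp [k3])) k2 k5
    have l3 := l2.symm.nd hW
    have l4 := hT _ ((sq_toIsom k1).2 k2) ((alt_toIsom k1).2 (k4.2 trivial))
    rw [W_toIsom k1] at l4
    obtain ⟨a, ha⟩ := (k4.2 trivial).even_map hσ k1 l1 l3
    obtain ⟨b, hb⟩ := (k4.2 trivial).even_map hσ k1 (l1.perp k1) l3.perp
    have l5 := (wt_iff hK l3 a).1 ⟨_, map_sub_le l1, l4.mono LinearMap.map_le_range, by omega⟩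
    have l6 := (wt_iff hK l3.perp b).1 ⟨_, map_sub_le (l1.perp k1), l4.mono LinearMap.map_le_range, by omega⟩
    rw [l2.finrank_eq, l2.pl] at l5
    rw [l2.perp.finrank_eq, l2.perp.pl] at l6
    have := finrank_mv_split k1 l1 l3
    omega
  · have k4 := h1 g k1
    suffices ∃ z : End F V, φ.IsIsom z ∧ z ^ 2 = 1 ∧ Inv z W₀ ∧ finrank F (mv z) = finrank F (mv g) ∧ (Al φ z ↔ Al φ g) by
      obtain ⟨z, l1, l2, l3, l4, l5⟩ := this
      have := inv_conj ((H24.Wall.isConj_inv_iff hσ ((sq_toIsom l1).2 l2) ((sq_toIsom k4).2 k2)).2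
        (by rw [W_toIsom l1, W_toIsom k4, alt_toIsom l1, alt_toIsom k4]; exact ⟨l4, l5⟩)) (W := W₀)
        (by rwa [φ.toIsom_coe l1])
      rwa [φ.toIsom_coe k4] at this
    by_cases k5 : Al φ g
    · obtain ⟨k, hk⟩ := k5.even hσ k4
      have l1 := (wt_iff hK (nondegOn_top φ) k).1 ⟨_, le_top, W_toIsom k4 ▸ hT _ ((sq_toIsom k4).2 k2) ((alt_toIsom k4).2 k5),
        by omega⟩
      obtain ⟨z, l2, l3, l4, l5, l6⟩ := iv_glue hW (iv1 _ _ hW (min_le_right k _))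
        (iv1 _ (k - min k (wt (finrank F W₀) (Pl φ W₀))) hW.perp (by omega))
      exact ⟨z, l2, l3, l4, by omega, by simp [l6, k5]⟩
    · have l1 := H24.Wall.two_mul_rank_le ((sq_toIsom k4).2 k2)
      have l0 : finrank F (mv g) ≠ 0 := mt Submodule.finrank_eq_zero.1 (mv_ne_bot k3)
      rw [W_toIsom k4] at l1
      obtain ⟨j, hj⟩ := he
      have := φ.finrank_perp W₀
      obtain ⟨z, l2, l3, l4, l5, l6⟩ := iv_glue hW (iv2 _ (min (finrank F (mv g)) j) hW (by omega))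
        (iv2 _ (finrank F (mv g) - min (finrank F (mv g)) j) hW.perp (by omega))
      exact ⟨z, l2, l3, l4, by omega, iff_of_false (by rw [l6]; omega) k5⟩

theorem two_alt [Nontrivial V] (hA : H09.IsAltF φ) (hW : φ.NondegOn W₀) :
    (∀ g : End F V, φ.IsIsom g → PE 2 g → ∃ W, Inv g W ∧ Cj φ W W₀) ↔
      finrank F V / 4 ≤ finrank F W₀ / 4 + (finrank F V - finrank F W₀) / 4 := by
  rw [pe_char_two hA.σ_eq fun _ h => h, two_crit hA.σ_eq (kd_alt hA) (fun g h _ => hA.ts ((H24.Wall.mul_self_iff g).1 h))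
    (fun U hU k hk => ?_) (fun _ h => h) (fun _ h _ => h) hW (even_of_alt hA hW), ← φ.finrank_perp W₀]
  · simp [wt, pl_alt hA hW, pl_alt hA hW.perp, pl_alt hA (nondegOn_top φ)]
  · haveI := hU.nondeg
    obtain ⟨m, hm⟩ := even_of_alt hA hU
    exact H24.Wall.exists_nonalt_altF (hA.restrict U) (m := m) (by omega) (by omega)

theorem two_quad (hQ : φ.IsQuad) (hn : 5 ≤ finrank F V) (hn' : Even (finrank F V)) (hW : φ.NondegOn W₀)
    (hm : Even (finrank F W₀)) {e s : Prop} (he : Pl φ ⊤ ↔ e) (hs : Pl φ W₀ ↔ s) :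
    (∀ g : End F V, Om φ g → PE 2 g → ∃ W, Inv g W ∧ Cj φ W W₀) ↔
      wt (finrank F V) e ≤ wt (finrank F W₀) s + wt (finrank F V - finrank F W₀) (e ↔ s) := by
  haveI : Nontrivial V := nontrivial_of_finrank_pos (R := F) (by omega)
  rw [pe_char_two hQ.σ_eq fun _ h => h.isom, two_crit hQ.σ_eq (kd_quad hQ) (fun g _ h => h.ts g hQ)
    (fun U hU k hk => ?_) (fun _ h => h.isom) (fun g h h' => ?_) hW hm, pl_perp hQ hW hn' hm, he, hs,
    show finrank F (φ.perp W₀) = finrank F V - finrank F W₀ by have := φ.finrank_perp W₀; omega]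
  · haveI := hU.nondeg
    exact H24.Wall.exists_nonalt_quad (hQ.restrict U) (hasTS_restrict_iff.2 (kd_quad hQ U hU k (by omega))) hk
  · rwa [om_iff_toIsom h, H24.Wall.mem_commutator_iff_even hQ (hQ.good_of_finrank (by omega)) (by omega), W_toIsom h]

end

section
variable {F V : Type*} [Field F] [AddCommGroup V] [Module F V] {φ : Form F V} {U W W₀ X Y Z : Submodule F V}
  {r : ℕ} [FiniteDimensional F V] [φ.Nondeg] [Fintype F] [hr : Fact r.Prime]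

local notation "bb" => orderOf ((Fintype.card F : ℕ) : ZMod r)
local notation "qq" => Fintype.card F

theorem inv_neg' {p : Submodule F V → Prop} (g : End F V) (h : ∃ W, Inv g W ∧ p W) : ∃ W, Inv (-g) W ∧ p W := inv_neg g h

omit hr in
theorem two_ee (hQ : φ.IsQuad) (h2 : (2 : F) ≠ 0) {d j : ℕ} (hn : finrank F V = 2 * d) (hW : φ.NondegOn W₀)
    (hm : finrank F W₀ = 2 * j) (h0 : 0 < j) (h1 : j < d) {e s : Prop} (he : Pl φ ⊤ ↔ e) (hs : Pl φ W₀ ↔ s) :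
    (∀ g : End F V, Om φ g → PE 2 g → ∃ W, Inv g W ∧ Cj φ W W₀) ↔
      ((e ↔ qq % 4 = 1 ∨ d % 2 = 0) → (qq % 8 = 1 ∨ qq % 8 = 7 ∨ d % 2 = 0) → (s ↔ qq % 4 = 1 ∨ j % 2 = 0)) := by
  haveI : Nontrivial V := nontrivial_of_finrank_pos (R := F) (by omega)
  rw [pe_two hQ.σ_eq h2 fun _ h => h.isom, sqm_all hQ h2 hn (by omega) fun g k1 k2 => sqm_cj hQ h2 hW hm k1 k2, he, hs,
    sq_neg_one_iff h2, Nat.even_iff]
  exact and_iff_right fun g k1 k2 k3 _ => invol_cj hQ h2 hW (by omega) (by omega) g k1 k2 k3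

omit hr in
theorem two_eo (hQ : φ.IsQuad) (h2 : (2 : F) ≠ 0) {d : ℕ} (hn : finrank F V = 2 * d) (hW : φ.NondegOn W₀)
    (hm : Odd (finrank F W₀)) (h1 : finrank F W₀ < 2 * d) {e : Prop} (he : Pl φ ⊤ ↔ e) :
    (∀ g : End F V, Om φ g → PE 2 g → ∃ W, Inv g W ∧ Cj φ W W₀) ↔
      ((e ↔ qq % 4 = 1 ∨ d % 2 = 0) → (qq % 8 = 1 ∨ qq % 8 = 7 ∨ d % 2 = 0) → False) := by
  haveI : Nontrivial V := nontrivial_of_finrank_pos (R := F) (by omega)
  rw [pe_two hQ.σ_eq h2 fun _ h => h.isom, sqm_all hQ h2 hn (by omega) (R := False) fun g k1 k2 => iff_false_intro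
    fun ⟨W, k3, k4⟩ => Nat.not_even_iff_odd.2 hm (k4.finrank_eq ▸ sqm_even hQ h2 k1 k2 k3 (k4.symm.nd hW)), he]
  exact and_iff_right fun g k1 k2 k3 _ => invol_cj hQ h2 hW hm.pos (by omega) g k1 k2 k3

theorem pe_om (hQ : φ.IsQuad) (hn : 5 ≤ finrank F V) (ho : Odd r) {p : Submodule F V → Prop} :
    (∀ g : End F V, Om φ g → PE r g → ∃ W, Inv g W ∧ p W) ↔
      ∀ y : End F V, φ.IsIsom y → y ^ r = 1 → y ≠ 1 → ∃ W, Inv y W ∧ p W :=
  haveI : Nontrivial V := nontrivial_of_finrank_pos (R := F) (by omega)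
  pe_odd hQ.σ_eq ho (fun _ h => h.isom) (fun _ => om_of_odd hQ (hQ.good_of_finrank (by omega)) (by omega) ho) inv_neg

theorem ord_om (hQ : φ.IsQuad) (hn : 5 ≤ finrank F V) (ho : Odd r) {P : End F V → Prop} :
    (∀ g : End F V, Om φ g → g ^ r = 1 → g ≠ 1 → P g) ↔ ∀ y : End F V, φ.IsIsom y → y ^ r = 1 → y ≠ 1 → P y :=
  ⟨fun H y hx hy => H y (om_of_odd hQ (hQ.good_of_finrank (by omega)) (by omega) ho hx hy) hy, fun H y h => H y h.isom⟩

omit hr in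
theorem exists_model (hQ : φ.IsQuad) {m : ℕ} (hm : Even m) (h0 : 0 < m) (h1 : m < finrank F V) (s : Prop) :
    ∃ W₀, φ.NondegOn W₀ ∧ finrank F W₀ = m ∧ (Pl φ W₀ ↔ s) ∧
      ∀ W : Submodule F V, (finrank F W = m ∧ φ.NondegOn W ∧ (Pl φ W ↔ s)) ↔ Cj φ W W₀ := by
  obtain ⟨j, rfl⟩ := even_iff_two_dvd.1 hm
  obtain ⟨W₀, -, k1, k2, k3⟩ := exists_nd_type hQ (nondegOn_top φ) s (k := j) (by rw [finrank_top]; omega) (by omega)
    (by rw [finrank_top]; omega)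
  exact ⟨W₀, k1, k2, k3, fun W => by rw [cj_even_iff hQ k1 (k2 ▸ hm), k2, k3, and_left_comm]⟩

omit hr [Fintype F] in
theorem cj_iff' (hW : φ.NondegOn W₀) {m : ℕ} (hm : finrank F W₀ = m) : (finrank F W = m ∧ φ.NondegOn W ∧
    ∃ e, IsEquiv (φ.restrict W) (φ.restrict W₀) e) ↔ Cj φ W W₀ :=
  ⟨fun h => cj_iff.2 h.2.2, fun h => ⟨h.finrank_eq.trans hm, h.symm.nd hW, h.equiv⟩⟩

end

end H28.El
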