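import Mathlib
import Cfsg.Agent.H28.El17

/-!
# Arithmetic of the criteria for non-degenerate subspaces (namespace `H28.El`)
-/

set_option autoImplicit false

namespace H28.El

variable {n m i c : ℕ} (hc : c = if Even i then i else 2 * i) (hi : 0 < i)
include hc hi

theorem prep : ((Even i ∧ ¬ Odd i ∧ c = i) ∨ (¬ Even i ∧ Odd i ∧ c = 2 * i)) ∧ (c ≤ m ↔ 1 ≤ m / c) ∧
    (m % c = n % c → (n + m - 2 * (n % c)) / c = n / c + m / c) ∧ n % 2 = n % c % 2 ∧ m % 2 = m % c % 2 ∧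
    (m ≤ n ↔ m / c < n / c ∨ m / c = n / c ∧ m % c ≤ n % c) ∧ (0 < m → 1 ≤ m / c ∨ 0 < m % c) := by
  have h1 : (Even i ∧ ¬ Odd i ∧ c = i) ∨ (¬ Even i ∧ Odd i ∧ c = 2 * i) := by
    rcases Nat.even_or_odd i with h | h
    · exact Or.inl ⟨h, Nat.not_odd_iff_even.2 h, hc.trans (if_pos h)⟩
    · exact Or.inr ⟨Nat.not_even_iff_odd.2 h, h, hc.trans (if_neg (Nat.not_even_iff_odd.2 h))⟩
  have h2 : c % 2 = 0 ∧ 0 < c := by rw [Nat.even_iff] at h1; omega
  obtain ⟨-, -, a3, a4, -, -, a7, a8⟩ := dm_facts (n := n) (m := m) h2.2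
  refine ⟨h1, a3, a7, (a8 h2.1).1, (a8 h2.1).2, a4, fun h => ?_⟩
  have := Nat.div_add_mod m c
  rcases Nat.eq_zero_or_pos (m / c) with h | h
  · rw [h] at this; omega
  · exact Or.inl h

theorem ar92 (hn : n % 2 = 1) (hm : m % 2 = 0) : (c ≤ m ∧ ND n m c (Even i) True True) ↔
    ((Odd i ∧ c ≤ m ∧ (m % c = 0 ∨ (0 < m % c ∧ m % c < n % c))) ∨
     (Even i ∧ i ≤ m ∧ m % c < n % c ∧ (0 < m % c ∨ Even (m / i)))) := by
  obtain ⟨⟨h1, h2, rfl⟩ | ⟨h1, h2, h3⟩, a1, a2, a3, a4, a5, a6⟩ := prep (n := n) (m := m) hc hi <;>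
    simp only [ND, h1, h2, true_and, false_and, true_iff, forall_const, false_or, or_false, IsEmpty.forall_iff, iff_self, implies_true, and_true, not_iff_not] <;>
    (try simp only [Nat.even_iff, Nat.odd_iff]) <;> omega

theorem ar93 (hn : n % 2 = 1) (hm : m % 2 = 0) : (c ≤ m ∧ ND n m c (Even i) True False) ↔
    ((Odd i ∧ c ≤ m ∧ 0 < m % c ∧ m % c < n % c) ∨
     (Even i ∧ i ≤ m ∧ m % c < n % c ∧ (0 < m % c ∨ Odd (m / i)))) := by
  obtain ⟨⟨h1, h2, rfl⟩ | ⟨h1, h2, h3⟩, a1, a2, a3, a4, a5, a6⟩ := prep (n := n) (m := m) hc hi <;>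
    simp only [ND, h1, h2, true_and, false_and, true_iff, forall_const, false_or, or_false, IsEmpty.forall_iff, iff_self, implies_true, and_true, not_iff_not,
      false_iff, not_true, imp_false, iff_false] <;>
    (try simp only [Nat.even_iff, Nat.odd_iff]) <;> omega

theorem ar74 {L : Prop} (h : (L → c ≤ m ∧ ND n m c (Even i) True True) ∧ (ND n m c (Even i) True True → L)) : L ↔
    ((Odd i ∧ c ≤ m ∧ m % c ≤ n % c) ∨ (Even i ∧ ((n % c = 0 ∧ (Odd (n / i) ∨ (m % c = 0 ∧ Even (m / i)))) ∨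
        (i ≤ m ∧ ((m % c < n % c ∧ 0 < m % c) ∨ (n % c = m % c ∧ 0 < m % c ∧ Even ((n + m - 2 * (n % c)) / i)) ∨
                  (0 < n % c ∧ m % c = 0 ∧ Even (m / i))))))) := by
  refine ⟨fun k => ?_, fun k => h.2 ?_⟩
  on_goal 1 => replace k := h.1 k
  all_goals
  clear h
  obtain ⟨⟨h1, h2, rfl⟩ | ⟨h1, h2, h3⟩, a1, a2, a3, a4, a5, a6⟩ := prep (n := n) (m := m) hc hi <;>
    simp only [ND, h1, h2, true_and, false_and, true_iff, forall_const, false_or, or_false, IsEmpty.forall_iff, iff_self, implies_true, and_true, not_iff_not,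
      false_iff, not_true, imp_false, iff_false] at k ⊢ <;>
    (try simp only [Nat.even_iff, Nat.odd_iff] at k ⊢) <;> omega

theorem ar88 {L : Prop} (h : (L → c ≤ m ∧ ND n m c (Even i) True False) ∧ (ND n m c (Even i) True False → L)) : L ↔
    ((Odd i ∧ c ≤ m ∧ 0 < m % c ∧ m % c < n % c) ∨ (Even i ∧ ((n % c = 0 ∧ (Odd (n / i) ∨ (m % c = 0 ∧ Odd (m / i)))) ∨
        (i ≤ m ∧ ((0 < m % c ∧ m % c < n % c) ∨ (0 < m % c ∧ m % c = n % c ∧ Odd ((n + m - 2 * (n % c)) / i)) ∨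
                  (m % c = 0 ∧ 0 < n % c ∧ Odd (m / i))))))) := by
  refine ⟨fun k => ?_, fun k => h.2 ?_⟩
  on_goal 1 => replace k := h.1 k
  all_goals
  clear h
  obtain ⟨⟨h1, h2, rfl⟩ | ⟨h1, h2, h3⟩, a1, a2, a3, a4, a5, a6⟩ := prep (n := n) (m := m) hc hi <;>
    simp only [ND, h1, h2, true_and, false_and, true_iff, forall_const, false_or, or_false, IsEmpty.forall_iff, iff_self, implies_true, and_true, not_iff_not,
      false_iff, not_true, imp_false, iff_false] at k ⊢ <;>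
    (try simp only [Nat.even_iff, Nat.odd_iff] at k ⊢) <;> omega

theorem ar90 {L : Prop} (h : (L → c ≤ m ∧ ND n m c (Even i) False False) ∧ (ND n m c (Even i) False False → L)) : L ↔
    ((Odd i ∧ (n % c = 0 ∨ (c ≤ m ∧ 0 < m % c ∧ m % c ≤ n % c))) ∨
      (Even i ∧ ((n % c = 0 ∧ (Even (n / i) ∨ (m % c = 0 ∧ Odd (m / i)))) ∨
        (0 < n % c ∧ i ≤ m ∧ ((0 < m % c ∧ m % c < n % c) ∨ (m % c = 0 ∧ Odd (m / i)) ∨
          (m % c = n % c ∧ Even ((n + m - 2 * (n % c)) / i))))))) := by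
  refine ⟨fun k => ?_, fun k => h.2 ?_⟩
  on_goal 1 => replace k := h.1 k
  all_goals
  clear h
  obtain ⟨⟨h1, h2, rfl⟩ | ⟨h1, h2, h3⟩, a1, a2, a3, a4, a5, a6⟩ := prep (n := n) (m := m) hc hi <;>
    simp only [ND, h1, h2, true_and, false_and, true_iff, forall_const, false_or, or_false, IsEmpty.forall_iff, iff_self, implies_true, and_true, not_iff_not,
      false_iff, not_true, imp_false, iff_false] at k ⊢ <;>
    (try simp only [Nat.even_iff, Nat.odd_iff] at k ⊢) <;> omega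

theorem ar89 {L : Prop} (hn : n % 2 = 0) (hm : m % 2 = 1)
    (h : (L → c ≤ m ∧ ((n % c = 0 → (True ↔ (Even i → Even (n / c)))) → m % c ≤ n % c)) ∧
      (((n % c = 0 → (True ↔ (Even i → Even (n / c)))) → m % c ≤ n % c) → L)) : L ↔
    ((Odd i ∧ c ≤ m ∧ 0 < m % c ∧ m % c < n % c) ∨
      (Even i ∧ ((n % c = 0 ∧ Odd (n / i)) ∨ (i ≤ m ∧ 0 < m % c ∧ m % c < n % c)))) := by
  refine ⟨fun k => ?_, fun k => h.2 ?_⟩
  on_goal 1 => replace k := h.1 k
  all_goals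
  clear h
  obtain ⟨⟨h1, h2, rfl⟩ | ⟨h1, h2, h3⟩, a1, a2, a3, a4, a5, a6⟩ := prep (n := n) (m := m) hc hi <;>
    simp only [ND, h1, h2, true_and, false_and, true_iff, forall_const, false_or, or_false, IsEmpty.forall_iff, iff_self, implies_true, and_true, not_iff_not,
      false_iff, not_true, imp_false, iff_false] at k ⊢ <;>
    (try simp only [Nat.even_iff, Nat.odd_iff] at k ⊢) <;> omega

theorem ar91 {L : Prop} (hn : n % 2 = 0) (hm : m % 2 = 1)
    (h : (L → c ≤ m ∧ ((n % c = 0 → (False ↔ (Even i → Even (n / c)))) → m % c ≤ n % c)) ∧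
      (((n % c = 0 → (False ↔ (Even i → Even (n / c)))) → m % c ≤ n % c) → L)) : L ↔
    ((Odd i ∧ (n % c = 0 ∨ (c ≤ m ∧ 0 < m % c ∧ m % c < n % c))) ∨
      (Even i ∧ ((n % c = 0 ∧ Even (n / i)) ∨ (0 < n % c ∧ i ≤ m ∧ 0 < m % c ∧ m % c < n % c)))) := by
  refine ⟨fun k => ?_, fun k => h.2 ?_⟩
  on_goal 1 => replace k := h.1 k
  all_goals
  clear h
  obtain ⟨⟨h1, h2, rfl⟩ | ⟨h1, h2, h3⟩, a1, a2, a3, a4, a5, a6⟩ := prep (n := n) (m := m) hc hi <;>
    simp only [ND, h1, h2, true_and, false_and, true_iff, forall_const, false_or, or_false, IsEmpty.forall_iff, iff_self, implies_true, and_true, not_iff_not,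
      false_iff, not_true, imp_false, iff_false] at k ⊢ <;>
    (try simp only [Nat.even_iff, Nat.odd_iff] at k ⊢) <;> omega

end H28.El
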