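import Mathlib
import Cfsg.Agent.H28.El18

/-!
# Orthogonal decompositions and pairs of totally singular subspaces (namespace `H28.El`)
-/

set_option autoImplicit false

open Module Polynomial H24.Sim H10 H10.Form
open scoped Pointwise

namespace H28.El

section
variable {F V : Type*} [Field F] [AddCommGroup V] [Module F V] {φ : Form F V} {U W X Y Z K C A B A' B' : Submodule F V}
  {g x y z : End F V} {r : ℕ}

variable (φ) in
/-- permuted orthogonal decompositions -/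
abbrev OD (g : End F V) (a : ℕ) (U : Submodule F V) (t : ℕ) : Prop :=
  PD g (fun A => finrank F A = a ∧ φ.NondegOn A) (fun A B => B ≤ φ.perp A) U t

theorem OD.add {a s t : ℕ} (h : OD φ g a U s) (h' : OD φ g a W t) (ho : W ≤ φ.perp U) : OD φ g a (U ⊔ W) (s + t) :=
  PD.add h h' fun _ h1 _ h2 =>
    have := h2.trans (ho.trans (φ.perp_anti h1))
    ⟨this, φ.le_perp_comm.1 this⟩

variable (φ) in
/-- orthogonal sums of invariant planes -/
def Pn (g : End F V) : ℕ → Submodule F V → Prop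
  | 0, K => K = ⊥
  | n + 1, K => ∃ X K', Inv g X ∧ φ.NondegOn X ∧ finrank F X = 2 ∧ K' ≤ φ.perp X ∧ K = X ⊔ K' ∧ Pn g n K'

theorem Pn.split {i j : ℕ} (h : Pn φ g (j + i) K) : ∃ A B, Pn φ g i A ∧ Pn φ g j B ∧ B ≤ φ.perp A ∧ K = A ⊔ B := by
  induction i generalizing K with
  | zero => exact ⟨⊥, K, rfl, h, by simp, by simp⟩
  | succ i ih =>
    obtain ⟨X, K', h1, h2, h3, h4, rfl, h5⟩ := h
    obtain ⟨A, B, k1, k2, k3, rfl⟩ := ih h5
    exact ⟨X ⊔ A, B, ⟨X, A, h1, h2, h3, le_sup_left.trans h4, rfl, k1⟩, k2,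
      φ.perp_sup X A ▸ le_inf (le_sup_right.trans h4) k3, (sup_assoc _ _ _).symm⟩

theorem nd_map (hx : φ.IsIsom g) (h : φ.NondegOn A) : φ.NondegOn (A.map g) := by
  rintro _ ⟨v, hv, rfl⟩ h'
  rw [h v hv fun w hw => (hx.B v w).symm.trans (h' _ ⟨w, hw, rfl⟩), map_zero]

theorem ts_map (hx : φ.IsIsom g) (h : φ.TS A) : φ.TS (A.map g) :=
  ⟨by rintro _ ⟨v, hv, rfl⟩; exact (hx.Q v).trans (h.Q v hv),
    by rintro _ ⟨v, hv, rfl⟩ _ ⟨w, hw, rfl⟩; exact (hx.B v w).trans (h.B v hv w hw)⟩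

theorem map_perp_le (hx : φ.IsIsom g) (h : B ≤ φ.perp A) : B.map g ≤ φ.perp (A.map g) := by
  rintro _ ⟨v, hv, rfl⟩
  refine φ.mem_perp.2 ?_
  rintro _ ⟨w, hw, rfl⟩
  exact (hx.B _ _).trans (φ.mem_perp.1 (h hv) w hw)

theorem map_map_sq {c : F} (hc : c ≠ 0) (h : g ^ 2 = c • 1) (A : Submodule F V) : (A.map g).map g = A := by
  rw [← Submodule.map_comp]; exact (congrArg (fun k : End F V => A.map k) (sq g)).symm.trans (map_of_pow_smul hc h A)

theorem inv_tw {c : F} (hc : c ≠ 0) (h : g ^ 2 = c • 1) (A : Submodule F V) : Inv g (A ⊔ A.map g) := by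
  rw [inv_iff, Submodule.map_sup, map_map_sq hc h, sup_comm]

theorem nd_plane (hA : H09.IsAltF φ) {u v : V} (h : φ.B u v ≠ 0) :
    φ.NondegOn (Submodule.span F {u, v}) ∧ finrank F (Submodule.span F {u, v}) = 2 := by
  have h4 : φ.B u u * φ.B v v - φ.B u v * φ.B v u ≠ 0 := by
    simpa [B_self_of_isAltF hA, show φ.B v u = -φ.B u v from (hA.bilin_alt.neg_eq u v).symm] using h
  exact ⟨φ.nondegOn_pair h4, finrank_span_pair_of_li (φ.linearIndependent_pair_of_gram h4)⟩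

theorem ts_line (hA : H09.IsAltF φ) (v : V) : φ.TS (F ∙ v) := hA.ts fun a ha b hb => by
  obtain ⟨a, rfl⟩ := Submodule.mem_span_singleton.1 ha
  obtain ⟨b, rfl⟩ := Submodule.mem_span_singleton.1 hb
  simp [B_self_of_isAltF hA]

theorem exists_B_ne (hU : φ.NondegOn U) (h : U ≠ ⊥) : ∃ u ∈ U, ∃ v ∈ U, φ.B u v ≠ 0 := by
  obtain ⟨u, hu, h0⟩ := (Submodule.ne_bot_iff U).1 h
  exact ⟨u, hu, nd_iff.2 hU u hu h0⟩

variable [FiniteDimensional F V]

theorem Pn.facts {n : ℕ} (h : Pn φ g n K) : Inv g K ∧ φ.NondegOn K ∧ finrank F K = 2 * n := by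
  induction n generalizing K with
  | zero => obtain rfl : K = ⊥ := h; exact ⟨inv_bot, nd_bot, finrank_bot _ _⟩
  | succ n ih =>
    obtain ⟨X, K', h1, h2, h3, h4, rfl, h5⟩ := h
    obtain ⟨k1, k2, k3⟩ := ih h5
    exact ⟨h1.sup k1, nd_sup h2 k2 h4, by rw [finrank_sup_perp h2 h4]; omega⟩

variable [φ.Nondeg]

theorem nd_induct (hx : φ.IsIsom g) {p : Submodule F V → Prop} (h0 : p ⊥) (hs : ∀ U, Inv g U → φ.NondegOn U → U ≠ ⊥ →
    ∃ X ≤ U, Inv g X ∧ φ.NondegOn X ∧ X ≠ ⊥ ∧ ∀ Y ≤ φ.perp X, Inv g Y → p Y → p (X ⊔ Y)) (hU : Inv g U)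
    (hU' : φ.NondegOn U) : p U := by
  induction hn : finrank F U using Nat.strong_induction_on generalizing U with
  | _ n ih =>
  by_cases h : U = ⊥
  · exact h ▸ h0
  obtain ⟨X, h1, h2, h3, h4, h5⟩ := hs U hU hU' h
  have := finrank_inf_perp hU' h1
  have := mt Submodule.finrank_eq_zero.1 h4
  have h6 := hU.inf (h2.perp hx)
  exact rel_sup hU' h3 h1 ▸ h5 _ inf_le_right h6 (ih _ (by omega) h6 (rel_nd hU' h3 h1) rfl)

theorem od_aux (hA : H09.IsAltF φ) (hx : φ.IsIsom g) {c : F} (hc : c ≠ 0) (h : g ^ 2 = c • 1) {a : ℕ} (ha : 0 < a) (t : ℕ)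
    {n m : ℕ} (hK : Pn φ g n K) (hC : φ.NondegOn C) (h1 : C.map g ≤ φ.perp C) (h2 : C ≤ φ.perp K) (hm : finrank F C = 2 * m)
    (hd : n + 2 * m = a * t) : OD φ g (2 * a) (K ⊔ (C ⊔ C.map g)) t := by
  induction t using Nat.strong_induction_on generalizing K C n m with
  | _ t ih =>
  have key : ∀ i j s, s ≤ t → 0 < s → i ≤ n → j ≤ m → i + 2 * j = a * s → (∀ K C, Pn φ g i K → φ.NondegOn C →
      C.map g ≤ φ.perp C → C ≤ φ.perp K → finrank F C = 2 * j → OD φ g (2 * a) (K ⊔ (C ⊔ C.map g)) s) →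
      OD φ g (2 * a) (K ⊔ (C ⊔ C.map g)) t := fun i j s k1 k0 k2 k3 k4 k5 => by
    obtain ⟨t, rfl⟩ := Nat.exists_eq_add_of_le k1
    obtain ⟨n, rfl⟩ := Nat.exists_eq_add_of_le' k2
    obtain ⟨K₁, K₂, l1, l2, l3, rfl⟩ := hK.split
    obtain ⟨C₁, m1, m2, m3⟩ := exists_nd_alt hA hC (k := j) (by omega)
    have m4 := finrank_inf_perp hC m1
    have m5 := rel_nd hC m2 m1
    obtain ⟨C₂, m6, m7, m8⟩ : ∃ C₂, C₂ = C ⊓ φ.perp C₁ ∧ C₂ ≤ C ∧ C₂ ≤ φ.perp C₁ := ⟨_, rfl, inf_le_left, inf_le_right⟩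
    have m9 := rel_sup hC m2 m1
    rw [← m6] at m4 m5 m9
    have n1 : ∀ {A B}, A ≤ C → B ≤ C → A.map g ≤ φ.perp B := fun h h' => (Submodule.map_mono h).trans (h1.trans (φ.perp_anti h'))
    have n2 : ∀ {A B}, A ≤ C → B ≤ K₁ ⊔ K₂ → A ≤ φ.perp B := fun h h' => h.trans (h2.trans (φ.perp_anti h'))
    have n3 : ∀ {A B}, A ≤ C → B ≤ K₁ ⊔ K₂ → Inv g B → A.map g ≤ φ.perp B := fun h h' hB =>
      hB.map_eq hx.injective ▸ map_perp_le hx (n2 h h')
    have := (k5 K₁ C₁ l1 m2 (n1 m1 m1) (n2 m1 le_sup_left) m3).add (ih t (by omega) l2 m5 (n1 m7 m7) (n2 m7 le_sup_right)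
      (show _ = 2 * (m - j) by omega) (by rw [mul_add] at hd; omega)) (by
        simp only [perp_sup, sup_le_iff, le_inf_iff]
        exact ⟨⟨l3, n2 m7 le_sup_left, n3 m7 le_sup_left l1.facts.1⟩,
          ⟨φ.le_perp_comm.1 (n2 m1 le_sup_right), m8, n1 m7 m1⟩, φ.le_perp_comm.1 (n3 m1 le_sup_right l2.facts.1),
          φ.le_perp_comm.1 (n1 m1 m7), map_perp_le hx m8⟩)
    rwa [sup_sup_sup_comm, sup_sup_sup_comm C₁, ← Submodule.map_sup, m9] at this
  rcases Nat.eq_zero_or_pos t with rfl | ht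
  · obtain rfl : n = 0 := by omega
    obtain rfl : K = ⊥ := hK
    obtain rfl : C = ⊥ := Submodule.finrank_eq_zero.1 (by omega)
    simpa using PD.zero
  by_cases k1 : a ≤ m
  · refine key 0 a 2 (le_of_mul_le_mul_left (by omega) ha) two_pos (by omega) k1 (by omega) fun K C l1 l2 l3 _ l5 => ?_
    obtain rfl : K = ⊥ := l1
    have := PD.of_fintype (g := g) (P := fun A => finrank F A = 2 * a ∧ φ.NondegOn A) (R := fun A B => B ≤ φ.perp A)
      (fun b : Bool => cond b C (C.map g)) Equiv.boolNot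
      (by rintro (_ | _); exacts [⟨(finrank_map_inj hx.injective C).trans l5, nd_map hx l2⟩, ⟨l5, l2⟩])
      (by rintro (_ | _) (_ | _) h <;> first | exact absurd rfl h | exact l3 | exact φ.le_perp_comm.1 l3)
      (by rintro (_ | _); exacts [map_map_sq hc h C, rfl])
    rwa [iSup_bool_eq, ← bot_sup_eq (_ ⊔ _)] at this
  · have k2 : t = 1 ∨ a * 2 ≤ a * t := (Nat.eq_or_lt_of_le ht).imp Eq.symm fun h => Nat.mul_le_mul_left a h
    refine key (a - 2 * min m (a / 2)) (min m (a / 2)) 1 ht one_pos (by rcases k2 with rfl | k2 <;> omega) (by omega) (by omega)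
      fun K C l1 l2 l3 l4 l5 => PD.one ((l1.facts.1.sup (inv_tw hc h C)).map_eq hx.injective) ?_
    have l6 : C ⊔ C.map g ≤ φ.perp K := sup_le l4 (l1.facts.1.map_eq hx.injective ▸ map_perp_le hx l4)
    refine ⟨?_, nd_sup l1.facts.2.1 (nd_sup l2 (nd_map hx l2) l3) l6⟩
    rw [finrank_sup_perp l1.facts.2.1 l6, finrank_sup_perp l2 l3, finrank_map_inj hx.injective, l1.facts.2.2]
    omega

theorem od_alt (hA : H09.IsAltF φ) (hx : φ.IsIsom g) {c : F} (hc : c ≠ 0) (h : g ^ 2 = c • 1) {a t : ℕ} (ha : 0 < a)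
    (hd : finrank F V = 2 * a * t) (hl : ∀ U, Inv g U → φ.NondegOn U → U ≠ ⊥ → ∃ X ≤ U, φ.NondegOn X ∧ finrank F X = 2 ∧
      (Inv g X ∨ X.map g ≤ φ.perp X)) : OD φ g (2 * a) ⊤ t := by
  obtain ⟨n, K, C, k1, k2, k3, k4, k5⟩ := nd_induct hx (p := fun U => ∃ n K C, Pn φ g n K ∧ φ.NondegOn C ∧
    C.map g ≤ φ.perp C ∧ C ≤ φ.perp K ∧ K ⊔ (C ⊔ C.map g) = U) ⟨0, ⊥, ⊥, rfl, nd_bot, by simp, by simp, by simp⟩
    (fun U h1 h2 h3 => by
      obtain ⟨X, l1, l2, l3, l4 | l4⟩ := hl U h1 h2 h3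
      · refine ⟨X, l1, l4, l2, by rintro rfl; simp at l3, ?_⟩
        rintro _ m1 - ⟨n, K, C, m2, m3, m4, m5, rfl⟩
        exact ⟨n + 1, X ⊔ K, C, ⟨X, K, l4, l2, l3, le_sup_left.trans m1, rfl, m2⟩, m3, m4,
          φ.perp_sup X K ▸ le_inf (le_sup_left.trans (le_sup_right.trans m1)) m5, sup_assoc _ _ _⟩
      · refine ⟨X ⊔ X.map g, sup_le l1 ((Submodule.map_mono l1).trans (inv_iff.1 h1)), inv_tw hc h X,
          nd_sup l2 (nd_map hx l2) l4, fun h => by rw [(sup_eq_bot_iff.1 h).1] at l3; simp at l3, ?_⟩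
        rintro _ m1 - ⟨n, K, C, m2, m3, m4, m5, rfl⟩
        simp only [perp_sup, sup_le_iff, le_inf_iff] at m1
        refine ⟨n, K, X ⊔ C, m2, nd_sup l2 m3 m1.1.2.1, ?_, sup_le (φ.le_perp_comm.1 m1.1.1) m5, ?_⟩
        · simp only [perp_sup, Submodule.map_sup, sup_le_iff, le_inf_iff]
          exact ⟨⟨l4, m1.1.2.2⟩, φ.le_perp_comm.1 m1.2.2.1, m4⟩
        · rw [Submodule.map_sup, sup_sup_sup_comm X, sup_left_comm]) inv_top (nondegOn_top φ)
  obtain ⟨m, hm⟩ := even_of_alt hA k2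
  have k6 : C ⊔ C.map g ≤ φ.perp K := sup_le k4 (k1.facts.1.map_eq hx.injective ▸ map_perp_le hx k4)
  have k7 := finrank_sup_perp k1.facts.2.1 k6
  rw [k5, finrank_top, finrank_sup_perp k2 k3, finrank_map_inj hx.injective, k1.facts.2.2, hd, mul_assoc] at k7
  exact k5 ▸ od_aux hA hx hc h ha t k1 k2 k3 k4 (m := m) (by omega) (by omega)

theorem exists_eig (h2 : (2 : F) ≠ 0) (hx : φ.IsIsom g) (h : g ^ 2 = 1) (hU : Inv g U) (hU' : φ.NondegOn U) (h0 : U ≠ ⊥) :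
    ∃ X ≤ U, φ.NondegOn X ∧ X ≠ ⊥ ∧ ∀ Y ≤ X, Inv g Y := by
  have hs := H24.Adj.semisimple_of_pow (n := 2) h2 h
  obtain ⟨k1, k2⟩ := nd_inf hx hs hU hU'
  by_cases k3 : U ⊓ fx g = ⊥
  · exact ⟨_, inf_le_left, k2, fun k4 => h0 (by rw [← hU.eq_sup hs, k3, k4, bot_sup_eq]),
      fun Y hY => inv_of_le_mv h (hY.trans inf_le_right)⟩
  · exact ⟨_, inf_le_left, k1, k3, fun Y hY => inv_of_le_fx (hY.trans inf_le_right)⟩

theorem loc_two [CharP F 2] (hA : H09.IsAltF φ) (h : g ^ 2 = 1) (hU : Inv g U) (hU' : φ.NondegOn U) (h0 : U ≠ ⊥) :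
    ∃ X ≤ U, φ.NondegOn X ∧ finrank F X = 2 ∧ (Inv g X ∨ X.map g ≤ φ.perp X) := by
  by_cases h1 : ∃ v ∈ U, φ.B v (g v) ≠ 0
  · obtain ⟨v, hv, h1⟩ := h1
    exact ⟨_, pair_le hv (hU v hv), (nd_plane hA h1).1, (nd_plane hA h1).2,
      Or.inl (inv_pair (c := 1) (sq_apply (by simpa using h) v))⟩
  by_cases h2 : U ≤ fx g
  · obtain ⟨u, hu, v, hv, h3⟩ := exists_B_ne hU' h0
    exact ⟨_, pair_le hu hv, (nd_plane hA h3).1, (nd_plane hA h3).2, Or.inl (inv_of_le_fx ((pair_le hu hv).trans h2))⟩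
  push Not at h1
  obtain ⟨v, hv, h2⟩ := SetLike.not_le_iff_exists.1 h2
  haveI := hU'.nondeg
  obtain ⟨u, h3, h4⟩ := (φ.restrict U).exists_sep (W := F ∙ ⟨g v, hU v hv⟩) (u := ⟨v, hv⟩) fun h3 => by
    obtain ⟨a, ha⟩ := Submodule.mem_span_singleton.1 h3
    replace ha : a • g v = v := congrArg Subtype.val ha
    have h4 : (a * a) • g v = g v := by
      conv_rhs => rw [← ha, map_smul, sq_apply (z := 1) (by simpa using h), one_smul, ← ha, smul_smul]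
    have h5 : v ≠ 0 := by rintro rfl; simp at h2
    have h6 : g v ≠ 0 := fun h => h5 (by rw [← ha, h, smul_zero])
    have h7 := mul_self_eq_one_iff.1 (smul_left_injective F h6 (h4.trans (one_smul _ _).symm))
    rw [CharTwo.neg_eq, or_self] at h7
    exact h2 (mem_fx.2 (by rwa [h7, one_smul] at ha))
  replace h3 : φ.B u (g v) = 0 := h3 _ (Submodule.mem_span_singleton_self _)
  replace h4 : φ.B u v ≠ 0 := by rw [show φ.B u v = 1 from h4]; exact one_ne_zero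
  have h5 : φ.B v (g u) = 0 := by
    simpa [h1 u u.2, h1 v hv, h3] using h1 _ (U.add_mem u.2 hv)
  refine ⟨_, pair_le u.2 hv, (nd_plane hA h4).1, (nd_plane hA h4).2, Or.inr ?_⟩
  rw [Submodule.map_span, Set.image_pair]
  exact pair_le (φ.mem_perp_pair.2 ⟨h1 u u.2, h5⟩) (φ.mem_perp_pair.2 ⟨h3, h1 v hv⟩)

theorem pe_two' [Nontrivial V] (hσ : ∀ a, φ.σ a = a) (hx : φ.IsIsom g) (h : PE 2 g) : g ^ 2 = 1 ∨ g ^ 2 = -1 := by
  obtain ⟨z, hz⟩ := h.1
  rcases mul_self_eq_one_iff.1 (hσ z ▸ norm_of_smul (hz ▸ isom_pow hx 2)) with rfl | rfl <;> simp [hz]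

theorem od_two (hA : H09.IsAltF φ) (hx : φ.IsIsom g) (h : PE 2 g) {a t : ℕ} (ha : 0 < a) (hd : finrank F V = 2 * a * t) :
    OD φ g (2 * a) ⊤ t := by
  haveI := h.nontrivial
  by_cases h2 : (2 : F) = 0
  · haveI : CharP F 2 := CharTwo.of_one_ne_zero_of_two_eq_zero one_ne_zero h2
    have h3 : g ^ 2 = 1 := (pe_two' hA.σ_eq hx h).elim id fun h => by
      rw [h, ← neg_one_smul F, CharTwo.neg_eq, one_smul]
    exact od_alt hA hx one_ne_zero (by simpa using h3) ha hd fun U => loc_two hA h3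
  rcases pe_two' hA.σ_eq hx h with h3 | h3
  · refine od_alt hA hx one_ne_zero (by simpa using h3) ha hd fun U k1 k2 k3 => ?_
    obtain ⟨X, l1, l2, l3, l4⟩ := exists_eig h2 hx h3 k1 k2 k3
    obtain ⟨u, hu, v, hv, l5⟩ := exists_B_ne l2 l3
    exact ⟨_, (pair_le hu hv).trans l1, (nd_plane hA l5).1, (nd_plane hA l5).2, Or.inl (l4 _ (pair_le hu hv))⟩
  · refine od_alt hA hx (c := -1) (by simp) (by simpa using h3) ha hd fun U k1 k2 k3 => ?_
    obtain ⟨X, l1, l2, l3, l4⟩ := nb_sqm_alt h2 hA hx h3 U le_top k1 k2 k3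
    exact ⟨X, l1, l3, l4, Or.inl l2⟩

variable (φ) in
/-- ordered orthogonal decompositions -/
def ODc {t : ℕ} (a : ℕ) (D : Fin t → Submodule F V) : Prop :=
  ((∀ j, finrank F (D j) = a) ∧ Dec D) ∧ (∀ j, φ.NondegOn (D j)) ∧ ∀ j j', j ≠ j' → D j' ≤ φ.perp (D j)

omit [φ.Nondeg] in
theorem OD.dec {a t : ℕ} (h : OD φ g a ⊤ t) (hd : finrank F V = a * t) :
    ∃ D : Fin t → Submodule F V, ODc φ a D ∧ ∃ σ : Equiv.Perm (Fin t), ∀ j, (D j).map g = D (σ j) := by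
  obtain ⟨D, σ, h1, h2, h3, h4⟩ := h
  exact ⟨D, ⟨⟨fun j => (h1 j).1, indep_of_finrank (by rw [show (⨆ i, D i) = ⊤ from h3]; simp [h1, hd, mul_comm]), h3⟩, fun j => (h1 j).2, h2⟩, σ, h4⟩

theorem od_blocks (hA : H09.IsAltF φ) (hx : φ.IsIsom g) {c a : ℕ} (hc : 0 < c) (hc' : Even c) (ha : Even a)
    (hb : NB φ g (mv g) c) (t : ℕ) {K M : Submodule F V} (hK : K ≤ fx g) (hK' : φ.NondegOn K) (hM : M ≤ mv g) (hM' : Inv g M)
    (hM'' : φ.NondegOn M) {s : ℕ} (hs : finrank F M = s * c) (hst : s ≤ t * (a / c)) (hd : finrank F K + s * c = t * a) :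
    OD φ g a (K ⊔ M) t := by
  induction t generalizing K M s with
  | zero =>
    obtain rfl : K = ⊥ := Submodule.finrank_eq_zero.1 (by omega)
    obtain rfl : M = ⊥ := Submodule.finrank_eq_zero.1 (by omega)
    simpa using PD.zero
  | succ t ih =>
    obtain ⟨b, l, h1, -, h2, h3⟩ := exists_dm a hc
    rw [h1] at hst ih
    obtain ⟨j, s', rfl, h4, h5, h6⟩ : ∃ j s', s = j + s' ∧ j ≤ b ∧ s' ≤ t * b ∧ (s' = 0 ∨ j = b) := by
      rw [add_mul] at hst
      exact ⟨min s b, s - min s b, by omega, by omega, by omega, by omega⟩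
    have h7 := Nat.mul_le_mul_right c h4
    have h8 := Nat.mul_le_mul_right c h5
    have h9 : t * a = t * b * c + t * l := by rw [h2]; ring
    rw [add_mul] at hs hd
    rw [add_mul] at hd
    obtain ⟨A, a1, a2, a3, a4⟩ := hb.exists_sub hx hc j hM hM' hM'' (by omega)
    obtain ⟨k, hk⟩ : Even (a - j * c) := (Nat.even_sub (by omega)).2 (iff_of_true ha (hc'.mul_left j))
    obtain ⟨A', b1, b2, b3⟩ := exists_nd_alt hA hK' (k := k) (by rcases h6 with rfl | rfl <;> omega)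
    have c1 := finrank_inf_perp hM'' a1
    have c2 := finrank_inf_perp hK' b1
    have c3 : ∀ {X Y}, X ≤ K → Y ≤ M → Y ≤ φ.perp X := fun h h' =>
      (h'.trans hM).trans ((mv_le_perp hx).trans (φ.perp_anti (h.trans hK)))
    have := OD.add (PD.one (((inv_of_le_fx (b1.trans hK)).sup a2).map_eq hx.injective)
      ⟨by rw [finrank_sup_perp b2 (c3 b1 a1)]; omega, nd_sup b2 a3 (c3 b1 a1)⟩)
      (ih (inf_le_left.trans hK) (rel_nd hK' b2 b1) (inf_le_left.trans hM) (hM'.inf (a2.perp hx)) (rel_nd hM'' a3 a1)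
        (s := s') (by omega) h5 (by omega)) (by
        simp only [perp_sup, sup_le_iff, le_inf_iff]
        exact ⟨⟨inf_le_right, c3 b1 inf_le_left⟩, φ.le_perp_comm.1 (c3 inf_le_left a1), inf_le_right⟩)
    rwa [sup_sup_sup_comm, rel_sup hK' b2 b1, rel_sup hM'' a3 a1, add_comm] at this

omit [FiniteDimensional F V] [φ.Nondeg] in
theorem ODc.smul {a t : ℕ} {D : Fin t → Submodule F V} (h : ODc φ a D) (e : φ.Isom) : ODc φ a (e • D) :=
  ⟨⟨fun j => (LinearEquiv.finrank_map_eq e.1 _).trans (h.1.1 j), h.1.2.smul e.1⟩, fun j => (cj_map e).nd (h.2.1 j),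
    fun j j' k => map_perp_le (g := (e.1 : End F V)) e.2 (h.2.2 j j' k)⟩

theorem ODc.trans (hA : H09.IsAltF φ) {a t : ℕ} {D D' : Fin t → Submodule F V} (h : ODc φ a D) (h' : ODc φ a D') :
    ∃ e : φ.Isom, e • D = D' := by
  choose e he using fun j => (cj_alt hA (h.2.1 j) (h'.2.1 j) ((h.1.1 j).trans (h'.1.1 j).symm)).equiv
  obtain ⟨k, hk⟩ := h.1.2.exists_glue h'.1.2.sup e
  refine ⟨⟨k, fun u v => ?_, fun u => by rw [hA.Q_eq, hA.Q_eq]⟩, funext fun j => map_eq_of_glue (hk j)⟩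
  refine Submodule.iSup_induction D (motive := fun u => φ.B (k u) (k v) = φ.B u v) (h.1.2.sup.ge Submodule.mem_top)
    (fun i u hu => ?_) (by simp) fun a b ha hb => by simp [ha, hb]
  refine Submodule.iSup_induction D (motive := fun v => φ.B (k u) (k v) = φ.B u v) (h.1.2.sup.ge Submodule.mem_top)
    (fun j v hv => ?_) (by simp) fun a b ha hb => by simp [ha, hb]
  rw [hk i ⟨u, hu⟩, hk j ⟨v, hv⟩]
  by_cases hij : i = j
  · subst hij; exact (he i).B ⟨u, hu⟩ ⟨v, hv⟩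
  · rw [φ.mem_perp.1 (h.2.2 i j hij hv) u hu, φ.mem_perp.1 (h'.2.2 i j hij (Subtype.mem _)) _ (Subtype.mem _)]

theorem lp_two (hA : H09.IsAltF φ) (h2 : (2 : F) ≠ 0) (hx : φ.IsIsom g) (h : PE 2 g) : ∃ U W, IsCompl U W ∧ φ.TS U ∧ φ.TS W ∧
    ((U.map g = U ∧ W.map g = W) ∨ (U.map g = W ∧ W.map g = U)) := by
  haveI := h.nontrivial
  have key : ∀ {A B}, φ.TS A → φ.TS B → A ⊔ B = ⊤ → IsCompl A B := fun {A B} k1 k2 k3 => by
    have := k1.finrank_le
    have := k2.finrank_le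
    have := Submodule.finrank_sup_add_finrank_inf_eq A B
    rw [k3, finrank_top] at this
    exact ⟨disjoint_iff.2 (Submodule.finrank_eq_zero.1 (by omega)), codisjoint_iff.2 k3⟩
  have hp : ∀ {u v : V} {Y}, Y ≤ φ.perp (Submodule.span F {u, v}) → Y ≤ φ.perp (F ∙ u) ∧ Y ≤ φ.perp (F ∙ v) := fun h =>
    ⟨h.trans (φ.perp_anti (Submodule.span_mono (by simp))), h.trans (φ.perp_anti (Submodule.span_mono (by simp)))⟩
  rcases pe_two' hA.σ_eq hx h with h3 | h3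
  · obtain ⟨A, B, k1, k2, k3, k4, k5⟩ := nd_induct hx (p := fun U => ∃ A B, φ.TS A ∧ φ.TS B ∧ Inv g A ∧ Inv g B ∧ A ⊔ B = U)
      ⟨⊥, ⊥, TS.bot, TS.bot, inv_bot, inv_bot, by simp⟩ (fun U k1 k2 k3 => by
        obtain ⟨X, l1, l2, l3, l4⟩ := exists_eig h2 hx h3 k1 k2 k3
        obtain ⟨u, hu, v, hv, l5⟩ := exists_B_ne l2 l3
        refine ⟨_, (pair_le hu hv).trans l1, l4 _ (pair_le hu hv), (nd_plane hA l5).1,
          fun h => by have := (nd_plane hA l5).2; rw [h, finrank_bot] at this; omega, ?_⟩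
        rintro _ m1 - ⟨A, B, m2, m3, m4, m5, rfl⟩
        exact ⟨_, _, (ts_line hA u).sup m2 (le_sup_left.trans (hp m1).1), (ts_line hA v).sup m3 (le_sup_right.trans (hp m1).2),
          (l4 _ (by simpa)).sup m4, (l4 _ (by simpa)).sup m5, by rw [sup_sup_sup_comm, ← Submodule.span_insert]⟩)
      inv_top (nondegOn_top φ)
    exact ⟨A, B, key k1 k2 k5, k1, k2, Or.inl ⟨k3.map_eq hx.injective, k4.map_eq hx.injective⟩⟩
  · obtain ⟨A, k1, k2⟩ := nd_induct hx (p := fun U => ∃ A, φ.TS A ∧ A ⊔ A.map g = U) ⟨⊥, TS.bot, by simp⟩ (fun U k1 k2 k3 => by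
        obtain ⟨X, l1, l2, l3, l4⟩ := nb_sqm_alt h2 hA hx h3 U le_top k1 k2 k3
        obtain ⟨v, hv, l5⟩ : ∃ v ∈ X, φ.B v (g v) ≠ 0 := by
          by_contra! hc
          obtain ⟨u, hu, w, hw, l5⟩ := exists_B_ne l3 (by rintro rfl; simp at l4)
          obtain ⟨v, hv, rfl⟩ := (l2.map_eq hx.injective).ge hw
          have := hc _ (X.add_mem hu hv)
          simp only [map_add, LinearMap.add_apply, hc u hu, hc v hv] at this
          rw [← hx.B v, sqm_apply h3, map_neg, show φ.B (g v) u = -φ.B u (g v) from (hA.bilin_alt.neg_eq _ _).symm] at this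
          exact l5 ((mul_eq_zero.1 (by linear_combination this : 2 * φ.B u (g v) = 0)).resolve_left h2)
        refine ⟨_, pair_le (l1 hv) (k1 v (l1 hv)), inv_pair (c := -1) (by simp [sqm_apply h3]), (nd_plane hA l5).1,
          fun h => by have := (nd_plane hA l5).2; rw [h, finrank_bot] at this; omega, ?_⟩
        rintro _ m1 - ⟨A, m2, rfl⟩
        exact ⟨_, (ts_line hA v).sup m2 (le_sup_left.trans (hp m1).1), by
          rw [Submodule.map_sup, Submodule.map_span, Set.image_singleton, sup_sup_sup_comm, ← Submodule.span_insert]⟩)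
      inv_top (nondegOn_top φ)
    exact ⟨A, _, key k1 (ts_map hx k1) k2, k1, ts_map hx k1, Or.inr ⟨rfl, map_map_sq (c := -1) (by simp) (by simpa using h3) A⟩⟩

/-- the Levi construction -/
theorem exists_levi' (h : φ.TSPair A B) (h' : φ.TSPair A' B') (e : A ≃ₗ[F] A') :
    ∃ g : φ.Isom, (∀ a : A, g.1 a = e a) ∧ B.map (g.1 : V →ₗ[F] V) = B' := by
  obtain ⟨k, hk⟩ := φ.witt_equiv A A' e (fun a b => (h'.ts₁.B _ (Subtype.mem _) _ (Subtype.mem _)).trans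
    (h.ts₁.B _ a.2 _ b.2).symm) fun a => (h'.ts₁.Q _ (Subtype.mem _)).trans (h.ts₁.Q _ a.2).symm
  let f : V →ₗ[F] V := LinearMap.ofIsCompl h.compl (A'.subtype ∘ₗ e.toLinearMap)
    (B'.projection A' h'.compl.symm ∘ₗ (k.1 : V →ₗ[F] V) ∘ₗ B.subtype)
  have f1 : ∀ a : A, f a = e a := fun a => LinearMap.ofIsCompl_apply_left _ a
  have f2 : ∀ b : B, f b ∈ B' ∧ ∀ a : A, φ.B (e a) (f b) = φ.B a b := fun b => by
    have : f b = B'.projection A' h'.compl.symm (k.1 b) := LinearMap.ofIsCompl_apply_right _ b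
    obtain ⟨a', b', h1⟩ := exists_add_of_isCompl h'.compl (k.1 b)
    rw [h1, map_add, Submodule.projection_apply_right, Submodule.projection_apply_left, zero_add] at this
    refine ⟨this ▸ b'.2, fun a => ?_⟩
    rw [this, ← k.2.B a, hk, h1, map_add, h'.ts₁.B _ (Subtype.mem _) _ a'.2, zero_add]
  have f3 : φ.IsIsom f := ⟨fun u v => by
      obtain ⟨a, b, rfl⟩ := exists_add_of_isCompl h.compl u
      obtain ⟨a', b', rfl⟩ := exists_add_of_isCompl h.compl v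
      simp only [map_add, LinearMap.add_apply, f1, (f2 _).2, h'.ts₁.B _ (Subtype.mem _) _ (Subtype.mem _),
        h.ts₁.B _ a.2 _ a'.2, h'.ts₂.B _ (f2 _).1 _ (f2 _).1, h.ts₂.B _ b.2 _ b'.2, φ.symm (e a' : V), φ.symm (a' : V)],
    fun u => by
      obtain ⟨a, b, rfl⟩ := exists_add_of_isCompl h.compl u
      rw [map_add, f1, φ.Q_add, φ.Q_add, (f2 b).2, h'.ts₁.Q _ (Subtype.mem _), h'.ts₂.Q _ (f2 b).1, h.ts₁.Q _ a.2,
        h.ts₂.Q _ b.2]⟩
  refine ⟨φ.toIsom f, fun a => (φ.toIsom_apply f3 a).trans (f1 a), Submodule.eq_of_le_of_finrank_eq ?_ ?_⟩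
  · rintro _ ⟨b, hb, rfl⟩
    exact (φ.toIsom_apply f3 b).symm ▸ (f2 ⟨b, hb⟩).1
  · rw [LinearEquiv.finrank_map_eq, ← h.finrank_eq, ← h'.finrank_eq, e.finrank_eq]

theorem levi_ext (h : φ.TSPair A B) (hx : φ.IsIsom x) (hy : φ.IsIsom y) (h1 : ∀ a ∈ A, x a = y a) (h2 : B.map x = B.map y) :
    x = y := by
  ext v
  obtain ⟨a, b, rfl⟩ := exists_add_of_isCompl h.compl v
  obtain ⟨b', hb', h3⟩ := h2.le ⟨b, b.2, rfl⟩
  have h4 : b' - b ∈ φ.perp A := φ.mem_perp.2 fun a ha => by rw [map_sub, ← hy.B, h3, ← h1 a ha, hx.B, sub_self]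
  rw [h.perp_eq] at h4
  rw [map_add, map_add, h1 a a.2, ← h3, sub_eq_zero.1 (Submodule.disjoint_def.1 h.compl.disjoint _ h4 (B.sub_mem hb' b.2))]

omit [FiniteDimensional F V] [φ.Nondeg] in
theorem tsPair_map (h : φ.TSPair A B) (e : φ.Isom) : φ.TSPair (A.map (e.1 : V →ₗ[F] V)) (B.map (e.1 : V →ₗ[F] V)) :=
  ⟨h.ts₁.map e, h.ts₂.map e, (Submodule.orderIsoMapComap e.1).isCompl h.compl⟩

theorem card_pairs' [Finite F] (h : φ.TSPair A B) :
    Nat.card φ.Isom = Nat.card {P : Submodule F V × Submodule F V // φ.TSPair P.1 P.2} * Nat.card (A ≃ₗ[F] A) := by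
  haveI : Finite V := Module.finite_of_finite F
  haveI : Finite (V ≃ₗ[F] V) := Finite.of_injective _ DFunLike.coe_injective
  haveI : Finite (Submodule F V) := Finite.of_injective _ SetLike.coe_injective
  refine H09.card_eq_mul_of_fibers (fun e : φ.Isom => (⟨(_, _), tsPair_map h e⟩ : {P : Submodule F V × Submodule F V //
    φ.TSPair P.1 P.2})) _ fun ⟨⟨A', B'⟩, h'⟩ => ?_
  have h1 := h.two_mul
  have h2 := h'.two_mul
  let e₀ : A' ≃ₗ[F] A := LinearEquiv.ofFinrankEq _ _ (by simp only at h2; omega)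
  refine Nat.card_congr (Equiv.ofBijective (fun e => (e.1.1.ofSubmodules A A' (congrArg (·.1.1) e.2)).trans e₀)
    ⟨fun e e' k => Subtype.ext (isom_eq_iff.2 (levi_ext h e.1.2 e'.1.2 (fun a ha => ?_)
      ((congrArg (·.1.2) e.2).trans (congrArg (·.1.2) e'.2).symm))), fun e => ?_⟩)
  · exact congrArg Subtype.val (e₀.injective (LinearEquiv.congr_fun k ⟨a, ha⟩))
  · obtain ⟨k, k1, k2⟩ := exists_levi' h h' (e.trans e₀.symm)
    exact ⟨⟨k, Subtype.ext (Prod.ext (map_eq_of_glue k1) k2)⟩, LinearEquiv.ext fun a =>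
      e₀.symm.injective (by rw [LinearEquiv.trans_apply, e₀.symm_apply_apply]; exact Subtype.ext (k1 a))⟩

end

end H28.El
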