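import Mathlib
import Cfsg.Agent.H28.El19

/-!
# Imprimitive actions of symplectic groups (namespace `H28.El`)
-/

set_option autoImplicit false

open Module Polynomial H24.Sim H10 H10.Form
open scoped Pointwise

namespace H28.El

theorem prod_gl (q d : ℕ) : ∏ i : Fin d, (q ^ d - q ^ (i : ℕ)) =
    (∏ i ∈ Finset.range d, (q ^ (i + 1) - 1)) * q ^ ∑ i ∈ Finset.range d, i := by
  rw [Fin.prod_univ_eq_prod_range fun i => q ^ d - q ^ i, ← Finset.prod_pow_eq_pow_sum,
    ← Finset.prod_range_reflect fun i => q ^ (i + 1) - 1, ← Finset.prod_mul_distrib]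
  refine Finset.prod_congr rfl fun i hi => ?_
  rw [Finset.mem_range] at hi
  rw [Nat.sub_mul, ← pow_add, one_mul, show d - 1 - i + 1 + i = d by omega]

section
variable {F V : Type*} [Field F] [AddCommGroup V] [Module F V] {φ : Form F V} {U W X Y Z K C A B A' B' : Submodule F V}
  {g x y z : End F V} {r : ℕ} [FiniteDimensional F V] [φ.Nondeg]

theorem pair_inv [Nontrivial V] (ho : Odd r) {c : F} (hc : c ≠ 0) (hy : y ^ r = c • 1) (h : IsCompl U W)
    (h' : (U.map y = U ∧ W.map y = W) ∨ (U.map y = W ∧ W.map y = U)) : Inv y U ∧ Inv y W := by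
  rcases h' with h' | h'
  · exact ⟨inv_iff.2 h'.1.le, inv_iff.2 h'.2.le⟩
  obtain ⟨k, rfl⟩ := ho
  have h1 : ∀ k, U.map (y ^ (2 * k + 1)) = W := fun k => by
    induction k with
    | zero => simpa using h'.1
    | succ k ih =>
      rw [mul_add, pow_succ' y, pow_succ' y, End.mul_eq_comp, End.mul_eq_comp, Submodule.map_comp, Submodule.map_comp, ih,
        h'.2, h'.1]
  have h2 := (map_of_pow_smul hc hy U).symm.trans (h1 k)
  subst h2
  exact absurd ((disjoint_self.1 h.disjoint).symm.trans (codisjoint_self.1 h.codisjoint)) bot_ne_top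

variable [Fintype F] [hr : Fact r.Prime]

local notation "bb" => orderOf ((Fintype.card F : ℕ) : ZMod r)
local notation "qq" => Fintype.card F

omit [FiniteDimensional F V] in
theorem cc_le (h0 : (r : F) ≠ 0) (ho : Odd r) : cc F r ≤ r - 1 := by
  have h1 := hr.out.two_le
  refine Nat.le_of_dvd (by omega) ?_
  rcases tc_facts h0 with h | h
  · exact h.2.1 ▸ ord_dvd h0
  · exact h.2.1 ▸ (Nat.coprime_two_left.2 (Nat.not_even_iff_odd.1 h.1)).mul_dvd_of_dvd_of_dvd
      (Nat.Odd.sub_odd ho odd_one).two_dvd (ord_dvd h0)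

theorem od_odd [Nontrivial V] (hA : H09.IsAltF φ) (h0 : (r : F) ≠ 0) (ho : Odd r) {a t : ℕ} (ha : 0 < a) (ha' : Even a)
    (hd : finrank F V = a * t) (hΩ : r ∣ Nat.card {D : Fin t → Submodule F V // ODc φ a D} / t.factorial) :
    (∀ g : End F V, φ.IsIsom g → PE r g → ∃ D : Fin t → Submodule F V, ODc φ a D ∧
      ∃ σ : Equiv.Perm (Fin t), ∀ j, (D j).map g = D (σ j)) ↔ cc F r ≤ a ∧ finrank F V % cc F r = t * (a % cc F r) := by
  have hc := cc_pos h0
  have hP := par_alt h0 hA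
  have key : ∀ y : End F V, φ.IsIsom y → y ^ r = 1 → ∀ s, finrank F (mv y) = s * cc F r → s ≤ t * (a / cc F r) →
      OD φ y a ⊤ t := fun y hx hy s k1 k2 => by
    have hs := H24.Adj.semisimple_of_pow h0 hy
    exact (isCompl_fx hs).sup_eq_top ▸ od_blocks hA hx hc even_cc ha' (hP.nb h0 ho hx hy) t le_rfl (nd_fx hx hs) le_rfl inv_mv
      (nd_mv hx hs) k1 k2 (by rw [← k1, finrank_fx_add, hd, mul_comm])
  have h1 : cc F r ≤ finrank F V := by
    obtain ⟨D0, k1, -⟩ := (key 1 isom_one (one_pow _) 0 (by rw [mv_one, finrank_bot, zero_mul]) (by omega)).dec hd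
    obtain ⟨y, hx, hy, k2⟩ := exists_of_dvd_card ((dvd_of_dvd_div (fact_dvd (fun D σ h => ⟨⟨fun j => h.1.1 _, h.1.2.comp σ⟩,
      fun j => h.2.1 _, fun j j' k => h.2.2 _ _ (σ.injective.ne k)⟩) fun D h => h.1.2.injective (ne_bot_of_finrank h.1.1 ha))
      hΩ).trans (card_dvd_of_trans (G := φ.Isom) (x0 := D0) fun D => ⟨k1.trans hA, by rintro ⟨e, rfl⟩; exact k1.smul e⟩))
    exact (Nat.le_of_dvd (Nat.pos_of_ne_zero (mt Submodule.finrank_eq_zero.1 (mv_ne_bot k2))) ((hP.nb h0 ho hx hy).dvd hx hc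
      le_rfl inv_mv (nd_mv hx (H24.Adj.semisimple_of_pow h0 hy)))).trans (Submodule.finrank_le _)
  rw [pe_odd hA.σ_eq ho (fun _ h => h) (fun _ h _ => h) fun g h => by simpa only [Submodule.map_neg] using h,
    ← dec_arith hc hd]
  refine ⟨fun H => ?_, fun H y hx hy _ => ?_⟩
  · have k1 : ∀ s, 0 < s → s * cc F r ≤ finrank F V → s * cc F r < a * (r - 1) ∨ finrank F V - s * cc F r < a →
        s * cc F r ≤ t * (a / cc F r * cc F r) := fun s l1 l2 l3 => by
      obtain ⟨a', h, l4, l5, -⟩ := real_k h0 s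
      obtain ⟨y, hx, hy, l6⟩ := real_alt h0 ho hA l4 (l5 ▸ l2)
      have l7 := l6.1.trans l5
      obtain ⟨D, l8, σ, l9⟩ := H y hx hy (by
        rintro rfl
        rw [mv_one, finrank_bot] at l7
        exact (mul_pos l1 hc).ne l7)
      have := finrank_fx_add (g := y)
      exact l7 ▸ dec_bound hr.out hy l8.1.2 l8.1.1 ha l9 (fun j hj => (hP.nb h0 ho hx hy).dvd hx hc inf_le_right (hj.inf inv_mv)
        (nd_inf hx (H24.Adj.semisimple_of_pow h0 hy) hj (l8.2.1 j)).2) (by omega)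
    have k2 : cc F r ≤ a := by
      by_contra k2
      have k3 := cc_le h0 ho
      have k4 := Nat.mul_le_mul_right (r - 1) (show 2 ≤ a by grind)
      have := k1 1 one_pos (by omega) (Or.inl (by omega))
      rw [Nat.div_eq_of_lt (by omega)] at this
      omega
    have := Nat.mod_lt (finrank F V) hc
    have := Nat.div_add_mod' (finrank F V) (cc F r)
    exact ⟨k2, k1 _ (Nat.div_pos h1 hc) (by omega) (Or.inr (by omega))⟩
  · obtain ⟨s, hs⟩ := (hP.nb h0 ho hx hy).dvd hx hc le_rfl inv_mv (nd_mv hx (H24.Adj.semisimple_of_pow h0 hy))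
    rw [mul_comm] at hs
    refine (key y hx hy s hs (le_of_mul_le_mul_right ?_ hc)).dec hd
    rw [mul_assoc]
    exact (Nat.mul_le_mul_right _ ((Nat.le_div_iff_mul_le hc).2 (hs ▸ Submodule.finrank_le _))).trans H.2

omit hr in
theorem exists_tsPair (hA : H09.IsAltF φ) : ∃ A B, φ.TSPair A B := by
  obtain ⟨A, B, k1, k2, k3⟩ := nd_induct isom_one (p := fun U => ∃ A B, φ.TS A ∧ φ.TS B ∧ A ⊔ B = U)
    ⟨⊥, ⊥, TS.bot, TS.bot, by simp⟩ (fun U _ k2 k3 => by
      obtain ⟨u, hu, v, hv, l5⟩ := exists_B_ne k2 k3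
      refine ⟨_, pair_le hu hv, inv_one, (nd_plane hA l5).1,
        fun h => by have := (nd_plane hA l5).2; rw [h, finrank_bot] at this; omega, ?_⟩
      rintro _ m1 - ⟨A, B, m2, m3, rfl⟩
      exact ⟨_, _, (ts_line hA u).sup m2 (le_sup_left.trans (m1.trans (φ.perp_anti (Submodule.span_mono (by simp))))),
        (ts_line hA v).sup m3 (le_sup_right.trans (m1.trans (φ.perp_anti (Submodule.span_mono (by simp))))),
        by rw [sup_sup_sup_comm, ← Submodule.span_insert]⟩) inv_top (nondegOn_top φ)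
  have := k1.finrank_le
  have := k2.finrank_le
  have := Submodule.finrank_sup_add_finrank_inf_eq A B
  rw [k3, finrank_top] at this
  exact ⟨A, B, k1, k2, disjoint_iff.2 (Submodule.finrank_eq_zero.1 (by omega)), codisjoint_iff.2 k3⟩

omit [FiniteDimensional F V] in
theorem even_of_dvd_add (ho : Odd r) {q k : ℕ} (hk : 0 < k) (h : r ∣ q ^ k + 1) :
    orderOf (q : ZMod r) ∣ 2 * k ∧ ¬ orderOf (q : ZMod r) ∣ k := by
  have h1 : (q : ZMod r) ^ k = -1 := by
    have := (ZMod.natCast_eq_zero_iff _ _).2 h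
    push_cast at this
    exact eq_neg_of_add_eq_zero_left this
  refine ⟨orderOf_dvd_of_pow_eq_one (by rw [pow_mul', h1]; simp), fun h2 => two_ne_zmod ho ?_⟩
  rw [orderOf_dvd_iff_pow_eq_one.1 h2] at h1
  linear_combination h1

theorem lp_odd (hA : H09.IsAltF φ) (h2 : (2 : F) ≠ 0) (h0 : (r : F) ≠ 0) (ho : Odd r) {d : ℕ} (hd : finrank F V = 2 * d)
    (hd0 : 0 < d) (hΩ : r ∣ Nat.card {P : Submodule F V × Submodule F V // φ.TSPair P.1 P.2} / 2) :
    ¬ ∀ g : End F V, φ.IsIsom g → PE r g → ∃ U W, IsCompl U W ∧ φ.TS U ∧ φ.TS W ∧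
      ((U.map g = U ∧ W.map g = W) ∨ (U.map g = W ∧ W.map g = U)) := by
  haveI : Nontrivial V := nontrivial_of_finrank_pos (R := F) (by omega)
  obtain ⟨A, B, h⟩ := exists_tsPair hA
  have h1 := card_pairs' h
  have h3 := h.two_mul
  have h4 : ∀ i, qq ^ (2 * (i + 1)) - 1 = (qq ^ (i + 1) - 1) * (qq ^ (i + 1) + 1) := fun i => by
    rw [pow_mul', mul_comm, ← Nat.sq_sub_sq, one_pow]
  rw [hA.card_Isom hd, card_linearEquiv_self (k := d) (by omega), prod_gl, Nat.card_eq_fintype_card] at h1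
  simp only [h4, Finset.prod_mul_distrib] at h1
  rw [mul_left_comm, mul_left_comm _ (∏ _ ∈ _, _)] at h1
  replace h1 := Nat.eq_of_mul_eq_mul_left (Finset.prod_pos fun i _ =>
    Nat.sub_pos_of_lt (one_lt_pow₀ Fintype.one_lt_card (by omega))) h1
  have h5 := dvd_of_dvd_div (dvd_of_dvd_mul_pow Nat.prime_two (by simpa) (h1 ▸ Dvd.dvd.mul_left ((show 2 ∣ qq ^ (0 + 1) + 1 by
    have := odd_card h2; simp only [zero_add, pow_one]; omega).trans (Finset.dvd_prod_of_mem (fun i => qq ^ (i + 1) + 1)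
      (Finset.mem_range.2 hd0))) _)) hΩ
  obtain ⟨i, hi, h6⟩ := (hr.out.prime.dvd_finset_prod_iff _).1
    (dvd_of_dvd_mul_pow hr.out h0 ((mul_comm _ _).trans h1 ▸ h5.mul_right _))
  obtain ⟨h7, h8⟩ := even_of_dvd_add ho (Nat.succ_pos i) h6
  have h9 := Nat.le_of_dvd (by omega) h7
  rw [Finset.mem_range] at hi
  have he : Even bb := by
    by_contra he
    exact h8 ((Nat.coprime_two_right.2 (Nat.not_even_iff_odd.1 he)).dvd_of_dvd_mul_left h7)
  obtain ⟨y, hx, hy, k1⟩ := real_alt h0 ho hA (a := 1) (k := 0) ((tc_facts h0).elim (fun h => h.2.2.1 ▸ h.2.2.2) fun h => absurd he h.1) (by omega)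
  rw [pe_odd hA.σ_eq ho (fun _ h => h) (fun _ h _ => h) fun g h => by simpa only [Submodule.map_neg] using h]
  intro H
  obtain ⟨U, W, k2, k3, k4, k5⟩ := H y hx hy ((k1.ne_one_iff h0).2 one_pos)
  obtain ⟨j, k6, -, Z, k7, k8⟩ := (k1.ts_iff h0 hx hy _).1 ⟨U, (pair_inv ho one_ne_zero (by simpa) k2 k5).1, k3, rfl⟩
  haveI := (nd_fx hx (H24.Adj.semisimple_of_pow h0 hy)).nondeg
  have := k7.finrank_le
  have := TSPair.two_mul ⟨k3, k4, k2⟩
  have := finrank_fx_add (g := y)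
  have := ord_pos h0
  have := k1.1
  obtain rfl : j = 0 := by omega
  omega

end

theorem odc_iff {F : Type*} [Field F] {d a t : ℕ} (ha : 1 ≤ a) (ht : 2 ≤ t) (D : Fin t → Submodule F (Fin d ⊕ Fin d → F)) :
    (Cfsg.Geo.IsMDecomposition a D ∧ (∀ j, ∀ u ∈ D j, u ≠ 0 → ∃ v ∈ D j, Cfsg.sympForm d F u v ≠ 0) ∧
      ∀ j j', j ≠ j' → ∀ u ∈ D j, ∀ v ∈ D j', Cfsg.sympForm d F u v = 0) ↔ ODc (H09.spForm (Fin d) F) a D :=
  and_congr ⟨fun h => ⟨h.3, h.4, h.5⟩, fun h => ⟨ht, ha, h.1, h.2.1, h.2.2⟩⟩ (and_congr (forall_congr' fun _ => nd_sp)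
    (forall₃_congr fun _ _ _ => by
      simp only [H09.sympForm_eq]
      exact ⟨fun h v hv => (mem_perp _).2 fun u hu => h u hu v hv, fun h u hu v hv => (mem_perp _).1 (h hv) u hu⟩))

end H28.El
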