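import Cfsg.Agent.H28.Tw4

/-!
# Local subgroups of `²E₆(2)` for large primes: interfaces
-/

set_option autoImplicit false

namespace H28.Lp
open H11 Cfsg Cfsg.Lie StSys H28.Tw Subgroup

universe u

/-- the simply connected group -/
abbrev GG (Ω : Type u) [Field Ω] := chevE6.SteinbergGroup Ω

/-- its Steinberg system -/
noncomputable abbrev SS (Ω : Type u) [Field Ω] := sgSys chevE6 Ω

/-- its torus -/
noncomputable abbrev tor (Ω : Type u) [Field Ω] : (Node chevE6 → Ωˣ) →* GG Ω := torS hMul_sg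

/-- the subsystem subgroup -/
noncomputable def MP (Ω : Type u) [Field Ω] (Ψ : Set (Root chevE6)) : Subgroup (GG Ω) :=
  (SS Ω).H ⊔ closure {g | ∃ r ∈ Ψ, ∃ t, g = (SS Ω).x r t}

/-- the coweight of the branch node -/
def b4 : Node chevE6 → ℤ := (![2, 3, 4, 6, 4, 2] : Fin 6 → ℤ)

/-- part U: elementary abelian fixed subgroups -/
def UStmt : Prop := ∀ (Ω : Type u) [Field Ω] [IsAlgClosed Ω] [CharP Ω 2] (σ : MulAut (GG Ω)) (k : ℕ) (r : Fin k → Root chevE6)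
  (τ : Equiv.Perm (Fin k)), τ = 1 ∨ τ = finRotate k → Function.Injective r → (∀ i j, 0 ≤ pair (r i) (r j)) →
    (∀ i t, σ ((SS Ω).x (r i) t) = (SS Ω).x (r (τ i)) (t ^ 2)) →
      ∃ E : Subgroup (GG Ω), Finite E ∧ 2 ^ k ≤ Nat.card E ∧ E ≤ fixS σ ∧ (∀ e ∈ E, e ^ 2 = 1) ∧
        E ≤ closure {g | ∃ i t, g = (SS Ω).x (r i) t}

/-- part R: the rank of a faithful elementary abelian two-group -/
def RStmt : Prop := ∀ (G : Type u) [Group G] (P E : Subgroup G) (p d : ℕ), p.Prime → p ≠ 2 → d = 1 ∨ d = 2 → Nat.card P = p ^ d →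
  (∀ x ∈ P, x ^ p = 1) → Finite E → (∀ e ∈ E, e ^ 2 = 1) → E ≤ normalizer (P : Set G) → E ⊓ centralizer (P : Set G) = ⊥ →
    Nat.card E ≤ 2 ^ d

/-- part Z: the centralizer of the finite group modulo the centre -/
def ZStmt : Prop := ∀ (Ω : Type u) [Field Ω] [IsAlgClosed Ω] [CharP Ω 2] (σ : MulAut (GG Ω)),
  IsTw (SS Ω) σ grE6 (fun t => t ^ 2) → ∀ t : GG Ω, (∀ g ∈ fixS σ, g * t * (g)⁻¹ * (t)⁻¹ ∈ center (GG Ω)) → t ∈ center (GG Ω)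

/-- part K: subsystem subgroups are connected reductive -/
def KStmt : Prop := ∀ (Ω : Type u) [Field Ω] [IsAlgClosed Ω] [Uncountable Ω] [CharP Ω 2],
  (∀ ψ : Node chevE6 → ℤ, (SS Ω).Sub {r | fv ψ r = 0} (MP Ω {r | fv ψ r = 0})) ∧
    (SS Ω).Sub {r | (fv b4 r : ZMod 3) = 0} (MP Ω {r | (fv b4 r : ZMod 3) = 0})

/-- part C: centralizers of torus elements -/
def CStmt : Prop := ∀ (Ω : Type u) [Field Ω] [IsAlgClosed Ω] [Uncountable Ω] [CharP Ω 2],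
  (∀ (C : Set (Node chevE6 → Ωˣ)) (t : Node chevE6 → Ωˣ), (∀ r, (∀ c ∈ C, chiOf c r = 1) → chiOf t r = 1) →
    (∀ w : Weyl chevE6, (∀ c ∈ C, ∀ r, chiOf c (w.1 r) = chiOf c r) → ∀ i, chiOf t (w.1 (sroot i)) = chiOf t (sroot i)) →
      ∀ g ∈ centralizer (tor Ω '' C), g * tor Ω t * (g)⁻¹ * (tor Ω t)⁻¹ ∈ center (GG Ω)) ∧
  (∀ s : GG Ω, (∀ h ∈ (SS Ω).H, h * s * (h)⁻¹ * (s)⁻¹ ∈ center (GG Ω)) → s ∈ (SS Ω).H) ∧
  (∀ C : Set (Node chevE6 → Ωˣ), (∀ r, ∃ c ∈ C, chiOf c r ≠ 1) →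
    (∀ w : Weyl chevE6, (∀ c ∈ C, ∀ r, chiOf c (w.1 r) = chiOf c r) → w = 1) →
      ∀ e ∈ centralizer (tor Ω '' C), e ^ 2 = 1 → e = 1) ∧
  (∀ (c : Node chevE6 → Ωˣ) (r : Root chevE6), (SS Ω).x r 1 * tor Ω c * ((SS Ω).x r 1)⁻¹ * (tor Ω c)⁻¹ ∈ center (GG Ω) → chiOf c r = 1) ∧
  (∀ c : Node chevE6 → Ωˣ, tor Ω c ∈ center (GG Ω) ↔ ∀ r, chiOf c r = 1) ∧
  (∀ (c : Node chevE6 → Ωˣ) (Ψ : Set (Root chevE6)), (∀ r ∈ Ψ, chiOf c r = 1) → MP Ω Ψ ≤ centralizer {tor Ω c}) ∧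
  ∃ ξ : Ωˣ, Function.Injective fun n : ℤ => ξ ^ n

/-- part F: the final step -/
def FStmt : Prop := ∀ (R X : Type u) [Group R] [Group X] [IsSimpleGroup X] (π : R →* X), Function.Surjective π →
  (∀ z, π z = 1 → z ∈ center R ∧ z ^ 3 = 1) → ∀ (P Y : Subgroup R) (p : ℕ), p.Coprime 3 → (∀ x ∈ P, x ^ p = 1) → P ≠ ⊥ → P ≤ Y →
    normalizer (P : Set R) ≤ normalizer (Y : Set R) → Y.map π ≠ ⊤ → ¬ Y ≤ normalizer (P : Set R) →
      ¬ IsCoatom (normalizer ((P.map π : Subgroup X) : Set X))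

/-- part S: reduction to standard subgroups -/
def SStmt : Prop := ∀ (X : Type u) [Group X], Nat.card X = 2 ^ 36 * 3 ^ 9 * 5 ^ 2 * 7 ^ 2 * 11 * 13 * 17 * 19 →
  (∀ p ∈ [11, 13, 17, 19], ∃ P : Subgroup X, Nat.card P = p ∧ ¬ IsCoatom (normalizer (P : Set X))) →
  (∃ x y : X, Commute x y ∧ x ^ 7 = 1 ∧ y ^ 7 = 1 ∧ Nat.card (closure {x, y} : Subgroup X) = 49 ∧
    ¬ IsCoatom (normalizer ((closure {x, y} : Subgroup X) : Set X)) ∧ ¬ IsCoatom (normalizer ((closure {y, y} : Subgroup X) : Set X)) ∧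
      ∀ i < 7, ¬ IsCoatom (normalizer ((closure {x * y ^ i, x * y ^ i} : Subgroup X) : Set X))) →
  ∀ p : ℕ, p.Prime → 5 < p → ∀ P : Subgroup X, IsPGroup p P → P ≠ ⊥ → ¬ IsCoatom (normalizer (P : Set X))

/-- part O: order and simplicity -/
def OStmt : Prop := ∀ (K : Type u) [Field K] [Fintype K], Fintype.card K = 4 → IsSimpleGroup (twistedE6 K 2) ∧
  Nat.card (twistedE6 K 2) = 2 ^ 36 * 3 ^ 9 * 5 ^ 2 * 7 ^ 2 * 11 * 13 * 17 * 19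

end H28.Lp
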