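import Cfsg.Agent.H28.Lp2

/-!
# Local subgroups of `²E₆(2)` for large primes: the generic step
-/

set_option autoImplicit false

namespace H28.Lp
open H11 Cfsg Cfsg.Lie StSys H28.Tw Subgroup

universe u

/-- part G: the generic step -/
def GStmt : Prop := ∀ (Ω : Type u) [Field Ω] [IsAlgClosed Ω] [Uncountable Ω] [CharP Ω 2] (σ : MulAut (GG Ω)) (X : Type u) [Group X]
  [IsSimpleGroup X] (π : fixS σ →* X), Tws (galSg chevE6 Ω) σ B6 → IsTw (SS Ω) σ grE6 (fun t => t ^ 2) → Function.Surjective π →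
    (∀ g, π g = 1 ↔ g.1 ∈ center (GG Ω)) → ∀ D : Dat, D.Ok → D.p.Prime → ∀ z : GG Ω,
      (∀ y, y ∈ fixS (MulAut.conj (nl Ω D.lw).1 * σ) ↔ z * y * z⁻¹ ∈ fixS σ) → ∀ ζ : Ωˣ, IsPrimitiveRoot ζ D.p → ∀ x1 x2 : fixS σ,
        z⁻¹ * x1.1 * z = tor Ω (Z ζ (vec D.a1)) → z⁻¹ * x2.1 * z = tor Ω (Z ζ (vec D.a2)) →
          Nat.card (closure {x1, x2} : Subgroup (fixS σ)) = D.p ^ D.d →
            ¬ IsCoatom (normalizer ((closure {π x1, π x2} : Subgroup X) : Set X))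

/-- part M: the assembly -/
def MStmt : Prop := GStmt.{u} → ∀ (K : Type u) [Field K] [Fintype K], Fintype.card K = 4 → ∀ p : ℕ, p.Prime → 5 < p →
  ∀ P : Subgroup (twistedE6 K 2), IsPGroup p P → P ≠ ⊥ → ¬ IsCoatom (normalizer (P : Set (twistedE6 K 2)))

end H28.Lp
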