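import Cfsg.Agent.H28.Lp3
import Cfsg.Agent.H11.LpZ
import Cfsg.Agent.H12.LpU
import Cfsg.Agent.H15.LpR
import Cfsg.Agent.H22.LpF
import Cfsg.Agent.H05.LpC
import Cfsg.Agent.H08.LpK

/-!
# Local subgroups of `²E₆(2)` for large primes: proof of the generic step
-/

set_option autoImplicit false

namespace H28.Lp
open H11 Cfsg Cfsg.Lie StSys H28.Tw Subgroup

universe u

variable {Ω : Type u} [Field Ω]

/-- evaluation of a root character -/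
def chiH (r : Root chevE6) : (Node chevE6 → Ωˣ) →* Ωˣ := MonoidHom.mk' (fun c => chiOf c r) fun a b => chiOf_mul a b r

theorem chi_zpow (c : Node chevE6 → Ωˣ) (n : ℤ) (r : Root chevE6) : chiOf (c ^ n) r = chiOf c r ^ n := map_zpow (chiH r) c n

theorem chiB (w : Weyl chevE6) (c : Node chevE6 → Ωˣ) (r : Root chevE6) :
    chiOf (mact (B6 * corM w.1) c) (w.1 (Rg r)) = chiOf c r ^ (2 : ℤ) := by
  rw [mact_mul, chiOf_mact (Weyl.aut w)]
  simp only [chiOf, mact_apply, ← Finset.prod_zpow, ← zpow_mul]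
  rw [Finset.prod_comm]
  refine Finset.prod_congr rfl fun i _ => ?_
  rw [← zpow_sum']
  simp [B6, Rg_wt, mul_comm]

theorem wt_cor : ∀ (r : Root chevE6) (i : Node chevE6), ∑ j, cartanM chevE6 i j * cor r j = wt r i := by
  simp only [cart6, agreeE6.wt_eq, agreeE6.cor_eq]; decide +kernel

theorem chi_cor (c : Node chevE6 → Ωˣ) (r : Root chevE6) : chiOf c r = ∏ j, chiOf c (sroot j) ^ cor r j := by
  simp only [chiOf, ← Finset.prod_zpow, ← zpow_mul]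
  rw [Finset.prod_comm]
  refine Finset.prod_congr rfl fun i _ => ?_
  rw [← zpow_sum', ← wt_cor]
  rfl

theorem chiZ {ζ : Ωˣ} {n : ℕ} (h : IsPrimitiveRoot ζ n) (a : List ℤ) (r : Root chevE6) : chiOf (Z ζ (vec a)) r = 1 ↔ F a r % n = 0 := by
  rw [chiOf_Z, h.zpow_eq_one_iff_dvd, F_eq, Int.dvd_iff_emod_eq_zero]

theorem chiZ' {ζ : Ωˣ} {n : ℕ} (h : IsPrimitiveRoot ζ n) (a : List ℤ) (r s : Root chevE6) :
    chiOf (Z ζ (vec a)) r = chiOf (Z ζ (vec a)) s ↔ (F a r - F a s) % n = 0 := by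
  rw [chiOf_Z, chiOf_Z, ← mul_inv_eq_one, ← zpow_sub, h.zpow_eq_one_iff_dvd, F_eq, F_eq, Int.dvd_iff_emod_eq_zero]

theorem cq {G : Type*} [Group G] (a b : G) : a * b * a⁻¹ * b⁻¹ ∈ center G ↔
    QuotientGroup.mk' (center G) a * QuotientGroup.mk' (center G) b = QuotientGroup.mk' (center G) b * QuotientGroup.mk' (center G) a := by
  rw [← mul_inv_eq_one, ← map_mul, ← map_mul, ← map_inv, ← map_mul, QuotientGroup.mk'_apply, QuotientGroup.eq_one_iff, mul_inv_rev,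
    ← mul_assoc]

theorem cj_cen {G : Type*} [Group G] {a : G} (h : a ∈ center G) (g : G) : g * a * g⁻¹ ∈ center G := by
  rwa [mem_center_iff.1 h, mul_inv_cancel_right]

/-- the canonical set of elements of order three modulo the centre -/
def AA (σ : MulAut (GG Ω)) (P : Subgroup (GG Ω)) (ε : ℤ) : Set (GG Ω) :=
  {s | (∀ g ∈ centralizer (P : Set (GG Ω)), g * s * g⁻¹ * s⁻¹ ∈ center (GG Ω)) ∧ s ^ 3 ∈ center (GG Ω) ∧ σ s * s ^ ε ∈ center (GG Ω)}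

theorem AA_conj {σ : MulAut (GG Ω)} {P : Subgroup (GG Ω)} {ε : ℤ} {g s : GG Ω} (h1 : g ∈ fixS σ) (h2 : g ∈ normalizer (P : Set (GG Ω)))
    (h : s ∈ AA σ P ε) : g * s * g⁻¹ ∈ AA σ P ε := by
  refine ⟨fun y hy => ?_, by rw [conj_pow]; exact cj_cen h.2.1 g, ?_⟩
  · have := cj_cen (h.1 (g⁻¹ * y * g) fun x hx => by
      have e := hy _ (((mem_normalizer_iff.1 h2) x).1 hx)
      rw [← mul_left_inj g⁻¹, ← mul_right_inj g]
      simpa [mul_assoc] using e) g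
    simpa [mul_assoc] using this
  · have := cj_cen h.2.2 g
    rw [map_mul, map_mul, map_inv, mem_fixS.1 h1, conj_zpow]
    simpa [mul_assoc] using this

variable [IsAlgClosed Ω] [Uncountable Ω] [CharP Ω 2]

theorem subP (hK : KStmt.{u}) (D : Dat) : (SS Ω).Sub {r | D.inP r} (MP Ω {r | D.inP r}) := by
  obtain ⟨k1, k2⟩ := hK Ω
  unfold Dat.inP
  cases D.sp
  · simpa only [cond_false, decide_eq_true_eq, F_eq] using k1 (vec D.ψ)
  · have e (r : Root chevE6) : (fv b4 r : ZMod 3) = 0 ↔ F [2, 3, 4, 6, 4, 2] r % 3 = 0 := by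
      rw [ZMod.intCast_zmod_eq_zero_iff_dvd, ← F_eq, Int.dvd_iff_emod_eq_zero, show b4 = vec [2, 3, 4, 6, 4, 2] by decide +kernel]; rfl
    simpa only [cond_true, decide_eq_true_eq, e] using k2

variable {σ : MulAut (GG Ω)} {w : Weyl chevE6} (T : Tws (galSg chevE6 Ω) σ (B6 * corM w.1)) {D : Dat} (h : D.Ok)
  (hρ : ∀ r : Root chevE6, (w.1 (Rg r)).1 = D.ρ r) {ζ η : Ωˣ} (h0 : IsPrimitiveRoot ζ D.p) (h9 : IsPrimitiveRoot η 9)
include T h hρ h0 h9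

theorem tA (hC : CStmt.{u}) : tor Ω (Z η (vec D.b)) ∈ AA σ (closure (tor Ω '' {Z ζ (vec D.a1), Z ζ (vec D.a2)})) D.ε := by
  obtain ⟨C1, -, -, -, C5, -⟩ := hC Ω
  refine ⟨fun g hg => C1 {Z ζ (vec D.a1), Z ζ (vec D.a2)} _ (fun r hr => ?_) (fun v hv i => ?_) g (by rwa [centralizer_closure] at hg),
    ?_, ?_⟩
  · exact (chiZ h9 _ r).2 ((h.1 r r.2).2.2.2.1 ((chiZ h0 _ r).1 (hr _ (by simp))) ((chiZ h0 _ r).1 (hr _ (by simp)))).1
  · exact (chiZ' h9 _ _ _).2 ((Dat.srch h v (fun r => (chiZ' h0 _ _ _).1 (hv _ (by simp) r))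
      fun r => (chiZ' h0 _ _ _).1 (hv _ (by simp) r)).1 i)
  · rw [← map_pow, C5]
    intro r
    rw [show chiOf _ r = _ from map_pow (chiH r) _ 3, show chiH r _ = _ from chiOf_Z η _ r, ← zpow_natCast, ← zpow_mul,
      h9.zpow_eq_one_iff_dvd, F_eq]
    have := (h.1 r r.2).2.1
    omega
  · rw [show σ (tor Ω _) = tor Ω _ from T.tor _, ← map_zpow, ← map_mul, C5]
    intro r
    obtain ⟨r, rfl⟩ := (w.1.surjective.comp (Function.Involutive.surjective Rg_Rg)) r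
    rw [Function.comp, chiOf_mul, chiB, chi_zpow, chiOf_Z,
      chiOf_Z, ← zpow_mul, ← zpow_mul, ← zpow_add, h9.zpow_eq_one_iff_dvd, F_eq, F_eq, hρ, Int.dvd_iff_emod_eq_zero, mul_comm _ 2,
      mul_comm _ D.ε]
    exact (h.1 r r.2).2.2.1

theorem upA (hC : CStmt.{u}) {s : GG Ω} (hs : s ∈ AA σ (closure (tor Ω '' {Z ζ (vec D.a1), Z ζ (vec D.a2)})) D.ε) :
    MP Ω {r | D.inP r} ≤ centralizer {s} := by
  obtain ⟨-, C2, -, C4, C5, C6, -⟩ := hC Ω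
  obtain ⟨c, rfl⟩ : s ∈ (tor Ω).range := (torS_range hMul_sg).ge (C2 s fun y hy => hs.1 y (by
    obtain ⟨c, rfl⟩ := (torS_range hMul_sg).ge hy
    rw [centralizer_closure]
    rintro _ ⟨c', -, rfl⟩
    rw [← map_mul, mul_comm, map_mul]))
  have h3 : IsPrimitiveRoot (η ^ 3) 3 := h9.pow (by decide) rfl
  generalize η ^ 3 = ω at h3
  obtain ⟨s1, s2, s3⟩ := hs
  rw [← map_pow, C5] at s2
  rw [show σ (tor Ω _) = tor Ω _ from T.tor _, ← map_zpow, ← map_mul, C5] at s3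
  choose b hb e using fun j => h3.eq_pow_of_mem_rootsOfUnity (ξ := chiOf c (sroot j))
    ((mem_rootsOfUnity _ _).2 ((map_pow (chiH _) c 3).symm.trans (s2 _)))
  let β : List ℤ := [(b ⟨0, by decide⟩ : ℕ), (b ⟨1, by decide⟩ : ℕ), (b ⟨2, by decide⟩ : ℕ), (b ⟨3, by decide⟩ : ℕ), (b ⟨4, by decide⟩ : ℕ),
    (b ⟨5, by decide⟩ : ℕ)]
  have e1 (j : Node chevE6) : vec β j = b j := by
    obtain ⟨j, hj⟩ := j
    have : j < 6 := hj
    interval_cases j <;> rfl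
  have e2 (r : Root chevE6) : chiOf c r = ω ^ G β r := by
    rw [chi_cor, ← G_eq, dotProduct, zpow_sum']
    exact Finset.prod_congr rfl fun j _ => by rw [← e, e1, zpow_mul, zpow_natCast]
  have e3 {n : ℤ} : ω ^ n = 1 ↔ n % 3 = 0 := by rw [h3.zpow_eq_one_iff_dvd, Int.dvd_iff_emod_eq_zero]; rfl
  refine C6 c _ fun r hr => (e2 r).trans (e3.2 (h.2.2.2.2.2.1 _ (hb _) _ (hb _) _ (hb _) _ (hb _) _ (hb _) _ (hb _) (fun i hi => ?_)
    (fun r hr => ?_) r r.2 hr))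
  · have := s3 (w.1 (Rg (sroot ⟨i, hi⟩)))
    rwa [chiOf_mul, chiB, chi_zpow, e2, e2, ← zpow_mul,
      ← zpow_mul, ← zpow_add, e3, hρ, sm_eq, mul_comm _ 2, mul_comm _ D.ε] at this
  · obtain ⟨q1, q2, q3⟩ := h.2.2.2.2.1 r hr
    refine e3.1 ((e2 ⟨r, q1⟩).symm.trans (C4 c _ (s1 _ ?_)))
    rw [centralizer_closure]
    rintro _ ⟨c', hc, rfl⟩
    have := torS_conj hMul_sg c' (⟨r, q1⟩ : Root chevE6) 1
    rwa [show chiOf c' _ = 1 by rcases hc with rfl | rfl; exacts [(chiZ h0 _ _).2 q2, (chiZ h0 _ _).2 q3], Units.val_one, one_mul,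
      mul_inv_eq_iff_eq_mul] at this

omit h9 in
theorem strict (hK : KStmt.{u}) (hC : CStmt.{u}) (hp : D.p.Prime)
    (hx : ∀ r t, σ ((SS Ω).x r t) = (SS Ω).x (w.1 (Rg r)) (t ^ 2))
    (hc : Nat.card (closure (tor Ω '' {Z ζ (vec D.a1), Z ζ (vec D.a2)})) = D.p ^ D.d)
    (hP : ∀ x ∈ closure (tor Ω '' {Z ζ (vec D.a1), Z ζ (vec D.a2)}), x ^ D.p = 1) :
    ¬ MP Ω {r | D.inP r} ⊓ fixS σ ≤ normalizer (closure (tor Ω '' {Z ζ (vec D.a1), Z ζ (vec D.a2)}) : Set (GG Ω)) := fun hN => by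
  obtain ⟨-, -, C3, -, -, C6, ξ, hξ⟩ := hC Ω
  have hM := subP (Ω := Ω) hK D
  obtain ⟨o1, -, -, -, -, -, o7, o8, ⟨d1, d2, -, d3, -⟩, -⟩ := id h
  have n1 : (nl Ω D.l2).1 ∈ MP Ω {r | D.inP r} := nl_mem Ω _ fun a ha =>
    n_mem_of (hM.x (ro a) (o7 a ha)) (hM.x _ (hM.rev (ro a) (o7 a ha))) 1
  have n2 := n_conj1 (nl Ω D.l2) (nl_mem Ω _ fun a _ => subset_closure ⟨_, rfl⟩)
  have n3 : MP Ω {r | D.inP r} ≤ (MP Ω {r | D.inP r}).comap σ.toMonoidHom := by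
    refine sup_le (fun y hy => ?_) ((closure_le _).2 ?_)
    · obtain ⟨c, rfl⟩ := (torS_range hMul_sg).ge hy
      change σ (tor Ω c) ∈ MP Ω {r | D.inP r}
      rw [show σ (tor Ω c) = tor Ω _ from T.tor c]
      exact hM.H (torS_mem _ _)
    · rintro _ ⟨r, hr, t, rfl⟩
      change σ _ ∈ MP Ω {r | D.inP r}
      rw [hx]
      refine hM.x _ ?_ _
      change D.inP _ = true
      rw [hρ]
      exact ((o1 r r.2).2.2.2.2 hr).1
  obtain ⟨z, hz, e⟩ := T.fr.lang_sub hM (fun g hg => n3 hg) (inv_mem n1)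
  let rr : Fin D.k → Root chevE6 := fun i => ⟨D.rs.getD i 0, (o8 i).1⟩
  obtain ⟨E, _, E1, E2, E3, E4⟩ := H12.LpU.u Ω (MulAut.conj (nl Ω D.l2).1⁻¹ * σ) D.k rr D.τ
    (by unfold Dat.τ; cases D.rot; exacts [.inl rfl, .inr rfl]) (fun i j e => ((o8 i).2.2.2 j).2 (congrArg Fin.val e))
    (fun i j => by rw [pr_eq]; exact ((o8 i).2.2.2 j).1) fun i t => by
      have q : w.1 (Rg (rr i)) = ((SS Ω).π (nl Ω D.l2)).1 (rr (D.τ i)) := Fin.ext (by rw [hρ, nl_act]; exact (o8 i).2.2.1.symm)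
      rw [MulAut.mul_apply, hx, MulAut.conj_apply, inv_inv, mul_assoc, inv_mul_eq_iff_eq_mul, ← eq_mul_inv_iff_mul_eq, n2, q]
  rw [e] at E2
  have E5 : E.map (MulAut.conj z).toMonoidHom ≤ MP Ω {r | D.inP r} ⊓ fixS σ := by
    rintro _ ⟨y, hy, rfl⟩
    exact mem_inf.2 ⟨(MP Ω _).mul_mem ((MP Ω _).mul_mem hz ((closure_le (MP Ω _)).2 (by
      rintro _ ⟨i, t, rfl⟩; exact hM.x (rr i) (o8 i).2.1 t) (E4 hy))) ((MP Ω _).inv_mem hz), mem_fixS_conj.1 (E2 hy)⟩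
  have E6 : ∀ y ∈ E.map (MulAut.conj z).toMonoidHom, y ^ 2 = 1 := by
    rintro _ ⟨y, hy, rfl⟩
    rw [← map_pow, E3 y hy, map_one]
  have := H15.LpR.r _ _ (E.map (MulAut.conj z).toMonoidHom) _ _ hp d3 d1 hc hP
    (.of_surjective _ ((MulAut.conj z).toMonoidHom.subgroupMap_surjective E)) E6 (E5.trans hN) (eq_bot_iff.2 fun y ⟨y1, y2⟩ =>
      C3 {Z ξ (vec D.ψ), Z ζ (vec D.a1), Z ζ (vec D.a2)} (fun r => ?_) (fun v hv => ?_) y ?_ (E6 y y1))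
  · rw [card_map_of_injective (MulAut.conj z).injective] at this
    exact absurd (E1.trans this) (not_le.2 (Nat.pow_lt_pow_right (by decide) d2))
  · by_contra! q
    refine ((o1 r r.2).2.2.2.1 ((chiZ h0 _ r).1 (q _ (by simp))) ((chiZ h0 _ r).1 (q _ (by simp)))).2 (hξ ?_)
    have := q (Z ξ (vec D.ψ)) (by simp)
    rwa [chiOf_Z, F_eq, ← zpow_zero ξ] at this
  · refine (Dat.srch h v (fun r => (chiZ' h0 _ _ _).1 (hv _ (by simp) r)) fun r => (chiZ' h0 _ _ _).1 (hv _ (by simp) r)).2 fun r => hξ ?_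
    have := hv (Z ξ (vec D.ψ)) (by simp) r
    rwa [chiOf_Z, chiOf_Z, F_eq, F_eq] at this
  · rw [centralizer_closure] at y2
    rintro _ ⟨c, rfl | hc, rfl⟩
    · exact C6 _ _ (fun r hr => by rw [chiOf_Z, F_eq, ((o1 r r.2).2.2.2.2 hr).2, zpow_zero]) (E5 y1).1 _ rfl
    · exact y2 _ ⟨c, hc, rfl⟩

omit T h hρ h0 h9 in
theorem g (hK : KStmt.{u}) (hC : CStmt.{u}) : GStmt.{u} := fun Ω _ _ _ _ σ X _ _ π T hσ hπ hk D h hp z hz ζ h0 x1 x2 e1 e2 hc => by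
  have : NeZero ((9 : ℕ) : Ω) := ⟨fun q => absurd ((CharP.cast_eq_zero_iff Ω 2 9).1 q) (by decide)⟩
  obtain ⟨z0, hz0⟩ := HasEnoughRootsOfUnity.exists_primitiveRoot Ω 9
  have h9 : IsPrimitiveRoot (hz0.isUnit (by decide)).unit 9 := hz0.isUnit_unit (by decide)
  generalize (hz0.isUnit (by decide)).unit = η at h9
  have T' := T.conj (nl Ω D.lw)
  have hρ (r : Root chevE6) : (((SS Ω).π (nl Ω D.lw)).1 (Rg r)).1 = D.ρ r := (nl_act Ω _ _).trans (h.1 r r.2).1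
  have hx (r) (t) : (MulAut.conj (nl Ω D.lw).1 * σ) ((SS Ω).x r t) = (SS Ω).x (((SS Ω).π (nl Ω D.lw)).1 (Rg r)) (t ^ 2) := by
    rw [MulAut.mul_apply, tw_x hσ, MulAut.conj_apply, n_conj1 _ (nl_mem Ω _ fun a _ => subset_closure ⟨_, rfl⟩)]
  generalize MulAut.conj (nl Ω D.lw).1 * σ = σ' at T' hz hx
  generalize (SS Ω).π (nl Ω D.lw) = w at T' hρ hx
  let j : fixS σ →* GG Ω := (MulAut.conj z⁻¹).toMonoidHom.comp (fixS σ).subtype
  have hj : Function.Injective j := (MulAut.conj z⁻¹).injective.comp Subtype.val_injective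
  have je (g : fixS σ) : j g = z⁻¹ * g.1 * z := by simp [j]
  have hr (g) : j g ∈ fixS σ' := by rw [hz, je]; simp [mul_assoc]
  have hP : (closure {x1, x2} : Subgroup (fixS σ)).map j = closure (tor Ω '' {Z ζ (vec D.a1), Z ζ (vec D.a2)}) := by
    rw [MonoidHom.map_closure, Set.image_pair, Set.image_pair, je, je, e1, e2]
  have hN {g : fixS σ} (hg : g ∈ normalizer ((closure {x1, x2} : Subgroup (fixS σ)) : Set (fixS σ))) :
      j g ∈ normalizer (closure (tor Ω '' {Z ζ (vec D.a1), Z ζ (vec D.a2)}) : Set (GG Ω)) := hP ▸ le_normalizer_map _ ⟨g, hg, rfl⟩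
  have hZ (a : List ℤ) : Z ζ (vec a) ^ D.p = 1 := funext fun i => by
    rw [Pi.pow_apply, Z, ← zpow_natCast, zpow_comm, zpow_natCast, h0.pow_eq_one, one_zpow, Pi.one_apply]
  have hQ : closure (tor Ω '' {Z ζ (vec D.a1), Z ζ (vec D.a2)}) ≤ (powMonoidHom D.p).ker.map (tor Ω) :=
    (closure_le _).2 (by rintro _ ⟨c, rfl | rfl, rfl⟩ <;> exact ⟨_, hZ _, rfl⟩)
  have hp' : ∀ x ∈ closure (tor Ω '' {Z ζ (vec D.a1), Z ζ (vec D.a2)}), x ^ D.p = 1 := fun x hx => by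
    obtain ⟨c, q, rfl⟩ := hQ hx
    rw [← map_pow, show c ^ D.p = 1 from q, map_one]
  let q := QuotientGroup.mk' (center (GG Ω))
  let Y := (centralizer (q '' AA σ' (closure (tor Ω '' {Z ζ (vec D.a1), Z ζ (vec D.a2)})) D.ε)).comap (q.comp j)
  have hY {g} (hg : j g ∈ MP Ω {r | D.inP r}) : g ∈ Y := by
    rintro _ ⟨s, hs, rfl⟩
    rw [MonoidHom.comp_apply, ← map_mul, ← map_mul, upA T' h hρ h0 h9 hC hs hg s rfl]
  have hY2 {g} (hg : g ∈ normalizer ((closure {x1, x2} : Subgroup (fixS σ)) : Set (fixS σ))) {y} (hy : y ∈ Y) : g * y * g⁻¹ ∈ Y := by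
    rintro _ ⟨s, hs, rfl⟩
    have := hy _ ⟨_, AA_conj (inv_mem (hr g)) (inv_mem (hN hg)) hs, rfl⟩
    simp only [MonoidHom.comp_apply, map_mul, map_inv, inv_inv] at this ⊢
    rw [← mul_right_inj (q (j g))⁻¹, ← mul_left_inj (q (j g))]
    simpa [mul_assoc] using this
  rw [← Set.image_pair, ← MonoidHom.map_closure]
  refine H22.LpF.f _ X π hπ (fun y hy => ⟨mem_center_iff.2 fun g => Subtype.ext (mem_center_iff.1 ((hk y).1 hy) g.1), ?_⟩) _ Y D.p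
    h.2.2.2.2.2.2.2.2.1.2.2.2.2 (fun x hx => hj (by rw [map_pow, map_one]; exact hp' _ (hP.le ⟨x, hx, rfl⟩))) (fun e => ?_)
    (fun x hx => hY ?_) (fun g hg => mem_normalizer_iff.2 fun y => ⟨hY2 hg, fun hy => by simpa [mul_assoc] using hY2 (inv_mem hg) hy⟩)
    (fun e => ?_) fun e => strict T' h hρ h0 hK hC hp hx (by rw [← hP, card_map_of_injective hj, hc]) hp' fun y hy => ?_
  · obtain ⟨c, q1, q2⟩ := (center_eq_map hMul_sg (sgSys_grp chevE6 Ω)).le ((hk y).1 hy)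
    exact Subtype.ext (by rw [Subgroup.coe_pow, ← q2, ← map_pow, cart3 q1, map_one]; rfl)
  · rw [e, card_bot, eq_comm, Nat.pow_eq_one] at hc
    have := hp.one_lt
    have := h.2.2.2.2.2.2.2.2.1.1
    omega
  · obtain ⟨c, -, e⟩ := hQ (hP.le ⟨x, hx, rfl⟩)
    exact e ▸ mem_sup_left (torS_mem _ _)
  · obtain ⟨r, hr, q1⟩ := h.2.1
    have q2 := cj_cen (H11.LpZ.z Ω σ hσ (z * tor Ω (Z η (vec D.b)) * z⁻¹) fun g hg => by
      obtain ⟨y, hy, q3⟩ := e.ge (mem_top (π ⟨g, hg⟩))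
      have q4 : q (j ⟨g, hg⟩) = q (j y) := by
        rw [← mul_inv_eq_one, ← map_inv, ← map_inv, ← map_mul, ← map_mul, QuotientGroup.mk'_apply, QuotientGroup.eq_one_iff, je]
        simpa using cj_cen ((hk (⟨g, hg⟩ * y⁻¹)).1 (by rw [map_mul, map_inv, q3, mul_inv_cancel])) z⁻¹
      have q5 := cj_cen ((cq (j ⟨g, hg⟩) _).2 (q4 ▸ (hy _ ⟨_, tA T' h hρ h0 h9 hC, rfl⟩).symm)) z
      rw [je] at q5
      simpa [mul_assoc] using q5) z⁻¹
    rw [inv_inv, ← mul_assoc, ← mul_assoc, inv_mul_cancel, one_mul, inv_mul_cancel_right] at q2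
    exact q1 ((chiZ h9 _ ⟨r, hr⟩).1 (((hC Ω).2.2.2.2.1 _).1 q2 _))
  · have q1 : j ⟨_, (hz y).1 hy.2⟩ = y := by rw [je]; simp [mul_assoc]
    exact q1 ▸ hN (e (hY (q1.symm ▸ hy.1)))

omit T h hρ h0 h9 in
theorem gen : GStmt.{u} := g H08.LpK.k H05.LpC.c

end H28.Lp
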