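import Mathlib
import Cfsg.Agent.H28.Comp2

/-! The preimage of a normal subsystem in a central extension; constrained systems and components. -/

set_option autoImplicit false
set_option linter.unusedSectionVars false
set_option linter.style.haveILetI false

open Cfsg Cfsg.FusionSystem Equiv
open H26 (IsSyl)

namespace H28

variable {Ω Ω' : Type*} [Group Ω] [Group Ω'] {p : ℕ} {S : Subgroup Ω} [Finite S] {F : FusionSystem S}
  {P Q R T U V W X Y Z : Subgroup Ω} {f g : Perm Ω} {S' T' P' Q' R' : Subgroup Ω'} {F' : FusionSystem S'} {t : Ω → Ω'}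
  {f' g' : Perm Ω'}

omit [Finite S] in
theorem ind_pow (hf : HIso P P f) (e : ∀ x ∈ P, f' (t x) = t (f x)) (n : ℕ) : ∀ x ∈ P, (f' ^ n) (t x) = t ((f ^ n) x) := by
  induction n with
  | zero => exact fun _ _ => rfl
  | succ n ih => exact fun x hx => by rw [pow_succ, pow_succ, ma, ma, e x hx, ih _ (hf.map_mem hx)]

omit [Finite S] in
theorem coprime_ind (h : HomOn P t) (hf : HIso P P f) (hf' : HIso (img t P) (img t P) f') (e : ∀ x ∈ P, f' (t x) = t (f x))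
    (hc : (orderOf (res P f)).Coprime p) : (orderOf (res (img t P) f')).Coprime p :=
  Nat.Coprime.coprime_dvd_left (orderOf_dvd_of_pow_eq_one (by
    rw [← hf'.res_pow, (hf'.pow _).res_eq_one_iff]
    intro y hy
    obtain ⟨x, hx, rfl⟩ := h.mem_img.1 hy
    rw [ind_pow hf e _ x hx, hf.pow_apply_eq_of_res (pow_orderOf_eq_one _) x hx])) hc

theorem IsQuo.exists_full (hq : IsQuo F t F') {E' : FusionSystem T'} (hE : E'.IsInvariantIn F') :
    ∃ E : FusionSystem (hq.hom.pre T'), ∀ P f, M E P f ↔ M F P f ∧ ∃ f', M E' (img t P) f' ∧ ∀ x ∈ P, f' (t x) = t (f x) := by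
  have hr : IsPred (hq.hom.pre T') fun P f => M F P f ∧ ∃ f', M E' (img t P) f' ∧ ∀ x ∈ P, f' (t x) = t (f x) :=
    { le := fun ⟨a, _, b, _⟩ _ hx => ⟨a.le hx, b.le (mem_img_of_mem hx)⟩
      mem := fun ⟨a, _, b, e⟩ x hx => ⟨a.mem hx, e x hx ▸ b.mem (mem_img_of_mem hx)⟩
      hom := fun h => h.1.hom
      congr := fun ⟨a, f', b, e⟩ e' => ⟨a.congr e', f', b, fun x hx => e' x hx ▸ e x hx⟩
      cj := fun {P s} hP hs => ⟨M.cj F (hP.trans hq.hom.pre_le) hs.1, _, M.cj E' (img_le_iff.2 fun x hx => (hP hx).2) hs.2,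
        fun x hx => (hq.hom.map_conj hs.1 (hP hx).1).symm⟩
      comp := fun ⟨a, f', b, e⟩ ⟨a', g', b', e'⟩ k => ⟨a.comp a' k, g' * f', b.comp b' fun y hy => by
        obtain ⟨x, hx, rfl⟩ := (hq.hom.mono a.le).mem_img.1 hy
        exact e x hx ▸ mem_img_of_mem (k x hx), fun x hx => by rw [ma, ma, e x hx, e' _ (k x hx)]⟩
      inv := fun ⟨a, f', b, e⟩ hi => ⟨a.inv hi.mem, f'⁻¹, b.inv (hiso_of_induced hq.hom a.le hi b.hom e).mem, fun y hy => by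
        rw [Perm.inv_eq_iff_eq, e _ (hi.inv_mem hy), ai]⟩ }
  exact ⟨ofPred hr, fun _ _ => M_ofPred hr⟩

variable [Fact p.Prime]

theorem IsQuo.lift_cop (hq : IsQuo F t F') (hf : Iso F' P' P' f') (hc : (orderOf (res P' f')).Coprime p) :
    ∃ f, Iso F (hq.hom.pre P') (hq.hom.pre P') f ∧ (orderOf (res (hq.hom.pre P') f)).Coprime p ∧
      ∀ x ∈ hq.hom.pre P', f' (t x) = t (f x) := by
  obtain ⟨f, a1, a2⟩ := hq.lift_iso hf
  haveI := finite_mulAut a1.le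
  obtain ⟨n, b1, b2⟩ := exists_pow_cop (isOfFinOrder_of_finite (res (hq.hom.pre P') f)) hc
  refine ⟨f ^ n, a1.pow n, by rwa [a1.hiso.res_pow], fun x hx => ?_⟩
  rw [← ind_pow a1.hiso a2 n x hx, ((hf.hiso.pow n).res_eq_res_iff hf.hiso).1 (by rwa [hf.hiso.res_pow]) _ hx.2]

variable (hS : IsPGroup p S) (hF : F.IsSaturated p) (hq : IsQuo F t F') (hZ : F.IsCentral (hq.hom.pre ⊥))
include hS hF hZ

theorem IsQuo.inner_of_ind (hQ : F.IsFullyNormalized Q) (hf : Iso F Q Q f) (e : ∀ x ∈ Q, t (f x) = t x) :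
    ∃ s ∈ S, ∀ x ∈ Q, f x = s * x * s⁻¹ :=
  hf.hiso.res_mem_autInducedBy.1 ((sat_syl hS hF hQ).pCoreOf_le (mem_pCore_of_central hS hZ hf fun x hx =>
    (hq.hom.inv_mul_mem_ker (hQ.1 hx) (hf.map.mem hx)).2 (e x hx).symm))

theorem IsQuo.ext_bp {E' : FusionSystem T'} (hE : E'.IsNormalIn F' p) (hQ : F.IsFullyNormalized Q) (h0 : hq.hom.pre ⊥ ≤ Q)
    (hc : TC F' T' (img t Q)) (hf : Iso F Q Q f) (hp : (orderOf (res Q f)).Coprime p) (hf' : M E' (img t Q) f')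
    (e : ∀ x ∈ Q, f' (t x) = t (f x)) (hQR : Q ≤ R) (hR : R ≤ normalizerIn S Q)
    (h4 : ∀ s ∈ R, ∃ u ∈ R, ∀ x ∈ Q, f (s * x * s⁻¹) = u * f x * u⁻¹) :
    ∃ R₁ g g', R ≤ R₁ ∧ Iso F R₁ R₁ g ∧ (∀ x ∈ Q, g x = f x) ∧ (orderOf (res R₁ g)).Coprime p ∧
      Bp F' T' (fam1 E') (img t R₁) g' ∧ ∀ x ∈ R₁, g' (t x) = t (g x) := by
  haveI := hq.finite
  have hS' := hq.isPGroup hS
  have hF' := hE.1.2.1
  have h := fam_one hE.1
  have hRS := hR.trans normalizerIn_le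
  have a0 := hq.hom.pre_img_of_le hQ.1 h0
  have a1 : F'.IsFullyNormalized (img t Q) := (hq.fn_pre_iff (hq.img_le hQ.1)).1 (a0.symm ▸ hQ)
  have a2 := hiso_of_induced hq.hom hQ.1 hf.hiso hf'.hom e
  have a3 := coprime_ind (hq.hom.mono hQ.1) hf.hiso a2 e hp
  have a4 : img t R ≤ normalizerIn S' (img t Q) := img_le_iff.2 fun s hs =>
    ⟨hq.mem s (hRS hs), hq.hom.mem_normalizer_img hQ.1 (hR hs)⟩
  obtain ⟨g', b1, b2, -⟩ := h.up_of_ext hS' hF' a1 hc (R := img t R ⊔ centralizerIn S' (img t Q)) ((img_mono hQR).trans le_sup_left)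
    (sup_le a4 centralizerIn_le_normalizerIn) le_sup_right (hb_of_normal hS' hF' hE hc (hf'.iso_of a2) a3) a3 fun s₀ hs₀ => by
      obtain ⟨_, hs', c, hc', rfl⟩ := (mem_sup_centralizerIn' a4).1 hs₀
      obtain ⟨s, hs, rfl⟩ := (hq.hom.mono hRS).mem_img.1 hs'
      obtain ⟨u, hu, d⟩ := h4 s hs
      refine ⟨t u, Subgroup.mem_sup_left (mem_img_of_mem hu), fun y hy => ?_⟩
      rw [show t s * c * y * (t s * c)⁻¹ = t s * (c * y * c⁻¹) * (t s)⁻¹ by group, ← hc'.2 y hy, mul_inv_cancel_right]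
      obtain ⟨x, hx, rfl⟩ := (hq.hom.mono hQ.1).mem_img.1 hy
      rw [← hq.hom.map_conj (hRS hs) (hQ.1 hx), e _ (conj_mem_of_normalizer (hR hs).2 hx), d x hx, e x hx,
        hq.hom.map_conj (hRS hu) (hf.map.mem hx)]
  have b3 : R ≤ hq.hom.pre (img t R ⊔ centralizerIn S' (img t Q)) := fun x hx => ⟨hRS hx, Subgroup.mem_sup_left (mem_img_of_mem hx)⟩
  have b0 : centralizerIn S' (img t Q) ≤ img t R ⊔ centralizerIn S' (img t Q) := le_sup_right
  generalize img t R ⊔ centralizerIn S' (img t Q) = R' at b1 b3 b0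
  obtain ⟨g₀, c1, c2⟩ := hq.lift_iso b1.iso
  have c3 : HIso Q Q g₀ := by
    haveI := finite_of_le hQ.1
    exact (c1.hom.mono (hQR.trans b3)).hiso_self fun x hx => a0.le ⟨c1.map.mem (b3 (hQR hx)), by
      rw [← c2 x (b3 (hQR hx)), b2 _ (mem_img_of_mem hx)]; exact a2.map_mem (mem_img_of_mem hx)⟩
  obtain ⟨c, c4, c5⟩ := hq.inner_of_ind hS hF hZ hQ (hf.trans (c1.map.iso_of_le (hQR.trans b3) c3).symm) fun x hx => g'.injective (by
    rw [ma, c2 _ (b3 (hQR (c3.inv_mem (hf.map_mem hx)))), ai, b2 _ (mem_img_of_mem hx), e x hx])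
  have c6 : t c ∈ R' := b0 ⟨hq.mem c c4, fun y hy => by
    obtain ⟨x, hx, rfl⟩ := (hq.hom.mono hQ.1).mem_img.1 hy
    rw [eq_comm, ← mul_inv_eq_iff_eq_mul, ← hq.hom.map_conj c4 (hQ.1 hx), ← c5 x hx]
    exact g'.injective (by rw [ma, c2 _ (b3 (hQR (c3.inv_mem (hf.map_mem hx)))), ai, b2 _ (mem_img_of_mem hx), e x hx])⟩
  have d1 := (Iso.cj F c1.le (le_normalizerIn c1.le ⟨c4, c6⟩)).trans c1
  have d2 : ∀ x ∈ Q, (g₀ * cj c) x = f x := fun x hx => by rw [ma, cj_apply, ← c5 x hx, ma, ai]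
  have d3 := hf.hiso.congr fun x hx => (d2 x hx).symm
  obtain ⟨n, d4, d5⟩ := exists_pow_p' d1 d3 (by rwa [d3.res_congr d2])
  have d6 := (Iso.cj F' b1.iso.le (le_normalizerIn b1.iso.le c6)).trans b1.iso
  have d7 := ind_pow (f' := g' * cj (t c)) d1.hiso (fun x hx => by
    rw [ma, ma, cj_apply, cj_apply, ← hq.hom.map_conj c4 hx.1, c2 _ (mul_mem (mul_mem ⟨c4, c6⟩ hx) (inv_mem ⟨c4, c6⟩))]) n
  have d8 := hq.img_pre b1.iso.le
  refine ⟨_, _, _, b3, d1.pow n, fun x hx => (d4 x hx).trans (d2 x hx), d5, ?_, d7⟩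
  have d9 := coprime_ind (hq.hom.mono c1.le) (d1.pow n).hiso (d8.symm ▸ (d6.pow n).hiso) d7 d5
  rw [d8] at d9 ⊢
  refine bp_of_yp d6.le ⟨(d6.pow n).hiso, mem_of_coprime_of_sup (isPGroup_autInducedBy hS' R')
    ((autInducedBy_le_autGroup F' d6.le le_rfl).trans (h.le_normalizer_bpGrp d6.le)) ?_ d9⟩
  rw [d6.hiso.res_pow, b1.iso.hiso.res_mul (hiso_cj_of_normalizer (Subgroup.le_normalizer c6))]
  exact pow_mem (mul_mem (Subgroup.mem_sup_right b1.res_mem) (Subgroup.mem_sup_left (res_cj_mem (d6.le c6) (Subgroup.le_normalizer c6)))) n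

theorem IsQuo.exists_pre {E' : FusionSystem T'} (hE : E'.IsNormalIn F' p) :
    ∃ D : FusionSystem (hq.hom.pre T'), D.IsWeaklyNormalIn F p ∧ IsMor D t E' := by
  haveI := hq.finite
  have hS' := hq.isPGroup hS
  have hi := hE.1.2.2
  haveI := inv_finite hi
  have hT := hq.sc_pre hi.2.1
  obtain ⟨E, hE₁⟩ := hq.exists_full hi
  have hT0 := hq.img_pre (inv_le hi)
  have hT1 : ∀ {x}, x ∈ hq.hom.pre T' ↔ x ∈ S ∧ t x ∈ T' := Iff.rfl
  have hT2 : ∀ {P'}, P' ≤ T' → hq.hom.pre P' ≤ hq.hom.pre T' := hq.hom.pre_mono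
  have hT3 : ∀ a', Iso F' T' T' a' → ∃ a, Iso F (hq.hom.pre T') (hq.hom.pre T') a ∧ ∀ x ∈ hq.hom.pre T', a' (t x) = t (a x) :=
    fun _ => hq.lift_iso
  generalize hq.hom.pre T' = T at E hE₁ hT hT0 hT1 hT2 hT3 ⊢
  haveI := finite_of_le hT.1
  have hT' := hS.to_le hT.1
  have e1 : E.IsInvariantIn F := inv_of_strong hS hF hT (sub_iff_M.2 fun P f hf => ((hE₁ P f).1 hf).1)
    fun P P₁ Q f g a1 a2 a3 a4 a5 a6 => by
      obtain ⟨b1, f', b2, b3⟩ := (hE₁ P f).1 a1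
      obtain ⟨g', b4, b5⟩ := hq.mor Q g a5
      have b6 := a5.iso_of_le a2 a6
      refine (hE₁ _ _).2 ⟨by rw [mul_assoc]; exact (b6.symm.map.comp b1 fun _ => b6.inv_mem).comp a5 fun x hx => a3 _ (b6.inv_mem hx),
        _, inv_strong hi b2 (img_mono a2) (fun y hy => ?_) (img_le_iff.2 fun x hx => (hT1.1 (a4 hx)).2) b4
          (hiso_of_induced hq.hom b1.le a6 (b4.hom.mono (img_mono a2)) fun x hx => b5 x (a2 hx)), fun y hy => ?_⟩
      · obtain ⟨x, hx, rfl⟩ := (hq.hom.mono b1.le).mem_img.1 hy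
        exact b3 x hx ▸ mem_img_of_mem (a3 x hx)
      · obtain ⟨x, hx, rfl⟩ := a6.surj hy
        simp only [ma, ia, ← b5 x (a2 hx), b3 x hx, b5 _ (a3 x hx)]
  let ℋ : Subgroup Ω → Prop := fun P => hq.hom.pre ⊥ ≤ P ∧ P ≤ T ∧ TC F' T' (img t P)
  have hZ' := normal_sc (central_normal hZ)
  have k0 : ∀ {P Q f}, hq.hom.pre ⊥ ≤ P → Iso F P Q f → hq.hom.pre ⊥ ≤ Q := fun a1 a2 x hx =>
    central_fix hZ a2.map (a1 hx) hx ▸ a2.map_mem (a1 hx)
  have k1 : ∀ P Q f, ℋ P → Iso F P Q f → ℋ Q := fun P Q f hP hf =>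
    let ⟨_, a, _⟩ := hq.iso hf; ⟨k0 hP.1 hf, sc_le_of_iso hT hf hP.2.1, hP.2.2.iso hi.2.1 a⟩
  have k2 : ∀ P Q, ℋ P → P ≤ Q → Q ≤ T → ℋ Q := fun P Q hP a1 a2 => ⟨hP.1.trans a1, a2, hP.2.2.mono (img_mono a1) (hT0 ▸ img_mono a2)⟩
  have k3 : ∀ {P x}, ℋ P → x ∈ T → (∀ y ∈ P, t y * t x = t x * t y) → x ∈ P := fun {P x} hP hx e =>
    (hq.hom.mem_img_iff (hP.2.1.trans hT.1) hP.1 (hT.1 hx)).1 (hP.2.2.self (inv_le hi) ⟨(hT1.1 hx).2, fun y hy => by
      obtain ⟨z, hz, rfl⟩ := (hq.hom.mono (hP.2.1.trans hT.1)).mem_img.1 hy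
      exact e z hz⟩)
  obtain ⟨D, hD₁, hg⟩ := exists_gen E le_rfl (𝒢 := fun P b => ℋ P ∧ Iso E P P b ∧ (orderOf (res P b)).Coprime p)
    fun P k hk => ⟨hk.2.1.map, hk.1.2.1, fun x hx => hk.2.1.map.mem hx⟩
  have hD := sub_trans hD₁ e1.1
  have l1 : ∀ P' f', M E' P' f' → ∃ f, M D (hq.hom.pre P') f ∧ ∀ x ∈ hq.hom.pre P', f' (t x) = t (f x) := fun P' f' hf =>
    alperin_cop (hS'.to_le (inv_le hi)) hE.1.1 (C := fun P' f' => ∃ f, M D (hq.hom.pre P') f ∧ ∀ x ∈ hq.hom.pre P', f' (t x) = t (f x))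
      (fun _ _ _ _ _ ⟨f, a1, a2⟩ a3 a4 => ⟨f, a1.mono (hq.hom.pre_mono a3), fun x hx => a4 _ hx.2 ▸ a2 x ⟨hx.1, a3 hx.2⟩⟩)
      (fun _ _ _ _ _ _ ⟨f, a1, a2⟩ ⟨g, a3, a4⟩ a5 =>
        have a6 := fun x (hx : x ∈ hq.hom.pre _) => (⟨hT.1 (a1.mem hx), a2 x hx ▸ a5 _ hx.2⟩ : f x ∈ hq.hom.pre _)
        ⟨g * f, a1.comp a3 a6, fun x hx => by rw [ma, ma, a2 x hx, a4 _ (a6 x hx)]⟩)
      (fun s' hs' => by
        obtain ⟨s, hs, rfl⟩ := hq.exists_eq (inv_le hi hs')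
        exact ⟨_, M.cj D (hT2 le_rfl) (hT1.2 ⟨hs, hs'⟩), fun x hx => (hq.hom.map_conj hs hx.1).symm⟩)
      (fun R' a' a1 a2 a3 => by
        obtain ⟨a, b1, b2, b3⟩ := hq.lift_cop (a2.of_sub hi.1) a3
        have b4 := hq.img_pre (a2.le.trans (inv_le hi))
        exact ⟨a, hg.mem _ _ ⟨⟨hq.hom.ker_le_pre, hT2 a2.le, b4.symm ▸ (tc_iff hi).2 (cr_of_alperin (hS'.to_le (inv_le hi)) hE.1.1 a1).1⟩,
          M.iso_of ((hE₁ _ _).2 ⟨b1.map, a', b4.symm ▸ a2.map, b3⟩) b1.hiso, b2⟩, b3⟩) hf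
  have l2 : ∀ P P' f a, M D P f → Iso F T T a → HIso P P' a → M D P' (a * f * a⁻¹) := fun P P' f a hf ha hP =>
    hg.conj ha.hom (fun _ => ha.map_mem) (fun P k P' hk hi => hg.mem _ _ ⟨k1 _ _ _ hk.1 (ha.map.iso_of_le hk.1.2.1 hi),
      inv_aut_conj e1 hk.1.2.1 hk.2.1 (ha.map.iso_of_le hk.1.2.1 hi), coprime_conj hi hk.2.1.hiso hk.2.2⟩) hf hP
  have h2 : D.IsInvariantIn F := by
    obtain ⟨A, hA⟩ := exists_autProd (D := D) (Γ := F.autGroup T) fun P P' f a hf ha => l2 P P' f _ hf (iso_ex hT.1 ha)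
    have a1 : ∀ a, Iso F T T a → M A T a := fun a ha => (hA _ _).2 ⟨_, ha.res_mem, (M.one D le_rfl).congr fun x hx => by
      rw [ma, ← ha.hiso.ex_res hx, ia, Perm.one_apply]⟩
    have a2 : ∀ {P f}, M D P f → M A P f := fun hf => (hA _ _).2 ⟨1, one_mem _, by simpa using hf⟩
    have a0 : ∀ {P f}, M A P f → M F P f := fun hf => by
      obtain ⟨a, ha, h4⟩ := (hA _ _).1 hf
      exact ((h4.of_sub hD).comp (iso_ex hT.1 ha).map fun _ => h4.mem).congr fun x _ => by simp only [ma, ai]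
    have a3 : ∀ {P Q f}, hq.hom.pre ⊥ ≤ P → P ≤ T → Iso F P Q f → ∃ g, Iso A P Q g ∧ ∀ x ∈ P, t (g x) = t (f x) := fun {P Q f} b1 b2 b3 => by
      obtain ⟨f', c1, c2⟩ := hq.mor P f b3.map
      obtain ⟨a', f₀', c3, c4, c5⟩ := inv_frattini hi (hT0 ▸ img_mono b2) c1
      obtain ⟨a, c6, c7⟩ := hT3 a' c3
      obtain ⟨d, c8, c9⟩ := l1 _ _ c4
      rw [hq.hom.pre_img_of_le b3.le b1] at c8 c9
      have d1 := (a2 c8).comp (a1 a c6) fun _ => c8.mem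
      have d2 : ∀ x ∈ P, t ((a * d) x) = t (f x) := fun x hx => by
        rw [ma, ← c7 _ (c8.mem hx), ← c9 x hx, ← c5 _ (mem_img_of_mem hx), c2 x hx]
      exact ⟨_, d1.iso_of_card (sc_le_of_iso hT b3 b2) (fun x hx => (hq.hom.mem_img_iff b3.le' (k0 b1 b3) (hT.1 (d1.mem hx))).1
        (d2 x hx ▸ mem_img_of_mem (b3.map_mem hx))) b3.card_eq.ge, d2⟩
    refine isInvariantIn_iff.2 ⟨hD, hT, l2, fun P hP f hf => ?_⟩
    obtain ⟨g, b1, b2, -⟩ := central_ext hZ hf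
    obtain ⟨P₂, b3⟩ := b1.exists_iso
    have b4 : P ⊔ hq.hom.pre ⊥ ≤ T := sup_le hP (hT2 bot_le)
    obtain ⟨Q, φ₀, b5, b6⟩ := exists_fullyNormalized F b3.le
    obtain ⟨φ, c1, -⟩ := a3 le_sup_right b4 b5
    obtain ⟨ψ, c2, c3⟩ := a3 le_sup_right b4 b3
    have c4 := (a0 c1.map).iso_of c1.hiso
    have c5 := (a0 c2.map).iso_of c2.hiso
    have c6 := b3.trans c5.symm
    have c7 : Triv (hq.hom.pre ⊥) (P ⊔ hq.hom.pre ⊥) (ψ⁻¹ * g) := fun x hx => by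
      refine (sc_mem_iff hZ' c5.map (mul_mem (inv_mem hx) (c6.map_mem hx))).1 ?_
      rw [c5.hom.map_inv_mul hx (c6.map_mem hx), ma, ai, hq.hom.inv_mul_mem_ker (c5.map.mem hx) (b1.mem hx), c3 x hx]
    obtain ⟨s, d1, d2⟩ := (c4.conj c6).hiso.res_mem_autInducedBy.1 ((sat_syl hS hF b6).pCoreOf_le (mem_pCore_of_central hS hZ (c4.conj c6)
      (c7.conj hZ' c6.hiso c4)))
    have d3 := ((a1 _ (Iso.cj F hT.1 ⟨d1, sc_le_normalizer hT d1⟩)).mono c1.le').iso_of ((c4.conj c6).hiso.congr d2)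
    obtain ⟨a, ha, h4⟩ := (hA P f).1 (((((c1.trans d3).trans c1.symm).trans c2).map.mono le_sup_left).congr fun x hx => by
      have := d2 _ (c1.map_mem (Subgroup.mem_sup_left hx))
      simp only [ma, ia, ai, cj_apply] at this ⊢
      rw [← this, ia, ai, b2 x hx])
    exact ⟨_, _, iso_ex hT.1 ha, h4, fun x _ => by simp only [ma, ai]⟩
  have h1 : ∀ P, ℋ P → pResidualOf p (E.autGroup P) ≤ D.autGroup P := fun P hP =>
    H26.pResidualOf_le_iff.2 fun α hα hc => (mem_autGroup hP.2.1).2 (hg.mem _ _ ⟨hP, iso_ex hP.2.1 hα, by rwa [res_ex]⟩)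
  have m1 : ∀ {P Q f} (hf : Iso F P Q f), P ≤ T → (E.autGroup P).map hf.hiso.tr.toMonoidHom = E.autGroup Q := fun hf hP =>
    le_antisymm (by rintro _ ⟨α, hα, rfl⟩; exact inv_tr_mem e1 hP hf hα) fun β hβ =>
      ⟨_, inv_tr_mem e1 (sc_le_of_iso hT hf hP) hf.symm hβ, hf.hiso.tr.apply_symm_apply β⟩
  have m2 : ∀ {Q R b}, F.IsFullyNormalized Q → ℋ Q → Iso E Q Q b → (orderOf (res Q b)).Coprime p → Q ≤ R → R ≤ normalizerIn S Q →
      (∀ s ∈ R, ∃ u ∈ R, ∀ x ∈ Q, b (s * x * s⁻¹) = u * b x * u⁻¹) → ∃ R₁ g, R ≤ R₁ ∧ Iso F R₁ R₁ g ∧ (∀ x ∈ Q, g x = b x) ∧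
        (orderOf (res R₁ g)).Coprime p ∧ Triv T R₁ g ∧ M E (R₁ ⊓ T) g := fun a1 a2 a3 a4 a5 a6 a7 => by
    obtain ⟨b1, b', b2, b3⟩ := (hE₁ _ _).1 a3.map
    obtain ⟨R₁, g, g', c1, c2, c3, c4, c5, c6⟩ := hq.ext_bp hS hF hZ hE a1 a2.1 a2.2.2 (a3.of_sub e1.1) a4 b2 b3 a5 a6 a7
    refine ⟨R₁, g, c1, c2, c3, c4, fun x hx => hT1.2 ⟨c2.le (mul_mem (inv_mem hx) (c2.map_mem hx)), ?_⟩, (hE₁ _ _).2
      ⟨c2.map.mono inf_le_left, g', (c5.mem T' E' (Same.refl E')).mono (le_inf (img_mono inf_le_left) (hT0 ▸ img_mono inf_le_right)),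
        fun x hx => c6 x hx.1⟩⟩
    rw [hq.hom.map_inv_mul (c2.le hx) (c2.map.mem hx), ← c6 x hx]
    exact c5.triv _ (mem_img_of_mem hx)
  have h3 := gm hT' (F := D) (ℋ := ℋ) (L := fun P => pResidualOf p (E.autGroup P)) (fun _ hP => hP.2.1)
    (fun _ _ _ hP hf => k1 _ _ _ hP (hf.of_sub hD)) k2 h1
    (fun A hA => hg.le A fun P k hk => (hA P hk.1 _ (H26.mem_pResidualOf hk.2.1.res_mem hk.2.2)).congr
      fun _ hx => hk.2.1.hiso.ex_res hx)
    (fun P Q f _ hf a ha => conj_mem_yp hf.hiso (fun α hα => by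
      rw [← map_tr_res hf.hiso (m1 (hf.of_sub hD) hf.le)]; exact ⟨α, hα, rfl⟩) ha)
    (fun P R b hP a1 a2 hb hi hc => ⟨hi, H26.mem_pResidualOf ((iso_of_yp (a2.trans normalizerIn_le)
      (yp_mono (H26.pResidualOf_le _) hb)).map.iso_of_le a1.le hi).res_mem (coprime_res hb.1 hi a1.le hc)⟩) fun P hP => by
      obtain ⟨Q₀, f, a1, a2⟩ := exists_fullyNormalized F (hP.2.1.trans hT.1)
      obtain ⟨a, f₀, a3, a4, a5⟩ := inv_frattini h2 hP.2.1 a1.map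
      obtain ⟨Q, a6⟩ := a4.exists_iso
      have a7 : Iso F Q₀ Q a⁻¹ := (a1.symm.trans (a6.of_sub hD)).congr fun y hy => by
        obtain ⟨x, hx, rfl⟩ := a1.surj hy
        rw [ma, ia, a5 x hx, ia]
      have a8 := k1 _ _ _ hP a1
      refine ⟨Q, f₀, a6, isFullyNormalized_iff.2 ⟨a6.le', fun Q' g hg => (card_normalizerIn_le hS hF hT a2
        ((hg.of_sub hD).symm.trans a7.symm)).trans (a3.hiso.symm.card_normalizerIn_le hT.1 a7.hiso a8.2.1)⟩, ?_,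
        fun R b b1 _ b3 b4 b5 b6 => ?_⟩
      · haveI := finite_mulAut a2.1
        rw [← map_tr_res a7.hiso (m1 a7 a8.2.1)]
        refine isSyl_of_map _ ?_ (fun _ => a3.hiso.symm.tr_autInducedBy a7.hiso a8.2.1) (isPGroup_autInducedBy hT' Q)
        have b1 := autGroup_mono e1.1 Q₀
        have b2 := inv_le_normalizer e1 a8.2.1
        have b3 := (sat_syl hS hF a2).inf_of_le ((H26.pResidualOf_le (p := p) _).trans b1) (H26.le_normalizer_pResidualOf' b2)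
        have b4 := syl_inf_res_le ((sat_syl hS hF a2).inf_of_le b1 b2) (K := autInducedBy T Q₀) fun X hX α hα hc x hx => by
          have h1 : ∀ ξ ∈ X ⊔ Inn Q₀, α * ξ * α⁻¹ ∈ X ⊔ Inn Q₀ := fun ξ => conj_mem_of_normalizer (H26.le_normalizer_sup
            normalizerIn_le_normalizer (le_normalizer_Inn _) hα)
          have h2 : X ⊔ Inn Q₀ ≤ autInducedBy S Q₀ := sup_le (hX.trans inf_le_left) (Inn_le_autInducedBy a2.1)
          obtain ⟨R₁, g, c0, c1, c2, -, c3, -⟩ := m2 (R := nK S Q₀ (X ⊔ Inn Q₀)) a2 a8 (iso_ex a8.2.1 hα.1) (by rwa [res_ex])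
            (le_nK a2.1 le_sup_right) nK_le fun s hs => by
              obtain ⟨t, ht, d⟩ := mem_autInducedBy'.1 (h2 (h1 _ hs.2))
              obtain ⟨u, hu, e⟩ := conj_of_res_mem (K := nK S Q₀ (X ⊔ Inn Q₀)) (hiso_ex α) hs.1.2
                (by rw [res_ex, ← d]; exact res_cj_mem ⟨ht, d ▸ h1 _ hs.2⟩ ht.2)
              exact ⟨u, hu.1, e⟩
          obtain ⟨s, hs, rfl⟩ := mem_autInducedBy'.1 (hX hx).1
          have h3 := c0 (⟨hs, Subgroup.mem_sup_left hx⟩ : s ∈ nK S Q₀ (X ⊔ Inn Q₀))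
          have h4 := c1.map.mem_nK_of ((le_nK a2.1 le_sup_right).trans c0) c2 h3 hs.2
          rw [← h4.2, ← res_cj_inv hs.2, ← res_cj_mul (inv_mem hs.2) h4.1.2]
          exact res_cj_mem (c3 s h3) (mul_mem (inv_mem hs.2) h4.1.2)
        rwa [le_antisymm (inf_le_inf_right _ (autInducedBy_mono hT.1)) (le_inf (le_trans (le_inf (inf_le_inf_left _
          (H26.pResidualOf_le _)) inf_le_right) b4) inf_le_right)]
      · obtain ⟨R₀, b7, b8⟩ := a3.restrict (b3.trans normalizerIn_le)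
        have c0 : Iso F Q Q₀ a := by simpa using a7.symm
        have c1 := iso_of_yp a6.le' (yp_mono (H26.pResidualOf_le _) b4)
        have c2 := (c0.hiso.le_iff b8.hiso).2 b1
        have c3 : R₀ ≤ normalizerIn S Q₀ := fun y hy => by
          obtain ⟨x, hx, rfl⟩ := b8.surj hy
          exact b8.map.mem_normalizerIn c0.hiso b1 hx (b3 hx).2
        have c4 := inv_aut_conj e1 a6.le' c1 c0
        have c5 : ∀ s ∈ R₀, ∃ u ∈ R₀, ∀ x ∈ Q₀, (a * b * a⁻¹) (s * x * s⁻¹) = u * (a * b * a⁻¹) x * u⁻¹ := fun y hy => by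
          obtain ⟨s, hs, rfl⟩ := b8.surj hy
          obtain ⟨u, hu, e⟩ := b6 s hs
          refine ⟨a u, b8.map_mem hu, fun y hy => ?_⟩
          obtain ⟨x, hx, rfl⟩ := c0.surj hy
          rw [← b8.hom.map_conj hs (b1 hx)]
          simp only [ma, ia, e x hx, b8.hom.map_conj hu (b1 (c1.map_mem hx))]
        obtain ⟨R₁, g, d0, d1, d2, d3, d4, d5⟩ := m2 a2 a8 c4 (coprime_conj c0.hiso c1.hiso b5) c2 c3 c5
        have d6 := (d5.mono (le_inf d0 b7)).iso_self fun s hs => by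
          obtain ⟨u, hu, e⟩ := c5 s hs
          have e1 := d1.map.inv_mul_mem_centralizerIn (c4.hiso.congr fun x hx => (d2 x hx).symm) (c2.trans d0) (d0 hs) (c3 hu).1
            fun x hx => by rw [d2 _ (conj_mem_of_normalizer (c3 hs).2 hx), d2 x hx, e x hx]
          have e2 : u⁻¹ * g s ∈ T := mul_mem (inv_mem (b7 hu)) (sc_mem hT d1.map (d0 hs) (b7 hs))
          simpa using mul_mem hu (c2 (k3 a8 e2 fun y hy => by
            rw [← hq.hom _ (a2.1 hy) _ e1.1, e1.2 y hy, hq.hom _ e1.1 _ (a2.1 hy)]))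
        exact ⟨_, l2 _ _ _ _ (hg.mem _ _ ⟨k2 _ _ a8 c2 b7, d6, coprime_res d1.hiso d6.hiso d0 d3⟩) a3.symm b8.hiso.symm,
          fun x hx => by simp only [ma, inv_inv, d2 _ (c0.map_mem hx), ia]⟩
  refine ⟨D, ⟨sat_of_family hT' (ℋ := ℋ) (fun _ _ _ hP hf => k1 _ _ _ hP (hf.of_sub hD)) (fun P hP => (h3 P hP).1)
    (fun A hA => hg.le A fun P k hk => hA P k hk.1 (hg.mem _ _ hk)) fun P hP hn => ?_, hF, h2⟩, hq.hom.mono hT.1,
    fun _ hs => (hT1.1 hs).2, fun P f hf => ((hE₁ P f).1 (hf.of_sub hD₁)).2⟩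
  have a0 : hq.hom.pre ⊥ ≤ P := fun x hx => centric_self hP ⟨hT2 bot_le hx, fun y hy =>
    (center_le_centralizerIn F (le_center hZ hx)).2 y (hT.1 (hP.1 hy))⟩
  obtain ⟨Q', f', a1, a2⟩ := exists_fullyCentralized E' (P := img t P) (hT0 ▸ img_mono hP.1)
  obtain ⟨f, a3, a4⟩ := l1 _ _ a1.map
  rw [hq.hom.pre_img_of_le (hP.1.trans hT.1) a0] at a3 a4
  obtain ⟨Q, a5⟩ := a3.exists_iso
  obtain rfl := (hiso_of_induced hq.hom (hP.1.trans hT.1) a5.hiso a1.hom a4).unique a1.hiso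
  refine ⟨Q, f, a5, fun h => hn ⟨a0, hP.1, (tc_iff hi).2 (centric_iso (centric_of_fc a2 fun c' hc' => ?_) a1.symm)⟩⟩
  obtain ⟨c, hc, rfl⟩ := hq.exists_eq (inv_le hi hc'.1)
  have b0 := a5.le'.trans hT.1
  have b1 : Triv (hq.hom.pre ⊥) Q (cj c) := fun x hx => (hq.hom.inv_mul_mem_ker (b0 hx) ((M.cj F b0 hc).mem hx)).2 (by
    rw [cj_apply, hq.hom.map_conj hc (b0 hx), ← hc'.2 _ (mem_img_of_mem hx), mul_inv_cancel_right])
  haveI := finite_of_le b0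
  have b2 : c ∈ normalizerIn T Q := ⟨hT1.2 ⟨hc, hc'.1⟩, mem_normalizer_of_conj_mem fun x hx => by
    simpa using mul_mem hx (k0 a0 (a5.of_sub hD) (b1 x hx))⟩
  have b3 := Iso.cj D a5.le' b2
  exact mem_img_of_mem (mem_of_res_cj_mem_Inn (centric_le hP a5) a5.le' b2 (h ⟨res_cj_mem b2.1 b2.2,
    H26.inf_pCoreOf_le (autGroup_mono hD Q) ⟨b3.res_mem, mem_pCore_of_central hS hZ (b3.of_sub hD) b1⟩⟩))

omit hq hZ

omit hF in
theorem constrained_inner : (innerFusionSystem S).IsConstrained p :=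
  ⟨sat_inner hS, S, normal_inner le_rfl Subgroup.le_normalizer, centric_top _⟩

theorem constrained_of_NK {C : FusionSystem V} (hC : IsNK F Q ⊥ C) (hQ : F.IsNormal Q) (h : C.IsConstrained p) : F.IsConstrained p := by
  haveI := hC.finite
  have a1 := le_core (normal_core_of_inv hS hF (hC.normalIn_bot hS hF hQ).1.2.2)
  exact (constrained_iff hS hF).2 fun x hx => a1 (centric_self (core_centric (hS.to_le hC.le_top) h)
    ⟨hC.eq_bot.ge (centralizerIn_mono (le_core hQ) hx), fun y hy => hx.2 y (a1 hy)⟩)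

theorem eq_inner_of_hyperfocal_le (h : F.hyperfocalSubgroup p ≤ F.center) : F = innerFusionSystem S :=
  eq_inner_of_hyperfocal hS hF (eq_bot_iff.2 (hyperfocal_le_iff.2 fun P hP α hα hc x hx => by
    rw [fix_of_step hS hP hc hx (central_fix (central_center F) (iso_ex hP hα).map (mul_mem (inv_mem hx) (ex_mem α hx))
      (h (mem_hyperfocal hP (H26.mem_pResidualOf hα hc) hx))), inv_mul_cancel]
    exact one_mem _))

theorem qs_of_minimal (h : ¬ F.IsConstrained p)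
    (hm : ∀ (T : Subgroup Ω) (E : FusionSystem T), E.IsNormalIn F p → ¬ F.IsSubsystemOf E → E.IsConstrained p) : F.Quasisimple p := by
  obtain ⟨C, hC⟩ := exists_isNK_bot F (core_le F)
  have a1 : F.core ≤ F.center := le_center (central_of_cen (hC.cen.sub (not_not.1 fun a => h (constrained_of_NK hS hF hC (normal_core F)
    (hm _ C (hC.normalIn_bot hS hF (normal_core F)) a)))) (fun _ _ a _ => a) (core_le F))
  have a2 : ∀ (T : Subgroup Ω) (E : FusionSystem T), E.IsNormalIn F p → ¬ F.IsSubsystemOf E → T ≤ F.center := fun T E b1 b2 x hx => by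
    haveI := inv_finite b1.1.2.2
    have b3 := (le_core (normal_core_of_inv hS hF b1.1.2.2)).trans a1
    exact b3 (centric_self (core_centric (hS.to_le (inv_le b1.1.2.2)) (hm T E b1 b2))
      ⟨hx, fun y hy => ((center_le_centralizerIn F (b3 hy)).2 x (inv_le b1.1.2.2 hx)).symm⟩)
  obtain ⟨D, a3⟩ := exists_pres hS hF
  refine ⟨hF, le_antisymm (hyperfocal_le F) (le_of_sub (not_not.1 fun a => h ?_ : F.IsSubsystemOf D)), fun F' hF' => ?_⟩
  · rw [eq_inner_of_hyperfocal_le hS hF (a2 _ D (pres_normal' hS hF a3) a)]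
    exact constrained_inner hS
  have hq := isQuo_of_factor_normal (central_normal (central_center F)) hF'
  have hk : F.center = hq.hom.pre ⊥ := factor_ker hF'
  haveI := hq.finite
  refine ⟨hq.sat hS hF, fun a => h ((constrained_iff hS hF).2 (centralizerIn_le.trans (((img_eq_bot_iff hq.hom le_rfl).1
    (hq.surj.trans a)).trans (hk.ge.trans (center_le_core F))))), fun T' E' b1 => ?_⟩
  obtain ⟨A, b2, b3⟩ := hq.exists_pre hS hF (by rw [← hk]; exact central_center F) b1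
  haveI := inv_finite b2.2.2
  obtain ⟨A₁, b4, -⟩ := exists_pprime (hS.to_le (inv_le b2.2.2)) b2.1
  by_cases b5 : F.IsSubsystemOf A₁
  · have b6 : F'.IsSubsystemOf E' := sub_iff_M.2 fun P' f' hf => by
      obtain ⟨P, f, c1, c2, c3⟩ := hq.pull hf
      exact b3.M_of ((c1.of_sub b5).of_sub b4.2.1.1) c2.ge c3
    exact Or.inr ⟨le_antisymm le_top (le_of_sub b6), hom_eq_of_sub b1.1.2.2.1 b6⟩
  · exact Or.inl ((hq.img_pre le_top).symm.trans ((img_eq_bot_iff hq.hom hq.hom.pre_le).2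
      ((a2 _ A₁ (pprime_normal hS hF b2 b4) b5).trans hk.le)))

theorem exists_component (h : ¬ F.IsConstrained p) : ∃ (T : Subgroup Ω) (C : FusionSystem T), C.IsComponentIn F p := by
  induction hn : (graphs F).ncard using Nat.strong_induction_on generalizing S with
  | h n ih =>
  by_cases a : ∀ (T : Subgroup Ω) (E : FusionSystem T), E.IsNormalIn F p → ¬ F.IsSubsystemOf E → E.IsConstrained p
  · exact ⟨S, F, .refl F p, qs_of_minimal hS hF h a⟩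
  · push Not at a
    obtain ⟨T, E, a1, a2, a3⟩ := a
    haveI := inv_finite a1.1.2.2
    obtain ⟨U, C, b⟩ := ih _ (hn ▸ graphs_lt a1.1.2.2.1 a2) (hS.to_le (inv_le a1.1.2.2)) a1.1.1 a3 rfl
    exact ⟨U, C, b.1.step a1, b.2⟩

theorem constrained_iff_no_comp : F.IsConstrained p ↔ ¬ ∃ (T : Subgroup Ω) (C : FusionSystem T), C.IsComponentIn F p :=
  ⟨fun h ⟨_, _, hC⟩ => haveI := finite_of_le (subnormal_le hC.1)
    qs_not_constrained (hS.to_le (subnormal_le hC.1)) hC.2 (subnormal_constrained hS h hC.1),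
    fun h => not_not.1 fun a => h (exists_component hS hF a)⟩

end H28
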