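import Mathlib
import Cfsg.Agent.H28.Ctrl2
import Cfsg.Agent.H17.Constr

/-! Minimal non-nilpotent fusion systems for odd primes. -/

set_option autoImplicit false
set_option linter.unusedSectionVars false
set_option linter.style.haveILetI false

namespace H28
open Cfsg Cfsg.FusionSystem Equiv
open H26 (IsSyl)
open scoped commutatorElement MatrixGroups

universe u
variable {p : ℕ} [Fact p.Prime]

section Fam
open Subgroup
variable {G : Type*} [Group G] [Finite G]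

theorem family_normal (hst : H17.WeaklyStable p G) (hc : centralizer (pCore p G : Set G) ≤ pCore p G)
    (S : Sylow p G) (𝒜 : Set (Subgroup G)) (Z : Subgroup G) (hne : 𝒜.Nonempty)
    (h1 : ∀ A ∈ 𝒜, Z ≤ A ∧ A ≤ S ∧ IsMulCommutative A) (h2 : ∀ B ≤ (S : Subgroup G), (∀ A ∈ 𝒜, B ≤ A) → B ≤ Z)
    (hSZ : (S : Subgroup G) ≤ normalizer (Z : Set G))
    (hinv : ∀ Q ≤ (S : Subgroup G), ∀ A ∈ 𝒜, A ≤ Q → ∀ y ∈ normalizer (Q : Set G), ∀ z ∈ Z, y * z * y⁻¹ ∈ A)
    (hrep : ∀ B ≤ (S : Subgroup G), ⁅⁅B, B⁆, B⁆ = ⊥ → (∃ A ∈ 𝒜, ⁅B, B⁆ ≤ A ∧ ¬ B ≤ A) →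
      ∃ A ∈ 𝒜, ¬ B ≤ A ∧ B ≤ normalizer (A : Set G)) : Z.Normal := by
  obtain ⟨A₀, hA₀⟩ := hne
  have hZc : IsMulCommutative Z := ⟨⟨fun a b => Subtype.ext (show (a : G) * b = b * a from
    congrArg Subtype.val ((h1 A₀ hA₀).2.2.1.1 ⟨a, (h1 A₀ hA₀).1 a.2⟩ ⟨b, (h1 A₀ hA₀).1 b.2⟩))⟩⟩
  have key : ∀ (B : Subgroup G) [B.Normal], IsPGroup p B → (Z ⊓ B).Normal := by
    intro B
    induction B using WellFoundedLT.induction with
    | ind B ih =>
    intro hB hBp
    by_contra hnn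
    have hBS : B ≤ S := hBp.le_sylow_of_normal S
    have e1 : normalClosure ((Z ⊓ B : Subgroup G) : Set G) = B := by
      have hle : normalClosure ((Z ⊓ B : Subgroup G) : Set G) ≤ B :=
        normalClosure_le_normal (fun x hx => hx.2)
      by_contra hne
      have := ih _ (lt_of_le_of_ne hle hne) (hBp.to_le hle)
      rw [show Z ⊓ normalClosure ((Z ⊓ B : Subgroup G) : Set G) = Z ⊓ B from
        le_antisymm (inf_le_inf_left _ hle) (le_inf inf_le_left le_normalClosure)] at this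
      exact hnn this
    have hB1 : B ≠ ⊥ := by
      rintro rfl
      exact hnn (by rw [inf_bot_eq]; infer_instance)
    have : Group.IsNilpotent B := hBp.isNilpotent
    have hlt : ⁅B, B⁆ < B := H02.commutator_self_lt_of_isSolvable hB1
    have hW := ih _ hlt (hBp.to_le hlt.le)
    have h3 : ⁅Z ⊓ B, B⁆ ≤ Z ⊓ ⁅B, B⁆ :=
      le_inf ((commutator_mono inf_le_left hBS).trans (H01.commutator_le_left_of_le_normalizer hSZ))
        (commutator_mono inf_le_right le_rfl)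
    have h4 : ⁅B, B⁆ ≤ Z := by
      have hK : Z ⊓ B ≤ sectionKernel B (Z ⊓ ⁅B, B⁆) := by
        rw [sectionKernel, ← map_le_iff_le_comap, ← commutator_eq_bot_iff_le_centralizer,
          ← map_commutator, Subgroup.map_eq_bot_iff, QuotientGroup.ker_mk']
        exact h3
      have : (B.map (QuotientGroup.mk' (Z ⊓ ⁅B, B⁆))).Normal :=
        hB.map _ (QuotientGroup.mk'_surjective _)
      have : (sectionKernel B (Z ⊓ ⁅B, B⁆)).Normal := by unfold sectionKernel; infer_instance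
      have hK' : B ≤ sectionKernel B (Z ⊓ ⁅B, B⁆) := e1.ge.trans (normalClosure_le_normal hK)
      rw [sectionKernel, ← map_le_iff_le_comap, ← commutator_eq_bot_iff_le_centralizer,
        ← map_commutator, Subgroup.map_eq_bot_iff, QuotientGroup.ker_mk'] at hK'
      exact hK'.trans inf_le_left
    have h5 : ⁅⁅B, B⁆, B⁆ = ⊥ := by
      rw [commutator_comm, commutator_eq_bot_iff_le_centralizer]
      refine e1.ge.trans (normalClosure_le_normal fun x hx y hy => ?_)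
      exact congrArg Subtype.val (hZc.1.1 ⟨y, h4 hy⟩ ⟨x, hx.1⟩)
    set L := normalCore (normalizer ((Z ⊓ B : Subgroup G) : Set G)) with hL
    have hLN : L ≤ normalizer ((Z ⊓ B : Subgroup G) : Set G) := normalCore_le _
    have h7 : ∀ A : Subgroup G, A ≤ S → ⁅⁅B, A⁆, A⁆ = ⊥ → A ≤ L := by
      intro A hA hq
      refine (hst B hBp A (S.isPGroup'.to_le hA) hq).trans
        (normal_le_normalCore.2 ((H17.opMod_le_sup_sylow _ S).trans ?_))
      exact sup_le ((centralizer_le (fun x hx => hx.2)).trans (centralizer_le_normalizer _))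
        (H01.le_normalizer_inf hSZ le_normalizer_of_normal)
    have hSL : H26.IsSyl p ((S : Subgroup G) ⊓ L) L :=
      (H26.isSyl_top S).inf_of_le le_top le_normalizer_of_normal
    by_cases hall : ∀ A ∈ 𝒜, B ≤ A
    · exact hnn (by rw [inf_eq_right.2 (h2 B hBS hall)]; exact hB)
    push Not at hall
    obtain ⟨A, hA, hBA⟩ := hall
    obtain ⟨A', hA', hBA', hn⟩ := hrep B hBS h5 ⟨A, hA, h4.trans (h1 A hA).1, hBA⟩
    have hAL : A' ≤ L := h7 A' (h1 A' hA').2.1 (eq_bot_iff.2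
      ((commutator_mono (le_normalizer_iff_commutator_le_right.1 hn) le_rfl).trans
        (commutator_self_eq_bot_iff.2 (h1 A' hA').2.2).le))
    refine hBA' (e1.ge.trans (H17.normalClosure_le_of_conj fun g x hx => ?_))
    obtain ⟨y, hy, l, hl, rfl⟩ := hSL.frattini' (H := ⊤) le_normalizer_of_normal (mem_top g)
    have e2 := hinv _ inf_le_left A' hA' (le_inf (h1 A' hA').2.1 hAL) y hy _
      (H01.conj_mem_of_le_normalizer hLN hl hx).1
    simpa [mul_assoc] using e2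
  have e := H17.abelian_normal_le_pCore hc hst hZc (S.2.to_le ((h1 A₀ hA₀).1.trans (h1 A₀ hA₀).2.1))
    ((H02.pCore_le_sylow S).trans hSZ)
  have := key (pCore p G) (H02.pCore_isPGroup p G)
  rwa [inf_eq_left.2 e] at this

theorem not_sec_of_overgroups {G : Type u} [Group G] [Finite G] (hp : p ≠ 2) (P : Sylow p G)
    (hA : ∀ K : Subgroup G, (P : Subgroup G) ≤ K → K ≠ ⊤ → HasNormalPComplement p K)
    (hc : centralizer (pCore p G : Set G) ≤ pCore p G) : ¬ H17.Sec SL(2, ZMod p) G := by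
  refine (H03.minNPC_structure hp P hA ?_ (H17.pPrimeCore_eq_bot_of_centralizer_le hc)).2.2
  have hs := QuotientGroup.mk'_surjective (pCore p G)
  refine H03.hasNPC_of_zj hp (Or.inl rfl) (P.mapSurjective hs) ?_
  set Z := centerThompsonOf 0 ((P.mapSurjective hs : Sylow p _) : Subgroup (G ⧸ pCore p G)) with hZ
  have h0 : ((P.mapSurjective hs : Sylow p _) : Subgroup (G ⧸ pCore p G)) ≤ normalizer (Z : Set _) :=
    le_normalizer.trans (H17.normalizer_le_normalizer_centerThompsonOf 0 _)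
  by_cases h : (normalizer (Z : Set (G ⧸ pCore p G))).comap (QuotientGroup.mk' _) = ⊤
  · have : Z.Normal := H26.normal_of_top_le (by
      rw [← map_top_of_surjective _ hs, map_le_iff_le_comap, h])
    have h1 : Z = ⊥ := eq_bot_iff.2 (H26.pCore_quotient_pCore (G := G) (p := p) ▸
      H26.le_pCore ((P.mapSurjective hs).2.to_le (H17.centerThompsonOf_le 0 _)))
    have h2 : ((P.mapSurjective hs : Sylow p _) : Subgroup (G ⧸ pCore p G)) = ⊥ := by
      by_contra h2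
      exact pfun_ZJ.ne _ (P.mapSurjective hs).2 h2 (by rw [H17.centerThompsonAOf_eq]; exact h1)
    refine H03.HasNPC.subgroup (H03.hasNPC_of_not_dvd fun hd => ?_) _
    have := (P.mapSurjective hs).not_dvd_index
    rw [h2, index_bot] at this
    exact this hd
  · rw [← map_comap_eq_self_of_surjective hs (normalizer (Z : Set (G ⧸ pCore p G)))]
    exact H03.HasNPC.map (hA _ (map_le_iff_le_comap.1 h0) h) _

end Fam

variable {Ω : Type u} [Group Ω] {S : Subgroup Ω} [Finite S] {F : FusionSystem S}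

/-- `F` is a minimal non-nilpotent saturated system on `S`. -/
def Sparse (p : ℕ) (F : FusionSystem S) : Prop := F.IsSaturated p ∧ ¬ All F (Inner S) ∧
  ∀ E : FusionSystem S, E.IsSaturated p → E.IsSubsystemOf F → ¬ F.IsSubsystemOf E → All E (Inner S)

omit [Fact p.Prime] in
theorem exists_sparse (hF : F.IsSaturated p) (h1 : ¬ All F (Inner S)) :
    ∃ E : FusionSystem S, E.IsSubsystemOf F ∧ Sparse p E := by
  induction hn : (graphs F).ncard using Nat.strong_induction_on generalizing F with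
  | _ n ih =>
  by_cases h : Sparse p F
  · exact ⟨F, sub_refl F, h⟩
  simp only [Sparse, not_and, not_forall] at h
  obtain ⟨E, a1, a2, a3, a4⟩ := h hF h1
  obtain ⟨D, b1, b2⟩ := ih _ (hn ▸ graphs_lt a2 a3) a1 a4 rfl
  exact ⟨D, sub_trans b1 a2, b2⟩

theorem Sparse.constrained (hp : p ≠ 2) (hS : IsPGroup p S) (h : Sparse p F) : F.IsConstrained p := by
  obtain ⟨hF, h1, h2⟩ := h
  have hU : ∀ U ≤ S, S ≤ Subgroup.normalizer (U : Set Ω) → ¬ U ≤ F.core → OnN F (Inner S) U := fun U a1 a2 a3 => by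
    obtain ⟨E, hE⟩ := exists_isNK' F a1 ⊤ (T := S) (by rw [nK_top, normalizerIn_eq_of_le a2])
    exact hE.onN_of_all a2 (h2 E (hE.sat_top hS hF a2) hE.sub fun h => a3 (le_core (normal_of_sub hS hF h
      (hE.normal a1) a1)))
  rw [constrained_iff hS hF]
  by_contra h3
  have key : ∀ {Ω' : Type u} [Group Ω'] {S' : Subgroup Ω'} {F' : FusionSystem S'} {t : Ω → Ω'} (hq : IsQuo F t F'),
      hq.hom.pre ⊥ = F.core → All F' (Inner S') := fun {_} _ {S'} {F'} {t} hq e => by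
    haveI := hq.finite
    have a2 := hq.isPGroup hS
    have a5 : S' ≠ ⊥ := fun e' => h3 (by rw [← e, ← e', hq.pre_top]; exact centralizerIn_le)
    have k : ∀ W : ∀ {Ω : Type u} [Group Ω], Subgroup Ω → Subgroup Ω, PFun p W → OnN F' (Inner S') (W S') :=
      fun W hW => hq.onN_inner (hU _ hq.hom.pre_le (hq.pre_normal (Subgroup.le_normalizer.trans (hW.norm a2)))
        (e ▸ hq.pre_not_le (hW.le _) (hW.ne S' a2 a5)))
    exact inner_of_zj hp a2 (hq.sat hS hF) (k _ pfun_ZJ)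
  by_cases h0 : F.core = ⊥
  · exact h1 (key (isFIso_refl F).toIsQuo ((isFIso_refl F).ker.trans h0.symm))
  have hQ := normal_core F
  have hn := normal_le_normalizer hQ
  obtain ⟨Ω', _, S', _, F', t, hq, e, -⟩ := exists_quo hS hF (normal_sc hQ) h0
  by_cases h4 : IsPGroup p (F.autGroup F.core)
  · exact h1 (hq.all_inner hS hF (e ▸ hQ) (e ▸ h4) (key hq e))
  obtain ⟨E, hE⟩ := exists_isNK' F hQ.1 (autInducedBy S F.core) (T := S) (le_antisymm
    (fun s hs => ⟨⟨hs, hn hs⟩, res_cj_mem hs (hn hs)⟩) (nK_le.trans normalizerIn_le))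
  have hEs := hE.sat hS hF (sat_fc hS hF (fullyNormalized_of_normal hQ.1 hn)) (by
    rw [inf_idem, inf_eq_right.2 (autInducedBy_le_autGroup F hQ.1 le_rfl)]
    exact H26.isSyl_self (isPGroup_autInducedBy hS _))
  have h5 := h2 E hEs hE.sub fun h => h4 ((isPGroup_autInducedBy hS _).to_le ((autGroup_mono h _).trans
    ((hE.autGroup_self hQ.1).le.trans inf_le_right)))
  refine h1 (all_of_split hS hF clo_inner hQ (hU _ (sup_le hQ.1 centralizerIn_le) (H26.le_normalizer_sup hn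
    (H26.le_normalizer_inf Subgroup.le_normalizer (H26.le_normalizer_centralizer hn))) fun h => h3
      (le_sup_right.trans h)) fun P f a1 a2 a3 => ?_)
  have hi := (HIso.refl F.core).congr fun x hx => (a3 x hx).symm
  exact h5 P f (hE.of_M a2 le_rfl a1 a2.le hi (by rw [hi.res_eq_one_iff.2 a3]; exact Subgroup.one_mem _))

/-- In the model of a sparse system, proper overgroups of the Sylow subgroup are `p`-nilpotent. -/
theorem Sparse.overgroup (hS : IsPGroup p S) (h : Sparse p F) {G : Type u} [Group G] [Finite G] {P : Sylow p G}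
    {t : Ω → G} (ht : IsFIso F t (groupFusionSystem (P : Subgroup G)))
    (hc : Subgroup.centralizer (pCore p G : Set G) ≤ pCore p G) (K : Subgroup G) (hK : (P : Subgroup G) ≤ K)
    (hK' : K ≠ ⊤) : HasNormalPComplement p K := by
  have hs := H26.isSyl_of_le P hK
  obtain ⟨E, hE⟩ := exists_isFIso (fusionSystemOfSubgroup K P hK) ht.symm.hom ht.symm.inj ht.symm.surj
  have a1 : E.IsSubsystemOf F := ht.symm.toIsQuo.sub hE.toIsQuo (ofSubgroup_sub_group hK le_rfl)
  have hE' : IsFIso E t (fusionSystemOfSubgroup K P hK) := hE.symm_of fun x hx => ht.apply_inv hx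
  have a2 : E.IsSaturated p := hE.toIsQuo.sat P.2 (sat_ofSubgroup hs)
  have key : ∀ {Q : Subgroup Ω} {f : Perm Ω}, M E Q f → ∃ g ∈ K, ∀ s ∈ Q, g * t s * g⁻¹ = t (f s) := fun {Q f} hf => by
    obtain ⟨f', b1, b2⟩ := hE'.mor _ _ hf
    obtain ⟨-, -, g, hg, e⟩ := (M_ofSubgroup hK).1 b1
    exact ⟨g, hg, fun s hs => by rw [← b2 s hs, e _ (mem_img_of_mem hs)]⟩
  have a3 := h.2.2 E a2 a1 fun h' => hK' (eq_top_iff.2 fun g _ => by
    have hQ : pCore p G ≤ P := H26.pCore_le_sylow P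
    obtain ⟨f, b1, b2⟩ := ht.lift_cj (P := ht.hom.pre (pCore p G)) (g := g) ht.hom.pre_le fun s hs =>
      hQ ((inferInstance : (pCore p G).Normal).conj_mem _ hs.2 g)
    obtain ⟨k, hk, e⟩ := key (b1.of_sub h')
    have : k⁻¹ * g ∈ K := hK (hQ (hc fun y hy => by
      obtain ⟨s, hs, rfl⟩ := ht.hom.mem_img.1 (ht.surj.ge (hQ hy))
      have := (b2 s ⟨hs, hy⟩).trans (e s ⟨hs, hy⟩).symm
      calc t s * (k⁻¹ * g) = k⁻¹ * (k * t s * k⁻¹) * g := by group
        _ = k⁻¹ * g * t s := by rw [← this]; group))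
    simpa using K.mul_mem hk this)
  refine ht.npc_of_inner hs fun Q f hf g hg e => a3 Q f ?_
  refine (hE'.M_iff hf.le (fun x hx => hf.mem hx) (f' := cj g) fun x hx => e x hx).2 ?_
  refine M_cj_ofSubgroup hK (ht.surj ▸ img_mono hf.le) hg fun y hy => ?_
  obtain ⟨s, hs, rfl⟩ := (ht.hom.mono hf.le).mem_img.1 hy
  rw [e s hs]; exact ht.surj.le (mem_img_of_mem (hf.mem hs))

theorem inner_of_zj_sc (hp : p ≠ 2) (hS : IsPGroup p S) (hF : F.IsSaturated p) {D : Subgroup Ω}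
    (hD : F.StronglyClosed D) (h : OnN F (Inner S) (centerThompsonAOf D)) : All F (Inner S) := by
  by_contra h1
  obtain ⟨E, a1, a2⟩ := exists_sparse hF h1
  haveI := finite_of_le hD.1
  obtain ⟨G, _, _, ι, P, -, h2, -⟩ := exists_model' hS (a2.constrained hp hS)
  have hD' : E.StronglyClosed D := ⟨hD.1, fun R hR φ hφ => hD.2 R hR φ (a1 R hφ)⟩
  have b1 := sc_group_iff.1 ((h2.sc_iff hD.1).2 hD')
  have b2 : centerThompsonOf 0 (img (tot ι) D) = img (tot ι) (centerThompsonAOf D) := by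
    rw [← H17.centerThompsonAOf_eq]
    exact pfun_ZJ.map D _ (hS.to_le hD.1) (h2.hom.mono hD.1) (h2.inj.mono hD.1)
  refine a2.2.1 (h2.inner_of_npc (H26.isSyl_top P) (H03.hasNPC_of_zj_sc hp (Or.inl rfl) P b1 (h2.npc_of_inner
    (H26.isSyl_of_le P ((sc_le_normalizer ((h2.sc_iff hD.1).2 hD')).trans
      (H17.normalizer_le_normalizer_centerThompsonOf 0 _)))
    fun Q f hf g hg e => h2.onN_real clo_inner ((pfun_ZJ (p := p).le D).trans hD.1) (h.sub a1) hf ?_ e)))
  rwa [← b2]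

theorem inner_of_family (hp : p ≠ 2) (hS : IsPGroup p S) (hF : F.IsSaturated p) (𝒜 : Set (Subgroup Ω))
    (Z : Subgroup Ω) (hne : 𝒜.Nonempty)
    (h1 : ∀ A ∈ 𝒜, Z ≤ A ∧ A ≤ S ∧ IsMulCommutative A) (h2 : ∀ B, (∀ A ∈ 𝒜, B ≤ A) → B ≤ Z)
    (hSZ : S ≤ Subgroup.normalizer (Z : Set Ω))
    (hinv : ∀ Q ≤ S, ∀ A ∈ 𝒜, A ≤ Q → ∀ f, Iso F Q Q f → ∀ z ∈ Z, f z ∈ A)
    (hrep : ∀ B ≤ S, ⁅⁅B, B⁆, B⁆ = ⊥ → (∃ A ∈ 𝒜, ⁅B, B⁆ ≤ A ∧ ¬ B ≤ A) →
      ∃ A ∈ 𝒜, ¬ B ≤ A ∧ B ≤ Subgroup.normalizer (A : Set Ω))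
    (h : OnN F (Inner S) Z) : All F (Inner S) := by
  by_contra h0
  obtain ⟨E, a1, a2⟩ := exists_sparse hF h0
  obtain ⟨G, _, _, ι, P, -, ht, hc⟩ := exists_model' hS (a2.constrained hp hS)
  set t := tot ι
  have hZ : Z ≤ S := by
    obtain ⟨A, hA⟩ := hne
    exact (h1 A hA).1.trans (h1 A hA).2.1
  have hn : ∀ {A B : Subgroup Ω}, A ≤ S → B ≤ S → B ≤ Subgroup.normalizer (A : Set Ω) →
      img t B ≤ Subgroup.normalizer (img t A : Set G) := fun hA hB h =>
    img_le_iff.2 fun x hx => ht.hom.mem_normalizer_img hA ⟨hB hx, h hx⟩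
  have hP : ∀ {B : Subgroup G}, B ≤ P → img t (ht.hom.pre B) = B := fun h => ht.hom.img_pre (ht.surj ▸ h)
  have : (img t Z).Normal := family_normal (H17.weaklyStable_of_not_sec hp (not_sec_of_overgroups hp P
    (a2.overgroup hS ht hc) hc)) hc P (img t '' 𝒜) (img t Z) (hne.image _) ?_ ?_ ?_ ?_ ?_
  · exact a2.2.1 (OnN.all clo_inner (h.sub a1) ((ht.normal_iff hZ).1
      (normal_group (ht.surj ▸ img_mono hZ))))
  · rintro _ ⟨A, hA, rfl⟩
    refine ⟨img_mono (h1 A hA).1, ht.surj ▸ img_mono (h1 A hA).2.1, ?_⟩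
    rw [← Subgroup.commutator_self_eq_bot_iff, ← ht.hom.img_commutator (h1 A hA).2.1 (h1 A hA).2.1,
      Subgroup.commutator_self_eq_bot_iff.2 (h1 A hA).2.2, img_bot ht.hom]
  · intro B hB h
    rw [← hP hB]
    refine img_mono (h2 _ fun A hA => (ht.img_le_img ht.hom.pre_le (h1 A hA).2.1).1 ?_)
    rw [hP hB]; exact h _ ⟨A, hA, rfl⟩
  · exact ht.surj ▸ hn hZ le_rfl hSZ
  · rintro Q hQ _ ⟨A, hA, rfl⟩ hAQ y hy w hw
    obtain ⟨z, hz, rfl⟩ := (ht.hom.mono hZ).mem_img.1 hw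
    obtain ⟨f, b1, b2⟩ := ht.lift_cj (P := ht.hom.pre Q) (g := y) ht.hom.pre_le fun s hs =>
      hQ (conj_mem_of_normalizer hy hs.2)
    have b3 : A ≤ ht.hom.pre Q := fun x hx => ⟨(h1 A hA).2.1 hx, hAQ (mem_img_of_mem hx)⟩
    rw [b2 z (b3 ((h1 A hA).1 hz))]
    exact mem_img_of_mem (hinv _ ht.hom.pre_le A hA b3 f ((b1.iso_self fun x hx => ⟨b1.mem hx, by
      rw [← b2 x hx]; exact conj_mem_of_normalizer hy hx.2⟩).of_sub a1) z hz)
  · rintro B hB h3 ⟨_, ⟨A, hA, rfl⟩, b1, b2⟩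
    have b0 : ht.hom.pre B ≤ S := ht.hom.pre_le
    have b4 : ⁅ht.hom.pre B, ht.hom.pre B⁆ ≤ S := (Subgroup.commutator_le_self _).trans b0
    obtain ⟨A', c1, c2, c3⟩ := hrep _ b0 (eq_bot_iff.2 ((ht.img_le_img ((Subgroup.commutator_mono b4 b0).trans
      (Subgroup.commutator_le_self _)) bot_le).1 (by
        rw [ht.hom.img_commutator b4 b0, ht.hom.img_commutator b0 b0, hP hB, h3]; exact bot_le)))
      ⟨A, hA, (ht.img_le_img b4 (h1 A hA).2.1).1 (by rw [ht.hom.img_commutator b0 b0, hP hB]; exact b1),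
        fun h => b2 (hP hB ▸ img_mono h)⟩
    refine ⟨_, ⟨A', c1, rfl⟩, fun h => c2 ((ht.img_le_img b0 (h1 A' c1).2.1).1 (by rw [hP hB]; exact h)), ?_⟩
    rw [← hP hB]; exact hn (h1 A' c1).2.1 b0 c3

end H28
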