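import Cfsg.Agent.H11.TwsEx
import Cfsg.Agent.H11.EG4

/-!
# Elements of order five in `²E₆(2)`: interfaces
-/

set_option autoImplicit false

namespace H28.Tw
open H11 Cfsg Cfsg.Lie StSys

universe u

/-- the matrix of the twisted Frobenius map on the torus -/
def B6 : Matrix (Node chevE6) (Node chevE6) ℤ := .of fun i j => if flipE6 i = j then ((2 : ℕ) : ℤ) else 0

/-- the nodes of the Levi factor of type `A₃` -/
def J3 : Set (Node chevE6) := {i | i.1 = 2 ∨ i.1 = 3 ∨ i.1 = 4}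

/-- the group generated by the root elements over the prime field -/
def LJ {D : ChevalleyDatum} [Good D] {K G : Type*} [Field K] [Group G] (S : StSys D K G) (J : Set (Node D)) : Subgroup G :=
  Subgroup.closure {g | ∃ r, InJ J r ∧ g = S.x r 1}

/-- part A: the simply connected cover -/
def AStmt : Prop := ∀ (K : Type u) [Field K] [Fintype K], Fintype.card K = 4 →
  ∃ (Ω : Type u) (_ : Field Ω) (_ : IsAlgClosed Ω) (_ : Uncountable Ω) (_ : CharP Ω 2) (σ : MulAut (chevE6.SteinbergGroup Ω))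
    (π : fixS σ →* twistedE6 K 2), Tws (galSg chevE6 Ω) σ B6 ∧ IsTw (sgSys chevE6 Ω) σ grE6 (fun t => t ^ 2) ∧
      Finite (fixS σ) ∧ Function.Surjective π ∧ ∀ g, π g = 1 ↔ g.1 ∈ Subgroup.center (chevE6.SteinbergGroup Ω)

/-- part C: fixed points in a Levi subgroup -/
def CStmt : Prop := ∀ (K G : Type u) [Field K] [Group G] (S : StSys chevE6 K G) (J : Set (Node chevE6)) (M : Subgroup G),
  S.Sub {r | InJ J r} M → (∀ m : S.N, m.1 ∈ M → (∀ j ∈ J, IsPos ((S.π m).1 (sroot j))) → S.π m = 1) →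
  ∀ σ : MulAut G, (∀ m ∈ S.N, σ m ∈ S.N) → (∀ r, InJ J r → ∀ t, σ (S.x r t) = S.x r (t ^ 2)) → (2 : K) = 0 →
    M ⊓ fixS σ ≤ LJ S J ⊔ (S.H ⊓ fixS σ)

/-- part D: the alternating group -/
def DStmt : Prop := ∀ (Ω : Type u) [Field Ω] [CharP Ω 2], ∃ φ : alternatingGroup (Fin 8) →* chevE6.SteinbergGroup Ω,
  Function.Injective φ ∧ φ.range = LJ (sgSys chevE6 Ω) J3

end H28.Tw
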