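import Cfsg.Agent.H28.Tw1

/-!
# Elements of order five in the torus of type `E₆`: reduction to one class
-/

set_option autoImplicit false

open Finset

namespace H28.Tw
open H11 Cfsg Cfsg.Lie StSys

universe u

/-- the standard vector -/
def a0 : Node chevE6 → ℤ := (![3, 4, 5, 7, 5, 3] : Fin 6 → ℤ)

/-- number of roots with a given value modulo five -/
def N5 (k : ZMod 5) (n : Node chevE6 → ℤ) : ℕ := #{r : Root chevE6 | (fv n r : ZMod 5) = k}

theorem fvd (m : ℕ) (r : Root chevE6) : fv (fun j => dg m j) r = kk m r := by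
  simp only [fv, dotProduct, agreeE6.wt_eq, kk, sumLt_eq]
  exact Fin.sum_univ_eq_sum_range (fun j => dg m j * fastE6.wt r j) 6

theorem reps_ok : ∀ m ∈ reps, N5 1 (fun j => dg m j) ≠ N5 2 (fun j => dg m j) := by
  simp only [N5, fvd]; decide +kernel

theorem N5_congr (k : ZMod 5) {n n' : Node chevE6 → ℤ} (h : ∀ j, (n j : ZMod 5) = n' j) : N5 k n = N5 k n' :=
  congrArg card (filter_congr fun r _ => by simp only [fv, dotProduct, Int.cast_sum, Int.cast_mul, h])

theorem N5_refl (k : ZMod 5) (n : Node chevE6 → ℤ) (a : Root chevE6) : N5 k (n - fv n a • cor a) = N5 k n := by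
  have e : ∀ r, fv (n - fv n a • cor a) r = fv n (refl a r) := fun r => by
    rw [fv, fv, fv, wt_refl, sub_dotProduct, smul_dotProduct, dotProduct_sub, dotProduct_smul, pair, smul_eq_mul, smul_eq_mul, mul_comm]
  refine card_bij' (fun r _ => refl a r) (fun r _ => refl a r) (fun r hr => ?_) (fun r hr => ?_) (by simp) (by simp)
  · exact mem_filter.2 ⟨mem_univ _, e r ▸ (mem_filter.1 hr).2⟩
  · exact mem_filter.2 ⟨mem_univ _, by rw [e, refl_refl]; exact (mem_filter.1 hr).2⟩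

variable {M : Type*} [CommGroup M] {ζ : M}

/-- the vector of powers -/
def Z (ζ : M) (n : Node chevE6 → ℤ) : Node chevE6 → M := fun i => ζ ^ n i

theorem zp_congr (h5 : ζ ^ 5 = 1) {a b : ℤ} (h : (a : ZMod 5) = b) : ζ ^ a = ζ ^ b := by
  obtain ⟨k, hk⟩ := (ZMod.intCast_eq_intCast_iff_dvd_sub a b 5).1 h
  rw [eq_add_of_sub_eq hk, zpow_add, zpow_mul, zpow_natCast, h5, one_zpow, one_mul]

theorem Z_congr (h5 : ζ ^ 5 = 1) {n n' : Node chevE6 → ℤ} (h : ∀ j, (n j : ZMod 5) = n' j) : Z ζ n = Z ζ n' :=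
  funext fun j => zp_congr h5 (h j)

theorem mact_Z (A : Matrix (Node chevE6) (Node chevE6) ℤ) (n : Node chevE6 → ℤ) : mact A (Z ζ n) = Z ζ (Matrix.vecMul n A) := by
  ext; simp only [mact_apply, Z, Matrix.vecMul, dotProduct, zpow_sum', zpow_mul]

theorem corM_sref (a : Root chevE6) : corM (sref a) = .of fun j k => (if j = k then 1 else 0) - wt a j * cor a k := by
  ext j k
  simp [corM, cor_refl, cor_sroot, pair_sroot, Pi.single_apply, eq_comm]

theorem Z_refl (n : Node chevE6 → ℤ) (a : Root chevE6) : mact (corM (sref a)) (Z ζ n) = Z ζ (n - fv n a • cor a) := by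
  rw [mact_Z, corM_sref]
  congr 1
  ext k
  simp [Matrix.vecMul, dotProduct, mul_sub, sum_sub_distrib, fv, sum_mul, mul_assoc]

theorem red0 (h5 : ζ ^ 5 = 1) (d : ℕ) : ∀ m < 15625, lk D6 4 15 m = d → N5 1 (fun j => dg m j) = N5 2 (fun j => dg m j) →
    ∃ v : Weyl chevE6, mact (corM v.1) (Z ζ fun j => dg m j) = 1 ∨ mact (corM v.1) (Z ζ fun j => dg m j) = Z ζ a0 := by
  induction d using Nat.strong_induction_on with
  | _ d ih =>
  intro m hm hd hN
  have h := allLt_spec ck_all hm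
  rw [ck, Bool.or_eq_true, decide_eq_true_eq] at h
  obtain h | h := h
  · have h' := allLt_spec ck_0 hm
    rw [Bool.or_eq_true, decide_eq_true_eq, decide_eq_true_eq, h] at h'
    refine ⟨1, ?_⟩
    rw [OneMemClass.coe_one, corM_one, mact_one]
    obtain h' | rfl | rfl | h' := h'
    · exact absurd h' (lt_irrefl _)
    · exact .inl (funext fun j => by simp [Z, dg])
    · exact .inr (Z_congr h5 (by decide +kernel))
    · exact absurd hN (reps_ok m h')
  generalize lk T6 8 255 m = r at h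
  rw [frc_eq, frc_eq, frc_eq, Int.toNat_of_nonneg (Int.emod_nonneg _ (by decide))] at h
  generalize pp m r _ = p at h
  simp only [ck1, Bool.and_eq_true, decide_eq_true_eq] at h
  obtain ⟨⟨⟨h1, h0⟩, h2⟩, h3⟩ := h
  let a : Root chevE6 := ⟨r, h1⟩
  have e : ∀ j : Node chevE6, (dg p j : ZMod 5) = (((fun j : Node chevE6 => dg m j) - fv (fun j => dg m j) a • cor a) j : ℤ) := fun j => by
    have q := (ZMod.intCast_eq_intCast_iff_dvd_sub _ _ 5).2 (Int.dvd_of_emod_eq_zero (of_decide_eq_true (allLt_spec h3 j.2)))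
    rw [← q, Pi.sub_apply, Pi.smul_apply, fvd, agreeE6.cor_eq, smul_eq_mul, Int.cast_sub, Int.cast_sub, Int.cast_mul, Int.cast_mul]
    exact congrArg (_ - · * _) (ZMod.intCast_mod _ 5)
  obtain ⟨v, hv⟩ := ih _ (hd ▸ h2) p h0 rfl (by rwa [N5_congr 1 e, N5_congr 2 e, N5_refl, N5_refl])
  refine ⟨v * ⟨sref a, sref_mem_Weyl a⟩, ?_⟩
  rwa [corM_mul', mact_mul, Z_refl, ← Z_congr h5 e]

theorem red1 (h5 : ζ ^ 5 = 1) (n : Node chevE6 → ℤ) (hN : N5 1 n = N5 2 n) :
    ∃ v : Weyl chevE6, mact (corM v.1) (Z ζ n) = 1 ∨ mact (corM v.1) (Z ζ n) = Z ζ a0 := by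
  let g : Fin 6 → Fin 5 := fun j => (n j : ZMod 5)
  have e : ∀ j : Node chevE6, (n j : ZMod 5) = dg (finFunctionFinEquiv g) j := fun j => by
    rw [dg, ← finFunctionFinEquiv_symm_apply_val (finFunctionFinEquiv g) j, Equiv.symm_apply_apply, Int.cast_natCast]
    exact (ZMod.natCast_zmod_val (n := 5) _).symm
  rw [Z_congr h5 e]
  exact red0 h5 _ _ (finFunctionFinEquiv g).2 rfl (by rwa [← N5_congr 1 e, ← N5_congr 2 e])

/-- the graph symmetry on roots -/
def Rg (r : Root chevE6) : Root chevE6 := ⟨(grE6 r).headI.1 % 72, Nat.mod_lt _ (by decide)⟩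

theorem Rg_Rg : ∀ r, Rg (Rg r) = r := by decide +kernel

theorem Rg_gr : ∀ r : Root chevE6, grE6 r = [((Rg r).1, 1, 1)] ∨ grE6 r = [((Rg r).1, -1, 1)] := by decide +kernel

theorem Rg_wt : ∀ r i, wt (Rg r) (flipE6 i) = wt r i := by
  simp only [agreeE6.wt_eq]; decide +kernel

theorem fv_B6 (n : Node chevE6 → ℤ) (r : Root chevE6) : fv (Matrix.vecMul n B6) (Rg r) = 2 * fv n r := by
  rw [fv, fv, ← Matrix.dotProduct_mulVec, ← smul_eq_mul, ← dotProduct_smul]
  congr 1
  ext i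
  simp [Matrix.mulVec, dotProduct, B6, Rg_wt]

theorem chiOf_Z {K : Type*} [Field K] (ζ : Kˣ) (n : Node chevE6 → ℤ) (r : Root chevE6) : chiOf (Z ζ n) r = ζ ^ fv n r := chiOf_zpow n ζ r

theorem red {K : Type*} [Field K] {ζ : Kˣ} (h0 : IsPrimitiveRoot ζ 5) {c : Node chevE6 → Kˣ} (h5 : c ^ 5 = 1) {w : Weyl chevE6}
    (h : mact (B6 * corM w.1) c = c) : ∃ v : Weyl chevE6, mact (corM v.1) c = 1 ∨ mact (corM v.1) c = Z ζ a0 := by
  choose m _ hm using fun i => h0.eq_pow_of_mem_rootsOfUnity (ξ := c i) ((mem_rootsOfUnity _ _).2 (congrFun h5 i))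
  obtain rfl : c = Z ζ fun a => m a := funext fun a => by rw [Z, zpow_natCast, hm]
  generalize (fun a => (m a : ℤ)) = n at h ⊢
  refine red1 h0.pow_eq_one n ?_
  have e : ∀ r, (fv n (w.1 (Rg r)) : ZMod 5) = 2 * fv n r := fun r => by
    have q := chiOf_mact (Weyl.aut w) (mact B6 (Z ζ n)) (Rg r)
    rw [← mact_mul, h, mact_Z, chiOf_Z, chiOf_Z, fv_B6, ← mul_inv_eq_one, ← zpow_sub, h0.zpow_eq_one_iff_dvd] at q
    rw [show (2 : ZMod 5) * fv n r = (2 * fv n r : ℤ) by push_cast; rfl, eq_comm]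
    exact (ZMod.intCast_eq_intCast_iff_dvd_sub _ _ 5).2 q
  refine card_bijective (fun r => w.1 (Rg r)) (w.1.bijective.comp (Function.Involutive.bijective Rg_Rg)) fun r => ?_
  simp only [mem_filter, mem_univ, true_and, e]
  generalize (fv n r : ZMod 5) = k
  revert k; decide

end H28.Tw
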