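import Cfsg.Agent.H28.Tw2

/-!
# Elements of order five in `²E₆(2)`: the twisted torus
-/

set_option autoImplicit false

open Finset

namespace H28.Tw
open H11 Cfsg Cfsg.Lie StSys

universe u

/-- roots by number -/
def rt (n : ℕ) (h : n < 72 := by decide) : Root chevE6 := ⟨n, h⟩

/-- the twisting element -/
noncomputable def w0 : Weyl chevE6 := ⟨sref (rt 60), sref_mem_Weyl _⟩ * ⟨sref (rt 50), sref_mem_Weyl _⟩ * ⟨sref (rt 48), sref_mem_Weyl _⟩

/-- matrices by rows -/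
def lm (L : List (List ℤ)) : Matrix (Node chevE6) (Node chevE6) ℤ := lmat 6 L

/-- its matrix -/
def M0 : Matrix (Node chevE6) (Node chevE6) ℤ :=
  lm [[1,1,1,1,0,0],[-1,-1,-2,-3,-2,-1],[0,0,0,0,1,0],[0,0,0,1,0,0],[0,0,1,0,0,0],[0,1,0,1,1,1]]

theorem corM_w0 : corM w0.1 = M0 := by
  rw [w0, corM_mul', corM_mul', corM_sref, corM_sref, corM_sref]
  simp only [agreeE6.wt_eq, agreeE6.cor_eq]
  decide +kernel

theorem cart6 : cartanM chevE6 = lm [[2, 0, -1, 0, 0, 0], [0, 2, 0, -1, 0, 0], [-1, 0, 2, -1, 0, 0], [0, -1, -1, 2, -1, 0],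
    [0, 0, 0, -1, 2, -1], [0, 0, 0, 0, -1, 2]] := by ext i j; exact cartanE6 i j

theorem inJ_iff (r : Root chevE6) : InJ J3 r ↔ ∀ i : Node chevE6, ¬ (i.1 = 2 ∨ i.1 = 3 ∨ i.1 = 4) → cor r i = 0 := Iff.rfl

theorem w0_Rg (r : Root chevE6) (h : InJ J3 r) : w0.1 (Rg r) = r := cor_injective (by
  rw [cor_aut (Weyl.aut w0), corM_w0]
  revert r
  simp only [inJ_iff, funext_iff, Matrix.vecMul, dotProduct, agreeE6.cor_eq]
  decide +kernel)

theorem fv_a0 (r : Root chevE6) : (fv a0 r : ZMod 5) = 0 ↔ InJ J3 r := by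
  revert r
  simp only [inJ_iff, fv, dotProduct, agreeE6.cor_eq, agreeE6.wt_eq]
  decide +kernel

theorem pos_a0 (s t : Root chevE6) : (fv a0 s : ZMod 5) = 1 → (fv a0 t : ZMod 5) = 0 → pair t s ≠ 0 → IsPos s := by
  revert s t
  simp only [isPos_iff_val, pair, fv, dotProduct, agreeE6.cor_eq, agreeE6.wt_eq]
  decide +kernel

theorem adj_a0 (i : Node chevE6) : i ∈ J3 ∨ (fv a0 (sroot i) : ZMod 5) = 1 ∧ ∃ j : Node chevE6, (fv a0 (sroot j) : ZMod 5) = 0 ∧
    pair (sroot j) (sroot i) ≠ 0 := by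
  have e (j i : Node chevE6) : wt (sroot j) i = cartanM chevE6 i j := rfl
  revert i
  simp only [pair_sroot, fv, dotProduct, e, cart6, J3, Set.mem_ofPred_eq]
  decide +kernel

section
variable {M : Type*} [CommGroup M]

theorem fix0 {ζ : M} (h5 : ζ ^ 5 = 1) : mact (B6 * corM w0.1) (Z ζ a0) = Z ζ a0 := by
  rw [mact_Z, corM_w0]
  exact Z_congr h5 (by decide +kernel)

theorem cart3 {c : Node chevE6 → M} (h : mact (cartanM chevE6) c = 1) : c ^ 3 = 1 := by
  have e : cartanM chevE6 * lm [[4,3,5,6,4,2],[3,6,6,9,6,3],[5,6,10,12,8,4],[6,9,12,18,12,6],[4,6,8,12,10,5],[2,3,4,6,5,4]] =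
      (3 : ℤ) • 1 := by rw [cart6]; decide +kernel
  rw [← zpow_natCast, ← mact_one c, ← mact_smul, Nat.cast_ofNat, ← e, mact_mul, h, map_one]

theorem fix1 {c : Node chevE6 → M} (h : mact (B6 * corM w0.1) c = c) :
    mact (cartanM chevE6) (c ^ 5) = 1 ∧ ∃ η : M, η ^ 5 = 1 ∧ c ^ 3 = Z η a0 := by
  rw [← mact_sub_one, corM_w0] at h
  have h1 (X : Matrix (Node chevE6) (Node chevE6) ℤ) : mact ((B6 * M0 - 1) * X) c = 1 := by rw [mact_mul, h, map_one]
  let y : Node chevE6 → ℤ := (![-2, 1, -2, 0, 0, 0] : Fin 6 → ℤ)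
  let x : Node chevE6 → ℤ := (![16, -3, -10, 0, 0, 6] : Fin 6 → ℤ)
  have e1 : (B6 * M0 - 1) * lm [[2,2,-5,0,0,2],[4,4,0,-5,0,4],[-5,0,10,-5,0,0],[0,-5,-5,10,-5,0],[0,0,0,-5,10,-5],[2,2,0,0,-5,2]] =
      (5 : ℤ) • cartanM chevE6 := by rw [cart6]; decide +kernel
  have e2 : (B6 * M0 - 1) * .of (fun i _ => x i) = (5 : ℤ) • .of fun i (_ : Node chevE6) => y i := by decide +kernel
  have e3 : (B6 * M0 - 1) * lm [[-11,-14,-20,-26,-18,-10],[3,3,3,3,3,3],[6,8,13,14,10,6],[0,0,0,3,0,0],[0,0,0,0,3,0],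
      [-4,-6,-8,-12,-10,-5]] = (3 : ℤ) • 1 - .of fun i j => y i * a0 j := by decide +kernel
  refine ⟨?_, ∏ i, c i ^ y i, ?_, ?_⟩
  · rw [map_pow, ← zpow_natCast, ← mact_smul, Nat.cast_ofNat, ← e1, h1]
  · have := h1 (.of fun i _ => x i)
    rw [e2, mact_smul] at this
    exact_mod_cast congrFun this ⟨0, by decide⟩
  · have := e3 ▸ h1 _
    rw [mact_sub, div_eq_one, mact_smul, mact_one] at this
    rw [← zpow_natCast, Nat.cast_ofNat, this]
    ext j
    simp only [mact_apply, Matrix.of_apply, zpow_mul, prod_zpow, Z]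
end

theorem fin {R X A : Type*} [Group R] [Group X] [Group A] (hA : Subgroup.center A = ⊥) (π : R →* X) (hπ : Function.Surjective π)
    (h1 : ∀ z, π z = 1 → z ∈ Subgroup.center R ∧ z ^ 3 = 1) {t : R} (ht : orderOf t = 5) (φ : A →* R) (hφ : Function.Injective φ)
    (h2 : ∀ a, Commute (φ a) t) (h3 : ∀ g, Commute g t → ∃ a, ∃ k : ℤ, ∃ z, π z = 1 ∧ g = φ a * t ^ k * z) :
    Nonempty (Subgroup.centralizer {π t} ≃* Multiplicative (ZMod 5) × A) := by
  have t5 : t ^ 5 = 1 := ht ▸ pow_orderOf_eq_one t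
  have k5 (z : R) (h : π z = 1) (h' : z ^ 5 = 1) : z = 1 := by
    rw [← mul_right_inj (z ^ 5), mul_one, ← pow_succ, h', show 5 + 1 = 3 * 2 from rfl, pow_mul, (h1 z h).2, one_pow]
  have : Fact (Nat.Prime 5) := ⟨Nat.prime_five⟩
  have o5 : orderOf (π t) = 5 := orderOf_eq_prime (by rw [← map_pow, t5, map_one]) fun q => by
    rw [k5 t q t5, orderOf_one] at ht; omega
  let e : Multiplicative (ZMod 5) ≃* Subgroup.zpowers (π t) := mulEquivOfCyclicCardEq (by rw [Nat.card_zpowers, o5]; simp)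
  have c1 (k : Multiplicative (ZMod 5)) (a : A) : Commute (((Subgroup.subtype _).comp e.toMonoidHom) k) ((π.comp φ) a) := by
    obtain ⟨n, hn⟩ := (e k).2
    change Commute (e k).1 (π (φ a))
    rw [← hn]
    exact ((h2 a).map π).symm.zpow_left n
  let ψ := MonoidHom.noncommCoprod _ _ c1
  have i1 (a : A) (h : ∀ b, Commute (π (φ a)) (π (φ b))) : a = 1 := by
    have q (a : A) (h : π (φ a) = 1) : a = 1 := Subgroup.mem_bot.1 (hA ▸ Subgroup.mem_center_iff.2 fun b => hφ (by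
      rw [map_mul, map_mul]; exact Subgroup.mem_center_iff.1 (h1 _ h).1 _))
    refine Subgroup.mem_bot.1 (hA ▸ Subgroup.mem_center_iff.2 fun b => ?_)
    rw [← mul_inv_eq_one]
    exact q _ (by simp only [map_mul, map_inv]; rw [(h b).eq, mul_inv_cancel])
  have i2 : Function.Injective ψ := (injective_iff_map_eq_one _).2 fun ⟨k, a⟩ h => by
    have h' : (e k).1 * π (φ a) = 1 := h
    obtain rfl : a = 1 := i1 a fun b => by
      rw [eq_inv_of_mul_eq_one_right h']; exact (c1 k b).inv_left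
    rw [map_one, map_one, mul_one, OneMemClass.coe_eq_one, map_eq_one_iff _ e.injective] at h'
    rw [h']; rfl
  refine ⟨(MulEquiv.subgroupCongr (le_antisymm (fun y hy => ?_) ?_)).trans (MonoidHom.ofInjective i2).symm⟩
  · obtain ⟨g, rfl⟩ := hπ y
    have q1 : π (g * t * g⁻¹ * t⁻¹) = 1 := by
      simp only [map_mul, map_inv]
      rw [← Subgroup.mem_centralizer_singleton_iff.1 hy |>.symm]; group
    have q2 : (g * t * g⁻¹ * t⁻¹) ^ 5 = 1 := by
      have q : Commute (g * t * g⁻¹ * t⁻¹) t := (Subgroup.mem_center_iff.1 (h1 _ q1).1 t).symm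
      have q' := q.mul_pow 5
      rwa [inv_mul_cancel_right, conj_pow, t5, mul_one, mul_one, mul_inv_cancel, eq_comm] at q'
    obtain ⟨a, k, z, z1, rfl⟩ := h3 g (by have := k5 _ q1 q2; rwa [mul_inv_eq_one, mul_inv_eq_iff_eq_mul] at this)
    refine ⟨(e.symm ⟨π t ^ k, k, rfl⟩, a), ?_⟩
    change (e (e.symm _)).1 * π (φ a) = _
    rw [e.apply_symm_apply, map_mul, map_mul, z1, mul_one, map_zpow]
    exact (((h2 a).map π).symm.zpow_left k).eq
  · rintro _ ⟨⟨k, a⟩, rfl⟩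
    obtain ⟨n, hn⟩ := (e k).2
    refine mul_mem (show (e k).1 ∈ _ from ?_) (Subgroup.mem_centralizer_singleton_iff.2 ((h2 a).map π).eq)
    rw [← hn]
    exact Subgroup.mem_centralizer_singleton_iff.2 (Commute.zpow_self _ n).eq

theorem fin2 {R X A : Type*} [Group R] [Group X] [Group A] (hA : Subgroup.center A = ⊥) (π : R →* X) (hπ : Function.Surjective π)
    (h1 : ∀ z, π z = 1 → z ∈ Subgroup.center R ∧ z ^ 3 = 1) {t : R} (ht : orderOf t = 5) (φ : A →* R) (hφ : Function.Injective φ)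
    (h2 : ∀ a, Commute (φ a) t) (h3 : ∀ g, Commute g t → ∃ a, ∃ k : ℤ, ∃ z, π z = 1 ∧ g = φ a * t ^ k * z)
    (h4 : ∀ g : R, orderOf g = 5 → IsConj g t) : (∀ x y : X, orderOf x = 5 → orderOf y = 5 → IsConj x y) ∧
      ∀ x : X, orderOf x = 5 → Nonempty (Subgroup.centralizer {x} ≃* Multiplicative (ZMod 5) × A) := by
  have : Fact (Nat.Prime 5) := ⟨Nat.prime_five⟩
  have k (x : X) (hx : orderOf x = 5) : IsConj (π t) x := by
    obtain ⟨g, rfl⟩ := hπ x
    have e1 : π (g ^ 5) = 1 := by rw [map_pow, ← hx, pow_orderOf_eq_one]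
    have e2 : π (g ^ 6) = π g := by rw [pow_succ, map_mul, e1, one_mul]
    rw [← e2]
    refine (π.map_isConj (h4 _ (orderOf_eq_prime ?_ fun q => ?_))).symm
    · rw [← pow_mul, show 6 * 5 = 5 * 3 * 2 from rfl, pow_mul, pow_mul, (h1 _ e1).2, one_pow]
    · rw [← e2, q, map_one, orderOf_one] at hx; omega
  refine ⟨fun x y hx hy => (k x hx).symm.trans (k y hy), fun x hx => ?_⟩
  obtain ⟨y, rfl⟩ := isConj_iff.1 (k x hx)
  exact fin hA ((MulAut.conj y).toMonoidHom.comp π) ((MulAut.conj y).surjective.comp hπ)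
    (fun z h => h1 z ((map_eq_one_iff _ (MulAut.conj y).injective).1 h)) ht φ hφ h2 fun g hg =>
      let ⟨a, k, z, q1, q2⟩ := h3 g hg; ⟨a, k, z, (map_eq_one_iff _ (MulAut.conj y).injective).2 q1, q2⟩

end H28.Tw
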