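import Cfsg.Agent.H28.Tw3
import Cfsg.Agent.H11.TwA
import Cfsg.Agent.H08.TwC
import Cfsg.Agent.H05.TwD

/-!
# Elements of order five in `²E₆(2)`: assembly
-/

set_option autoImplicit false

namespace H28.Tw
open H11 Cfsg Cfsg.Lie StSys

universe u

variable {Ω : Type u} [Field Ω] [CharP Ω 2]

theorem n_conj1 (m : (sgSys chevE6 Ω).N) (hm : m.1 ∈ Subgroup.closure (Set.range fun r => (sgSys chevE6 Ω).n r 1)) (s : Root chevE6) (t : Ω) :
    m.1 * (sgSys chevE6 Ω).x s t * m.1⁻¹ = (sgSys chevE6 Ω).x (((sgSys chevE6 Ω).π m).1 s) t := by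
  obtain ⟨χ, -, h⟩ := acts_π m
  obtain ⟨f, hf⟩ := exists_sgMor (D := chevE6) hMul_sg (frobenius Ω 2)
  have e := congrArg f (h s 1)
  rw [map_mul, map_mul, map_inv, hf.fix_n hm, hf, hf, map_one, h, mul_one, frobenius_def] at e
  have e2 := x_inj (congrArg (sgSys chevE6 Ω).θ e)
  rw [sq, left_eq_mul₀ (χ s).ne_zero] at e2
  rw [h, e2, one_mul]

theorem tw_x {σ : MulAut (chevE6.SteinbergGroup Ω)} (h : IsTw (sgSys chevE6 Ω) σ grE6 fun t => t ^ 2) (r : Root chevE6) (t : Ω) :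
    σ ((sgSys chevE6 Ω).x r t) = (sgSys chevE6 Ω).x (Rg r) (t ^ 2) := by
  rw [h]
  rcases Rg_gr r with e | e <;> rw [e] <;> simp [appW, CharTwo.neg_eq]

omit [CharP Ω 2] in
theorem conn {ζ : Ωˣ} (h0 : IsPrimitiveRoot ζ 5) (m : (sgSys chevE6 Ω).N) (hm : m.1 ∈ Subgroup.centralizer {torS hMul_sg (Z ζ a0)})
    (h : ∀ j ∈ J3, IsPos (((sgSys chevE6 Ω).π m).1 (sroot j))) : (sgSys chevE6 Ω).π m = 1 := by
  have e (r : Root chevE6) : (fv a0 (((sgSys chevE6 Ω).π m).1 r) : ZMod 5) = fv a0 r := by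
    have q := chiOf_π (hS := hMul_sg) (m := m) (c := Z ζ a0) (c' := Z ζ a0) (by
      rw [Subgroup.mem_centralizer_singleton_iff.1 hm, mul_inv_cancel_right]) r
    rw [chiOf_Z, chiOf_Z, ← mul_inv_eq_one, ← zpow_sub, h0.zpow_eq_one_iff_dvd] at q
    exact ((ZMod.intCast_eq_intCast_iff_dvd_sub _ _ 5).2 q).symm
  refine eq_one_of_pos fun i => ?_
  obtain q | ⟨q, j, q1, q2⟩ := adj_a0 i
  · exact h i q
  · exact pos_a0 _ _ ((e _).trans q) ((e _).trans q1) (by rwa [Weyl.aut])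

omit [CharP Ω 2] in
theorem chi_a0 {ζ : Ωˣ} (h0 : IsPrimitiveRoot ζ 5) (r : Root chevE6) : chiOf (Z ζ a0) r = 1 ↔ InJ J3 r := by
  rw [chiOf_Z, h0.zpow_eq_one_iff_dvd, ← fv_a0, ZMod.intCast_zmod_eq_zero_iff_dvd]

omit [CharP Ω 2] in
theorem sub0 {ζ : Ωˣ} (h0 : IsPrimitiveRoot ζ 5) : (sgSys chevE6 Ω).Sub {r | InJ J3 r} (Subgroup.centralizer {torS hMul_sg (Z ζ a0)}) := by
  have h := sub_cent (hS := hMul_sg) (sgSys_grp chevE6 Ω) (C := {Z ζ a0}) fun m hm h => conn h0 m (by rwa [Set.image_singleton] at hm)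
    fun j hj => h _ (fun c hc => hc ▸ (chi_a0 h0 _).2 fun i hi => by
      rw [cor_sroot, Pi.single_eq_of_ne (fun q : i = j => hi (q ▸ hj))]) (isPos_sroot j)
  rw [Set.image_singleton] at h
  simpa only [Set.mem_singleton_iff, forall_eq, chi_a0 h0] using h

theorem main {K : Type u} [Field K] [Fintype K] (hK : Fintype.card K = 4) :
    (∀ x y : twistedE6 K 2, orderOf x = 5 → orderOf y = 5 → IsConj x y) ∧ ∀ x : twistedE6 K 2, orderOf x = 5 →
      Nonempty (Subgroup.centralizer {x} ≃* Multiplicative (ZMod 5) × alternatingGroup (Fin 8)) := by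
  obtain ⟨Ω, _, _, _, _, σ, π, T, hσ, _, hπ, hk⟩ := twA K hK
  obtain ⟨φ, hφ, hL⟩ := H05.TwD.d Ω
  have : NeZero ((5 : ℕ) : Ω) := ⟨fun q => absurd ((CharP.cast_eq_zero_iff Ω 2 5).1 q) (by decide)⟩
  obtain ⟨z0, hz⟩ := HasEnoughRootsOfUnity.exists_primitiveRoot Ω 5
  have h0 : IsPrimitiveRoot (hz.isUnit (by decide)).unit 5 := hz.isUnit_unit (by decide)
  generalize (hz.isUnit (by decide)).unit = ζ at h0
  obtain ⟨m, hm, hw⟩ := exists_n (S := sgSys chevE6 Ω) w0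
  have T' := T.conj m
  rw [hw] at T'
  obtain ⟨z, hz⟩ := T.fr.exists_conj m.1
  have hx (r) (hr : InJ J3 r) (t) : (MulAut.conj m.1 * σ) ((sgSys chevE6 Ω).x r t) = (sgSys chevE6 Ω).x r (t ^ 2) := by
    rw [MulAut.mul_apply, tw_x hσ, MulAut.conj_apply, n_conj1 m hm, hw, w0_Rg r hr]
  generalize MulAut.conj m.1 * σ = σ' at T' hz hx
  let j : fixS σ →* _ := (MulAut.conj z⁻¹).toMonoidHom.comp (fixS σ).subtype
  have hj : Function.Injective j := (MulAut.conj z⁻¹).injective.comp Subtype.val_injective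
  have hr : j.range = fixS σ' := Subgroup.ext fun y => by
    rw [hz]
    exact ⟨by rintro ⟨g, rfl⟩; simpa [j, mul_assoc] using g.2, fun h => ⟨⟨_, h⟩, by simp [j, mul_assoc]⟩⟩
  have hc (g) : π g = 1 ↔ j g ∈ Subgroup.center _ := (hk g).trans ⟨fun h => Subgroup.Normal.conj_mem' inferInstance _ h z |>
    fun q => by simpa [j] using q, fun h => by simpa [j, mul_assoc] using Subgroup.Normal.conj_mem inferInstance _ h z⟩
  have hZ := center_eq_map hMul_sg (sgSys_grp chevE6 Ω)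
  obtain ⟨t, ht⟩ := T'.exists_T hr (fix0 h0.pow_eq_one)
  replace ht : j t = torS hMul_sg (Z ζ a0) := ht
  have hM := sub0 h0
  have hLM : LJ (sgSys chevE6 Ω) J3 ≤ Subgroup.centralizer {torS hMul_sg (Z ζ a0)} ⊓ j.range :=
    (Subgroup.closure_le _).2 (by rintro _ ⟨r, h, rfl⟩; exact ⟨hM.x r h 1, hr.ge ((hx r h 1).trans (by rw [one_pow]; rfl))⟩)
  have hinj : Function.Injective (torS (hMul_sg (D := chevE6) (K := Ω))) := T.inj
  have : Fact (Nat.Prime 5) := ⟨Nat.prime_five⟩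
  have t5 : t ^ 5 = 1 := hj (by
    rw [map_pow, ht, ← map_pow, map_one, show Z ζ a0 ^ 5 = 1 from funext fun i => by
      rw [Pi.pow_apply, Z, ← zpow_natCast, zpow_comm, zpow_natCast, h0.pow_eq_one, one_zpow, Pi.one_apply], map_one])
  have t1 : t ≠ 1 := fun q => by
    rw [q, map_one, eq_comm, map_eq_one_iff _ hinj] at ht
    exact absurd ((h0.zpow_eq_one_iff_dvd (a0 ⟨0, by decide⟩)).1 (congrFun ht _)) (by decide +kernel)
  let φ' := (MonoidHom.ofInjective hj).symm.toMonoidHom.comp (φ.codRestrict j.range fun a => (hLM (hL.le ⟨a, rfl⟩)).2)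
  have jφ (a) : j (φ' a) = φ a := MonoidHom.apply_ofInjective_symm hj _
  have c2 (a) : Commute (φ' a) t := hj (by
    rw [map_mul, map_mul, jφ, ht]; exact Subgroup.mem_centralizer_singleton_iff.1 (hLM (hL.le ⟨a, rfl⟩)).1)
  have z1 (g) (h : π g = 1) : g ∈ Subgroup.center (fixS σ) := Subgroup.mem_center_iff.2 fun y => hj (by
    rw [map_mul, map_mul]; exact Subgroup.mem_center_iff.1 ((hc g).1 h) _)
  refine fin2 (alternatingGroup.center_eq_bot (by simp)) π hπ (fun g h => ⟨z1 g h, hj ?_⟩) (orderOf_eq_prime t5 t1) φ'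
    (fun a b h => hφ (by rw [← jφ, h, jφ])) c2 (fun g hg => ?_) fun g hg => ?_
  · obtain ⟨c, h1, h2⟩ := hZ.le ((hc g).1 h)
    rw [map_pow, ← h2, ← map_pow, cart3 h1, map_one, map_one]
  · let P : Subgroup (fixS σ) :=
      { carrier := {g | ∃ a, ∃ k : ℤ, ∃ y, π y = 1 ∧ g = φ' a * t ^ k * y}
        one_mem' := ⟨1, 0, 1, by simp, by simp⟩
        mul_mem' := by
          rintro _ _ ⟨a, k, y, h, rfl⟩ ⟨a', k', y', h', rfl⟩
          refine ⟨a * a', k + k', y * y', by rw [map_mul, h, h', one_mul], ?_⟩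
          rw [map_mul, zpow_add, mul_assoc _ y, ← Subgroup.mem_center_iff.1 (z1 y h), mul_assoc _ y', Subgroup.mem_center_iff.1 (z1 y h)]
          simp only [← mul_assoc]
          rw [mul_assoc (φ' a), ← ((c2 a').zpow_right k).eq, ← mul_assoc]
        inv_mem' := by
          rintro _ ⟨a, k, y, h, rfl⟩
          refine ⟨a⁻¹, -k, y⁻¹, by rw [map_inv, h, inv_one], ?_⟩
          rw [Subgroup.mem_center_iff.1 (z1 y h), ((c2 a).zpow_right k).eq]
          simp [mul_assoc] }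
    have h1 := Cfsg.Agent.H08.TwC.c Ω _ _ J3 _ hM (conn h0) σ' T'.N hx CharTwo.two_eq_zero
      (show j g ∈ _ from ⟨Subgroup.mem_centralizer_singleton_iff.2 (by rw [← ht, ← map_mul, hg.eq, map_mul]), hr.le ⟨g, rfl⟩⟩)
    have h2 : LJ (sgSys chevE6 Ω) J3 ⊔ (sgSys chevE6 Ω).H ⊓ fixS σ' ≤ P.map j := by
      refine sup_le (hL.ge.trans ?_) fun y ⟨q1, q2⟩ => ?_
      · rintro _ ⟨a, rfl⟩
        exact ⟨φ' a, ⟨a, 0, 1, by simp, by simp⟩, jφ a⟩
      obtain ⟨y, rfl⟩ := hr.ge q2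
      obtain ⟨c, q3, q4⟩ := (T'.mem_T hr).1 q1
      replace q4 : j y = torS hMul_sg c := q4
      obtain ⟨q5, η, q6, q7⟩ := fix1 q3
      obtain ⟨k, -, rfl⟩ := h0.eq_pow_of_mem_rootsOfUnity ((mem_rootsOfUnity _ _).2 q6)
      refine ⟨y, ⟨1, k * 2, (y ^ 5)⁻¹, ?_, hj ?_⟩, rfl⟩
      · rw [map_inv, inv_eq_one, hc, map_pow, q4, ← map_pow]
        exact hZ.ge ⟨_, q5, rfl⟩
      · rw [map_one, one_mul, map_mul, map_inv, map_pow, map_zpow, ht, q4, ← map_zpow, ← map_pow, ← map_inv, ← map_mul,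
          zpow_mul, show Z ζ a0 ^ (k : ℤ) = c ^ 3 from q7 ▸ funext fun i => by
            rw [Pi.pow_apply, Z, Z, ← zpow_natCast, zpow_comm]]
        congr 1
        group
    obtain ⟨y, q1, q2⟩ := h2 h1
    exact hj q2 ▸ q1
  · obtain ⟨x, c, e, w, hw⟩ := T.semisimple (fixS σ).range_subtype 2 (g := g) (by rw [hg]; decide)
    have e0 : (z⁻¹ * x)⁻¹ * j g * (z⁻¹ * x) = torS hMul_sg c := by
      rw [← show _ = torS hMul_sg c from e]; simp [j, mul_assoc]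
    have e1 : (z⁻¹ * x)⁻¹ * j g * (z⁻¹ * x)⁻¹⁻¹ = torS hMul_sg c := by rw [inv_inv, e0]
    have e2 : c ^ 5 = 1 := hinj (by
      rw [map_pow, ← e1, conj_pow, ← map_pow, ← hg, pow_orderOf_eq_one, map_one, map_one, mul_one, mul_inv_cancel])
    obtain ⟨v, hv⟩ := red h0 e2 hw
    obtain ⟨x', e3⟩ := conj_mact hMul_sg v e0
    rcases hv with hv | hv <;> rw [hv] at e3
    · rw [map_one, mul_assoc, inv_mul_eq_one, right_eq_mul, map_eq_one_iff _ hj] at e3
      rw [e3, orderOf_one] at hg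
      omega
    · obtain ⟨y, hy⟩ := T'.conj_T hr e3 (fix0 h0.pow_eq_one) hM
      exact isConj_iff.2 ⟨y, hj (hy.trans ht.symm)⟩

end H28.Tw
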