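import Mathlib
import Cfsg.Agent.L.Wt
import Cfsg.Agent.H09.Sp
import Cfsg.Agent.H05.Orth

/-!
# The Weil representation of `Sp_{2n}(q)`, `q` odd (namespace `H28.Wl`)

* `eig f ψ b`, `dec` : eigenspaces of a one-parameter family of operators
* `hs ψ u` : Heisenberg operators, `bs` the basis of `End` they form, `sg` the central involution
* `exists_weil` : the Weil representation
-/

set_option autoImplicit false
set_option linter.style.haveILetI false

open Module Matrix H09 Finset

namespace H28.Wl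

section Four
variable {F X : Type*} [Field F] [Fintype F] [AddCommGroup X] [Module ℂ X] {ψ : AddChar F ℂ}

theorem psi_ne (ψ : AddChar F ℂ) (a : F) : ψ a ≠ 0 := (ψ.val_isUnit a).ne_zero

theorem qne : (Fintype.card F : ℂ) ≠ 0 := Nat.cast_ne_zero.2 Fintype.card_ne_zero

theorem sum_psi [DecidableEq F] (hψ : ψ ≠ 1) (b : F) :
    ∑ c, ψ (c * b) = if b = 0 then (Fintype.card F : ℂ) else 0 := by
  rw [AddChar.sum_mulShift b (AddChar.IsPrimitive.of_ne_one hψ)]; split_ifs <;> simp

/-- Fourier coefficients -/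
noncomputable def coef (ψ : AddChar F ℂ) (f : F → ℂ) (c : F) : ℂ :=
  (Fintype.card F : ℂ)⁻¹ * ∑ s, f s * ψ (-(c * s))

theorem sum_coef (hψ : ψ ≠ 1) (f : F → ℂ) (b : F) : ∑ c, coef ψ f c * ψ (c * b) = f b := by
  classical
  simp only [coef, mul_assoc, ← mul_sum, sum_mul]
  rw [sum_comm]
  have : ∀ s, ∑ c, f s * (ψ (-(c * s)) * ψ (c * b)) = if s = b then f s * Fintype.card F else 0 := fun s => by
    simp only [← AddChar.map_add_eq_mul, ← mul_sum]
    rw [show (fun c => ψ (-(c * s) + c * b)) = fun c => ψ (c * (b - s)) from funext fun c => by ring_nf,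
      sum_psi hψ]
    simp [sub_eq_zero, eq_comm]
  simp only [this, sum_ite_eq', mem_univ, if_true]
  field_simp [qne (F := F)]

/-- eigenspace of a one-parameter family -/
noncomputable def eig (f : F → End ℂ X) (ψ : AddChar F ℂ) (b : F) : Submodule ℂ X := L.Wt.wt f fun c => ψ (c * b)

omit [Fintype F] in
theorem mem_eig {f : F → End ℂ X} {b : F} {y : X} : y ∈ eig f ψ b ↔ ∀ c, f c y = ψ (c * b) • y := Iff.rfl

theorem dec (hψ : ψ ≠ 1) {f : F → End ℂ X} (f0 : f 0 = 1) (fa : ∀ a b, f (a + b) = f a * f b)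
    {S N : Submodule ℂ X} (hS : ∀ c, ∀ y ∈ S, f c y ∈ S) (h : ∀ b, ∀ y ∈ S, y ∈ eig f ψ b → y ∈ N) : S ≤ N := by
  classical
  intro y hy
  have e : (Fintype.card F : ℂ) • y = ∑ b, ∑ c, ψ (c * -b) • f c y := by
    rw [sum_comm]
    simp only [← sum_smul]
    rw [sum_eq_single 0 _ (by simp)]
    · simp [f0]
    · intro c _ hc
      rw [show (fun b => ψ (c * -b)) = fun b => ψ (b * -c) from funext fun b => by ring_nf, sum_psi hψ]
      simp [hc]
  rw [← N.smul_mem_iff (qne (F := F)), e]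
  refine N.sum_mem fun b _ => h b _ (S.sum_mem fun c _ => S.smul_mem _ (hS c y hy)) fun d => ?_
  rw [map_sum, smul_sum]
  refine Fintype.sum_equiv (Equiv.addLeft d) _ _ fun c => ?_
  simp only [Equiv.coe_addLeft, map_smul, smul_smul, ← AddChar.map_add_eq_mul, fa, End.mul_apply]
  congr 2; ring

/-- two operators agreeing on all eigenvectors agree -/
theorem ext_eig (hψ : ψ ≠ 1) {f : F → End ℂ X} (f0 : f 0 = 1) (fa : ∀ a b, f (a + b) = f a * f b)
    {Y : Type*} [AddCommGroup Y] [Module ℂ Y] {A B : X →ₗ[ℂ] Y} (h : ∀ b, ∀ y ∈ eig f ψ b, A y = B y) : A = B :=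
  LinearMap.ext fun y => dec (S := ⊤) (N := LinearMap.eqLocus A B) hψ f0 fa (fun _ _ _ => trivial)
    (fun b y _ hy => h b y hy) (Submodule.mem_top (x := y))

theorem sum_eig {f : F → End ℂ X} {b : F} {y : X} (hy : y ∈ eig f ψ b) (k : F → ℂ) :
    (∑ c, k c • f c) y = (∑ c, k c * ψ (c * b)) • y := by
  simp only [LinearMap.sum_apply, LinearMap.smul_apply, mem_eig.1 hy, smul_smul, sum_smul]

end Four

section Heis
variable {l F : Type*} [Fintype l] [DecidableEq l] [Field F] [Fintype F] {ψ : AddChar F ℂ}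

local notation "B" => spB l F
local notation "G" => symplecticGroup l F

omit [Fintype F] in
theorem B_symm (u v : l ⊕ l → F) : B v u = -B u v := (spB_alt.neg_eq u v).symm

omit [Fintype F] in
@[simp] theorem B_self (u : l ⊕ l → F) : B u u = 0 := spB_alt.self_eq_zero u

variable (ψ) in
/-- Heisenberg operators -/
noncomputable def hs (u : l ⊕ l → F) : End ℂ ((l → F) → ℂ) where
  toFun f x := ψ (∑ i, (2 * x i + u (.inl i)) * u (.inr i)) * f (x + fun i => u (.inl i))
  map_add' f g := by ext x; simp [mul_add]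
  map_smul' c f := by ext x; simp [mul_left_comm]

omit [Fintype F] in
theorem hs_mul (u v : l ⊕ l → F) : hs ψ u * hs ψ v = ψ (B v u) • hs ψ (u + v) := by
  ext f x
  simp only [hs, End.mul_apply, LinearMap.coe_mk, AddHom.coe_mk, LinearMap.smul_apply, Pi.smul_apply,
    smul_eq_mul, ← mul_assoc, ← AddChar.map_add_eq_mul, spB_apply', ← sum_add_distrib, Pi.add_apply,
    LinearMap.coe_comp, Function.comp_apply]
  congr 2
  · exact sum_congr rfl fun i _ => by ring
  · ext i; simp [add_assoc]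

omit [Fintype F] [DecidableEq l] in
theorem hs_zero : hs ψ (0 : l ⊕ l → F) = 1 := by
  ext f x; simp [hs, ← Pi.zero_def]

omit [Fintype F] in
theorem hs_line (u : l ⊕ l → F) (a b : F) : hs ψ ((a + b) • u) = hs ψ (a • u) * hs ψ (b • u) := by
  simp [hs_mul, add_smul]

omit [Fintype F] [DecidableEq l] in
theorem hs_line0 (u : l ⊕ l → F) : hs ψ ((0 : F) • u) = 1 := by simp [hs_zero]

omit [Fintype F] in
theorem exists_psi (hψ : ψ ≠ 1) {u : l ⊕ l → F} (hu : u ≠ 0) {a : F} (ha : a ≠ 0) : ∃ v, ψ (a * B u v) ≠ 1 := by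
  obtain ⟨c, hc⟩ := AddChar.ne_one_iff.1 hψ
  obtain ⟨v, hv⟩ := exists_form_eq_one spB_nondeg hu
  exact ⟨(c / a) • v, by rwa [map_smul, hv, smul_eq_mul, mul_one, mul_div_cancel₀ _ ha]⟩

theorem finrank_M : finrank ℂ ((l → F) → ℂ) = Fintype.card F ^ Fintype.card l := by simp

variable (hψ : ψ ≠ 1) (h2 : (2 : F) ≠ 0)
include hψ h2

theorem trace_hs {u : l ⊕ l → F} (hu : u ≠ 0) : LinearMap.trace ℂ _ (hs ψ u) = 0 := by
  obtain ⟨v, hv⟩ := exists_psi hψ hu h2
  have h1 := LinearMap.trace_mul_comm ℂ (hs ψ v) (hs ψ u * hs ψ (-v))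
  rw [mul_assoc, hs_mul (-v), neg_add_cancel, hs_zero] at h1
  simp only [mul_one, hs_mul, mul_smul_comm, smul_smul, ← AddChar.map_add_eq_mul, map_smul, smul_eq_mul,
    neg_add_cancel, add_zero, map_neg, B_self, map_zero, LinearMap.neg_apply, neg_zero,
    LinearMap.zero_apply, AddChar.map_zero_eq_one, one_mul, map_add, LinearMap.add_apply, B_symm u v, neg_neg,
    show v + (u + -v) = u by abel, ← two_mul] at h1
  by_contra h
  exact hv (mul_right_cancel₀ h (h1.trans (one_mul _).symm))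

theorem li_hs : LinearIndependent ℂ (hs ψ : (l ⊕ l → F) → _) := by
  classical
  refine Fintype.linearIndependent_iff.2 fun c h w => ?_
  have := congrArg (fun T => LinearMap.trace ℂ _ (T * hs ψ (-w))) h
  simp only [sum_mul, smul_mul_assoc, hs_mul, map_sum, map_smul, zero_mul, map_zero] at this
  rw [sum_eq_single w (fun u _ hu => by rw [trace_hs hψ h2 (by rwa [Ne, add_neg_eq_zero])]; simp) (by simp)] at this
  simpa [hs_zero, qne] using this

/-- the Heisenberg operators form a basis -/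
noncomputable def bs : Basis (l ⊕ l → F) ℂ (End ℂ ((l → F) → ℂ)) := by
  classical
  exact basisOfLinearIndependentOfCardEqFinrank (li_hs hψ h2) (by
    rw [finrank_linearMap, finrank_M, ← pow_add]; simp)

theorem bs_apply (u : l ⊕ l → F) : bs hψ h2 u = hs ψ u := by
  simp [bs]

theorem hs_ind {S : Submodule ℂ (End ℂ ((l → F) → ℂ))} (h : ∀ u, hs ψ u ∈ S) (T : End ℂ ((l → F) → ℂ)) : T ∈ S := by
  have := (bs (l := l) hψ h2).mem_span T
  refine Submodule.span_le.2 ?_ this
  rintro _ ⟨u, rfl⟩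
  rw [bs_apply]; exact h u

theorem scalar_of_comm {T : End ℂ ((l → F) → ℂ)} (h : ∀ u, T * hs ψ u = hs ψ u * T) : ∃ c : ℂ, T = c • 1 := by
  obtain ⟨c, hc⟩ := (Algebra.IsCentral.mem_center_iff ℂ (x := T)).1 (Subalgebra.mem_center_iff.2 fun S =>
    (hs_ind hψ h2 (S := LinearMap.eqLocus (LinearMap.mulRight ℂ T) (LinearMap.mulLeft ℂ T))
      (fun u => (h u).symm) S :))
  exact ⟨c, hc.trans (Algebra.algebraMap_eq_smul_one c)⟩

omit hψ h2
variable (l ψ) in
/-- the central involution -/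
noncomputable def sg : End ℂ ((l → F) → ℂ) := by
  classical
  exact ((Fintype.card F : ℂ) ^ Fintype.card l)⁻¹ • ∑ u, hs ψ u

theorem sg_hs (v : l ⊕ l → F) : sg l ψ * hs ψ v = hs ψ (-v) * sg l ψ := by
  classical
  simp only [sg, smul_mul_assoc, mul_smul_comm, sum_mul, mul_sum, hs_mul]
  congr 1
  refine Fintype.sum_equiv (Equiv.addRight (v + v)) _ _ fun u => ?_
  simp [B_symm u v, show -v + (u + (v + v)) = u + v by abel]

theorem sg_comm {P : End ℂ ((l → F) → ℂ)} {g : G} (h : ∀ u, P * hs ψ u = hs ψ (g • u) * P) :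
    P * sg l ψ = sg l ψ * P := by
  classical
  simp only [sg, smul_mul_assoc, mul_smul_comm, sum_mul, mul_sum, h]
  congr 1
  exact Fintype.sum_equiv (MulAction.toPerm g) _ _ fun u => rfl

include hψ
theorem sg_sg : sg l ψ * sg l ψ = 1 := by
  classical
  have e : ∀ u : l ⊕ l → F, ∑ v, hs ψ u * hs ψ v = ∑ w, ψ (B w u) • hs ψ w := fun u =>
    Fintype.sum_equiv (Equiv.addLeft u) _ _ fun v => by simp [hs_mul]
  have e2 : ∀ w : l ⊕ l → F, w ≠ 0 → ∑ u, ψ (B w u) = 0 := fun w hw => by
    obtain ⟨v, hv⟩ := exists_psi hψ hw one_ne_zero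
    have := Fintype.sum_equiv (Equiv.addLeft v) (fun u => ψ (B w v) * ψ (B w u)) (fun u => ψ (B w u))
      fun u => by simp [AddChar.map_add_eq_mul]
    rw [← mul_sum] at this
    by_contra h
    exact hv (by rw [one_mul]; exact mul_right_cancel₀ h (this.trans (one_mul _).symm))
  rw [sg, smul_mul_assoc, mul_smul_comm, sum_mul]
  simp only [mul_sum, e]
  rw [sum_comm]
  simp only [← sum_smul]
  rw [sum_eq_single 0 (fun w _ hw => by rw [e2 w hw, zero_smul]) (by simp)]
  simp [hs_zero, smul_smul, pow_add, qne]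

include h2
theorem trace_sg : LinearMap.trace ℂ _ (sg l ψ) = 1 := by
  classical
  simp only [sg, map_smul, map_sum]
  rw [sum_eq_single 0 (fun w _ hw => trace_hs hψ h2 hw) (by simp)]
  simp [hs_zero, qne]

omit hψ h2
/-- eigenspaces of the Heisenberg operators along a line -/
noncomputable abbrev he (ψ : AddChar F ℂ) (u : l ⊕ l → F) (b : F) := eig (fun d : F => hs ψ (d • u)) ψ b

omit [Fintype F] in
theorem hs_he {u : l ⊕ l → F} {b : F} {y} (hy : y ∈ he ψ u b) (v : l ⊕ l → F) :
    hs ψ v y ∈ he ψ u (b + 2 * B v u) := fun d => by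
  have h1 : hs ψ (d • u) * hs ψ v = ψ (d * (2 * B v u)) • (hs ψ v * hs ψ (d • u)) := by
    simp only [hs_mul, smul_smul, ← AddChar.map_add_eq_mul, add_comm v, map_smul, LinearMap.smul_apply,
      B_symm v u, smul_eq_mul]
    congr 2; ring
  change (hs ψ (d • u) * hs ψ v) y = _
  rw [h1, LinearMap.smul_apply, End.mul_apply, mem_eig.1 hy, map_smul, smul_smul, ← AddChar.map_add_eq_mul]
  congr 2; ring

variable (ψ) in
/-- the operator of a transvection -/
noncomputable def tv (u : l ⊕ l → F) (c : F) : End ℂ ((l → F) → ℂ) :=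
  ∑ d, coef ψ (fun b => ψ (c * (b / 2) ^ 2)) d • hs ψ (d • u)

theorem tv_conj {P : End ℂ ((l → F) → ℂ)} {g : G} (h : ∀ u, P * hs ψ u = hs ψ (g • u) * P) (u c) :
    P * tv ψ u c = tv ψ (g • u) c * P := by
  simp only [tv, mul_sum, sum_mul, mul_smul_comm, smul_mul_assoc, h, smul_comm g]

include hψ
theorem tv_he {u : l ⊕ l → F} {b : F} {y} (hy : y ∈ he ψ u b) (c : F) : tv ψ u c y = ψ (c * (b / 2) ^ 2) • y := by
  rw [tv, sum_eig hy, sum_coef hψ]

omit [DecidableEq l] in
theorem ext_he [DecidableEq l] (u : l ⊕ l → F) {A A' : End ℂ ((l → F) → ℂ)} (h : ∀ b, ∀ y ∈ he ψ u b, A y = A' y) :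
    A = A' := ext_eig hψ (hs_line0 u) (hs_line u) h

theorem tv_add (u : l ⊕ l → F) (c d : F) : tv ψ u (c + d) = tv ψ u c * tv ψ u d :=
  ext_he hψ u fun b y hy => by
    simp only [End.mul_apply, tv_he hψ hy, map_smul, smul_smul, ← AddChar.map_add_eq_mul]
    congr 2; ring

theorem tv_zero (u : l ⊕ l → F) : tv ψ u 0 = 1 := ext_he hψ u fun b y hy => by simp [tv_he hψ hy]

include h2
theorem tv_hs (u : l ⊕ l → F) (c : F) (v) : tv ψ u c * hs ψ v = hs ψ (spTv u c • v) * tv ψ u c :=
  ext_he hψ u fun b y hy => by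
    have h1 : hs ψ (v + (c * B v u) • u) = ψ (c * B v u * B v u) • (hs ψ v * hs ψ ((c * B v u) • u)) := by
      simp [hs_mul, smul_smul, ← AddChar.map_add_eq_mul, B_symm v u]
    simp only [End.mul_apply, tv_he hψ hy, tv_he hψ (hs_he hy v), spTv_smul, h1, map_smul, smul_smul,
      LinearMap.smul_apply, mem_eig.1 hy, ← AddChar.map_add_eq_mul]
    congr 2; field_simp; ring

theorem tv_rel {v w : l ⊕ l → F} (h : B w v = 0) (c : F) :
    tv ψ (v + w) c * tv ψ (v - w) c = tv ψ v (2 * c) * tv ψ w (2 * c) :=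
  ext_he hψ v fun b y hy => dec (N := LinearMap.eqLocus _ _) hψ (hs_line0 w) (hs_line w)
    (fun d y hy => by simpa [h] using hs_he hy (d • w)) (fun b' y h1 h3 => by
      have h4 : ∀ e : F, y ∈ he ψ (v + e • w) (b + e * b') := fun e d => by
        have : hs ψ (d • (v + e • w)) = hs ψ (d • v) * hs ψ ((d * e) • w) := by
          simp [hs_mul, h, mul_smul]
        simp only [this, End.mul_apply, mem_eig.1 h3, mem_eig.1 h1, map_smul, smul_smul, ← AddChar.map_add_eq_mul]
        congr 2; ring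
      have h5 := h4 1
      have h6 := h4 (-1)
      rw [one_smul] at h5
      rw [neg_one_smul, ← sub_eq_add_neg] at h6
      simp only [LinearMap.mem_eqLocus, End.mul_apply, tv_he hψ h1, tv_he hψ h3, tv_he hψ h5, tv_he hψ h6,
        map_smul, smul_smul, ← AddChar.map_add_eq_mul]
      congr 2; field_simp; ring) hy

theorem isProj_sg {ε : ℂ} (hε : ε * ε = 1) :
    LinearMap.IsProj ((sg l ψ).eigenspace ε) ((2 : ℂ)⁻¹ • (1 + ε • sg l ψ)) := by
  have := fun y => LinearMap.congr_fun (sg_sg (l := l) hψ) y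
  simp only [End.mul_apply, End.one_apply] at this
  refine ⟨fun y => End.mem_eigenspace_iff.2 ?_, fun y hy => ?_⟩
  · simp only [LinearMap.smul_apply, LinearMap.add_apply, End.one_apply, map_smul, map_add, this, smul_add,
      smul_smul]
    rw [add_comm, mul_left_comm, hε, mul_one, mul_comm]
  · simp only [LinearMap.smul_apply, LinearMap.add_apply, End.one_apply, End.mem_eigenspace_iff.1 hy, smul_smul, hε,
      one_smul, ← two_smul ℂ y]
    simp

theorem finrank_pm {ε : ℂ} (hε : ε * ε = 1) :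
    (2 * finrank ℂ ((sg l ψ).eigenspace ε) : ℂ) = Fintype.card F ^ Fintype.card l + ε := by
  rw [← (isProj_sg hψ h2 hε).trace]
  simp [trace_sg hψ h2, mul_add]

omit hψ h2
/-- the even and odd parts -/
noncomputable def pm {H : Type*} [Group H] (R : Representation ℂ H ((l → F) → ℂ)) (h : ∀ g, R g * sg l ψ = sg l ψ * R g) (ε : ℂ) :
    Subrepresentation R :=
  ⟨(sg l ψ).eigenspace ε, fun g y hy => End.mem_eigenspace_iff.2 (by
    rw [← End.mul_apply, ← h, End.mul_apply, End.mem_eigenspace_iff.1 hy, map_smul])⟩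

variable (l ψ) in
/-- the normaliser of the Heisenberg group -/
def nm : Subgroup ((End ℂ ((l → F) → ℂ))ˣ × G) where
  carrier := {x | ∀ u, x.1.1 * hs ψ u = hs ψ (x.2 • u) * x.1.1}
  one_mem' := fun u => by simp
  mul_mem' := fun {x y} hx hy u => by
    simp only [Prod.fst_mul, Units.val_mul, Prod.snd_mul, mul_smul, mul_assoc, hy u]
    simp only [← mul_assoc, hx _]
  inv_mem' := fun {x} hx u => by
    have := hx (x.2⁻¹ • u)
    rw [smul_inv_smul] at this
    simp only [Prod.fst_inv, Prod.snd_inv]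
    rw [Units.inv_mul_eq_iff_eq_mul, ← mul_assoc, this, Units.mul_inv_cancel_right]

omit [Fintype F] in
theorem spTv_rel {v w : l ⊕ l → F} (h : B w v = 0) (c : F) :
    spTv (v + w) c * spTv (v - w) c = spTv v (2 * c) * spTv w (2 * c) := sp_ext fun x => by
  simp only [mul_smul, spTv_smul, map_add, map_sub, map_smul, LinearMap.add_apply, LinearMap.sub_apply,
    LinearMap.smul_apply, B_self, h, B_symm w v, smul_eq_mul]
  module

include hψ h2 in
theorem exists_weil (hl : 2 ≤ Fintype.card l) : ∃ W : Representation ℂ G ((l → F) → ℂ),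
    (∀ g u, W g * hs ψ u = hs ψ (g • u) * W g) ∧ ∀ u c, W (spTv u c) = tv ψ u c := by
  let R : Representation ℂ (nm l ψ) ((l → F) → ℂ) :=
    (Units.coeHom _).comp ((MonoidHom.fst _ _).comp (nm l ψ).subtype)
  have hR : ∀ x, R x * sg l ψ = sg l ψ * R x := fun x => sg_comm x.2
  let D : ℂ → (nm l ψ →* ℂˣ) := fun ε => (LinearMap.det.comp (pm R hR ε).toRepresentation).toHomUnits
  let δ := D 1 / D (-1)
  let τ : (l ⊕ l → F) → F → nm l ψ := fun u c => ⟨(⟨tv ψ u c, tv ψ u (-c), by
    rw [← tv_add hψ, add_neg_cancel, tv_zero hψ], by rw [← tv_add hψ, neg_add_cancel, tv_zero hψ]⟩, spTv u c),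
    tv_hs hψ h2 u c⟩
  let p : nm l ψ →* G := (MonoidHom.snd _ _).comp (nm l ψ).subtype
  have h1 : ∀ (x : nm l ψ) u c, x * τ u c = τ (p x • u) c * x := fun x u c =>
    Subtype.ext (Prod.ext (Units.ext (tv_conj x.2 u c)) (by
      change p x * spTv u c = spTv _ c * p x
      rw [← spTv_conj, inv_mul_cancel_right]))
  have h3 : ∀ u v c, u ≠ 0 → v ≠ 0 → δ (τ u c) = δ (τ v c) := fun u v c hu hv => by
    obtain ⟨g, rfl⟩ := spAct_sp.exists_smul_eq hu hv
    obtain ⟨x, rfl⟩ : g ∈ p.range := by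
      rw [sp_eq_top_of_tv_mem p.range fun u c => ⟨τ u c, rfl⟩]; trivial
    have := congrArg δ (h1 x u c)
    rwa [map_mul, map_mul, mul_comm, mul_left_inj] at this
  have h4 : ∀ u c d, τ u (c + d) = τ u c * τ u d := fun u c d =>
    Subtype.ext (Prod.ext (Units.ext (tv_add hψ u c d)) (spTv_add u c d))
  have h5 : ∀ u c, δ (τ u c) = 1 := fun u c => by
    obtain ⟨v, w, hB, k⟩ : ∃ v w, B w v = 0 ∧ ∀ x ∈ [v + w, v - w, v, w], ∀ c, δ (τ x c) = δ (τ u c) := by
      by_cases hu : u = 0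
      · exact ⟨0, 0, by simp, by simp [hu]⟩
      obtain ⟨i, j, hij⟩ := Fintype.exists_pair_of_one_lt_card hl
      refine ⟨Pi.single (.inl i) 1, Pi.single (.inl j) 1, by simp [spB_single_inl], fun x hx c =>
        h3 _ _ _ (fun h => ?_) hu⟩
      simp only [List.mem_cons, List.not_mem_nil, or_false] at hx
      have h1 := congrFun h (.inl i)
      have h2 := congrFun h (.inl j)
      rcases hx with rfl | rfl | rfl | rfl <;> simp [hij] at h1 h2
    have := congrArg δ (show τ (v + w) (c / 2) * τ (v - w) (c / 2) = τ v (2 * (c / 2)) * τ w (2 * (c / 2)) from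
      Subtype.ext (Prod.ext (Units.ext (tv_rel hψ h2 hB _)) (spTv_rel hB _)))
    rw [map_mul, map_mul, k (v + w) (by simp), k (v - w) (by simp), k v (by simp),
      k w (by simp), ← map_mul, ← h4, ← two_mul, mul_div_cancel₀ _ h2] at this
    exact (left_eq_mul.1 this)
  have h6 : Function.Bijective (p.comp δ.ker.subtype) := by
    refine ⟨(injective_iff_map_eq_one _).2 fun x hx => ?_, MonoidHom.range_eq_top.1
      (sp_eq_top_of_tv_mem _ fun u c => ⟨⟨τ u c, h5 u c⟩, rfl⟩)⟩
    obtain ⟨c, hc⟩ := scalar_of_comm hψ h2 (T := R x) fun u => by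
      have := x.1.2 u
      rwa [show x.1.1.2 = 1 from hx, one_smul] at this
    have hD : ∀ ε, (D ε x : ℂ) = c ^ finrank ℂ ((sg l ψ).eigenspace ε) := fun ε => by
      have : (pm R hR ε).toRepresentation x = c • 1 := by
        ext y; simp [Subrepresentation.toRepresentation, hc]
      simp only [D, MonoidHom.coe_toHomUnits, MonoidHom.comp_apply, this, LinearMap.det_smul, map_one, mul_one]
      rfl
    have hd : finrank ℂ ((sg l ψ).eigenspace 1) = finrank ℂ ((sg l ψ).eigenspace (-1)) + 1 := by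
      have a := finrank_pm (l := l) hψ h2 (ε := 1) (by simp)
      have b := finrank_pm (l := l) hψ h2 (ε := -1) (by simp)
      exact Nat.cast_injective (R := ℂ) (by push_cast; linear_combination (a - b) / 2)
    have h7 : D 1 x = D (-1) x := div_eq_one.1 x.2
    have h8 := hD 1
    rw [h7, hd, pow_succ, ← hD] at h8
    rw [left_eq_mul₀ (Units.ne_zero _)] at h8
    exact Subtype.ext (Subtype.ext (Prod.ext (Units.ext (hc.trans (by simp [h8]))) hx))
  let e := MulEquiv.ofBijective _ h6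
  refine ⟨R.comp (δ.ker.subtype.comp e.symm.toMonoidHom), fun g u => ?_, fun u c => ?_⟩
  · have := (e.symm g).1.2 u
    rwa [show (e.symm g).1.1.2 = g from e.apply_symm_apply g] at this
  · have : e.symm (spTv u c) = ⟨τ u c, h5 u c⟩ := e.symm_apply_eq.2 rfl
    change R (e.symm (spTv u c)).1 = _
    rw [this]; rfl

end Heis

end H28.Wl
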