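import Mathlib
import Cfsg.Agent.H28.Wl1
import Cfsg.Agent.H05.RepEquiv

/-!
# Recognition of the Weil representations (namespace `H28.Wl`)

* `te ψ ρ u b` : eigenspaces of the root subgroups; hypotheses `Rk1`, `Sq`
* `unif` : uniform type, `rel` : the Heisenberg relations, `exists_phi`
-/

set_option autoImplicit false
set_option linter.style.haveILetI false

open Module Matrix H09 Finset

namespace H28.Wl

variable {l F X : Type*} [Fintype l] [DecidableEq l] [Field F] [Fintype F] {ψ : AddChar F ℂ}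
  [AddCommGroup X] [Module ℂ X] {ρ : Representation ℂ (symplecticGroup l F) X}

local notation "B" => spB l F
local notation "G" => symplecticGroup l F

theorem eig_eq (hψ : ψ ≠ 1) {f : F → End ℂ X} {b b' : F} {y : X} (h : y ∈ eig f ψ b) (h' : y ∈ eig f ψ b')
    (h0 : y ≠ 0) : b = b' :=
  L.Wt.eq_of_mulShift hψ fun c => smul_left_injective ℂ h0 ((h c).symm.trans (h' c))

variable (ψ ρ) in
/-- eigenspaces of a root subgroup -/
noncomputable abbrev te (u : l ⊕ l → F) (b : F) := eig (fun c => ρ (spTv u c)) ψ b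

variable (ψ ρ) in
/-- a function of the root subgroup -/
noncomputable def op (u : l ⊕ l → F) (f : F → ℂ) : End ℂ X := ∑ c, coef ψ f c • ρ (spTv u c)

variable (ψ ρ) in
/-- all weights have rank at most one -/
def Rk1 : Prop := ∀ z w, B w z = 0 → ∀ b b' b'' y, y ∈ te ψ ρ z b → y ∈ te ψ ρ w b' → y ∈ te ψ ρ (z + w) b'' →
  y ≠ 0 → (b'' - b - b') ^ 2 = 4 * (b * b')

variable (ψ ρ) in
/-- all weights are squares -/
def Sq : Prop := ∀ u b y, y ∈ te ψ ρ u b → y ≠ 0 → IsSquare b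

omit [Fintype F] in
theorem te_map {u : l ⊕ l → F} {b : F} {y : X} (hy : y ∈ te ψ ρ u b) (g : G) : ρ g y ∈ te ψ ρ (g • u) b :=
  mem_eig.2 fun c => by
  rw [← spTv_conj, ← End.mul_apply, ← map_mul, inv_mul_cancel_right, map_mul, End.mul_apply, mem_eig.1 hy, map_smul]

omit [Fintype F] in
theorem te_tv {u w : l ⊕ l → F} (h : B u w = 0) {b : F} (c : F) (y : X) (hy : y ∈ te ψ ρ u b) :
    ρ (spTv w c) y ∈ te ψ ρ u b := by simpa [spTv_smul, h] using te_map hy (spTv w c)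

omit [Fintype F] in
theorem te_smul {u : l ⊕ l → F} {b : F} {y : X} (hy : y ∈ te ψ ρ u b) (d : F) : y ∈ te ψ ρ (d • u) (d ^ 2 * b) :=
  mem_eig.2 fun c => by rw [spTv_smul_left, mem_eig.1 hy]; congr 2; ring

theorem te_op {u w : l ⊕ l → F} (h : B u w = 0) {b : F} (f : F → ℂ) {y : X} (hy : y ∈ te ψ ρ u b) :
    op ψ ρ w f y ∈ te ψ ρ u b := by
  rw [op, LinearMap.sum_apply]
  exact Submodule.sum_mem _ fun c _ => Submodule.smul_mem _ _ (te_tv h c y hy)

/-- elements of the unipotent radical of a point stabiliser -/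
def qq (z w : l ⊕ l → F) (c : F) : G := spTv (z + w) c * spTv z (-c) * spTv w (-c)

omit [Fintype F] in
theorem qq_smul {z w : l ⊕ l → F} (h : B w z = 0) (c : F) (x : l ⊕ l → F) :
    qq z w c • x = x + (c * B x z) • w + (c * B x w) • z := by
  simp only [qq, mul_smul, spTv_smul, map_add, map_smul, LinearMap.add_apply,
    LinearMap.smul_apply, B_self, h, B_symm w z, smul_eq_mul]
  module

omit [Fintype F] in
theorem qq_te {z w : l ⊕ l → F} {b b' b'' : F} {y : X} (h : y ∈ te ψ ρ z b) (h' : y ∈ te ψ ρ w b')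
    (h'' : y ∈ te ψ ρ (z + w) b'') (c : F) : ρ (qq z w c) y = ψ (c * (b'' - b - b')) • y := by
  simp only [qq, map_mul, End.mul_apply, mem_eig.1 h, mem_eig.1 h', mem_eig.1 h'', map_smul, smul_smul,
    ← AddChar.map_add_eq_mul]
  congr 2; ring

omit [Fintype F] in
theorem qq_mul {z u v : l ⊕ l → F} (hu : B u z = 0) (hv : B v z = 0) (c : F) :
    qq z u c * qq z v c = qq z (u + v) c * spTv z (c ^ 2 * B v u) := sp_ext fun x => by
  simp only [mul_smul, qq_smul hu, qq_smul hv, qq_smul (show B (u + v) z = 0 by simp [hu, hv]), spTv_smul,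
    map_add, map_smul, LinearMap.add_apply, LinearMap.smul_apply, B_self, hu, hv, B_symm u z, B_symm v z, smul_eq_mul]
  module

variable (hψ : ψ ≠ 1)
include hψ

theorem tdec (u : l ⊕ l → F) {S N : Submodule ℂ X} (hS : ∀ c, ∀ y ∈ S, ρ (spTv u c) y ∈ S)
    (h : ∀ b, ∀ y ∈ S, y ∈ te ψ ρ u b → y ∈ N) : S ≤ N :=
  dec hψ (by simp [spTv_zero]) (fun a b => by simp [spTv_add]) hS h

theorem ext_te (u : l ⊕ l → F) {A A' : End ℂ X} (h : ∀ b, ∀ y ∈ te ψ ρ u b, A y = A' y) : A = A' :=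
  ext_eig hψ (by simp [spTv_zero]) (fun a b => by simp [spTv_add]) h

theorem op_te {u : l ⊕ l → F} {b : F} {y : X} (hy : y ∈ te ψ ρ u b) (f : F → ℂ) : op ψ ρ u f y = f b • y := by
  rw [op, sum_eig hy, sum_coef hψ]

theorem dec3 {z w : l ⊕ l → F} (hB : B w z = 0) {b : F} {N : Submodule ℂ X}
    (h : ∀ b' b'' y, y ∈ te ψ ρ z b → y ∈ te ψ ρ w b' → y ∈ te ψ ρ (z + w) b'' → y ∈ N) : te ψ ρ z b ≤ N :=
  tdec hψ w (te_tv (by rw [B_symm, hB, neg_zero])) fun b' _ h1 h2 =>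
    tdec (S := te ψ ρ z b ⊓ te ψ ρ w b') hψ (z + w)
      (fun c y hy => ⟨te_tv (by simp [B_symm w z, hB]) c y hy.1, te_tv (by simp [hB]) c y hy.2⟩)
      (fun b'' y hy h3 => h b' b'' y hy.1 hy.2 h3) ⟨h1, h2⟩

variable (hR : Rk1 ψ ρ)
include hR

theorem fix_qq {z w : l ⊕ l → F} (hB : B w z = 0) {y : X} (hy : y ∈ te ψ ρ z 0) (c : F) : ρ (qq z w c) y = y :=
  dec3 (N := LinearMap.eqLocus (ρ (qq z w c)) LinearMap.id) hψ hB (fun b' b'' y h1 h2 h3 => by
    by_cases h0 : y = 0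
    · simp [h0]
    have := hR z w hB _ _ _ y h1 h2 h3 h0
    rw [zero_mul, mul_zero, pow_eq_zero_iff two_ne_zero] at this
    rw [LinearMap.mem_eqLocus, qq_te h1 h2 h3, this]; simp) hy

theorem fix_step {z z' x : l ⊕ l → F} {y : X} (hy : y ∈ te ψ ρ z 0) (hy' : y ∈ te ψ ρ z' 0) (h : B z' z ≠ 0)
    (hx : B x z ≠ 0) : y ∈ te ψ ρ x 0 := by
  have h1 : y ∈ te ψ ρ ((B x z / B z' z) • z') 0 := by simpa using te_smul hy' (B x z / B z' z)
  have h2 : B ((B x z / B z' z) • z') z = B x z := by simp [h]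
  generalize (B x z / B z' z) • z' = v at h1 h2
  have h3 : B ((B x z)⁻¹ • (x - v)) z = 0 := by simp [h2]
  have h4 := te_map (te_map h1 (qq z ((B x z)⁻¹ • (x - v)) 1)) (spTv z (-(B v ((B x z)⁻¹ • (x - v))) / B x z))
  rw [fix_qq hψ hR h3 hy, mem_eig.1 hy, qq_smul h3, spTv_smul] at h4
  simp only [mul_zero, AddChar.map_zero_eq_one, one_smul, one_mul, h2, smul_inv_smul₀ hx, add_sub_cancel,
    map_add, LinearMap.add_apply, map_smul _ _ z, LinearMap.smul_apply, B_self, smul_zero, add_zero,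
    div_mul_cancel₀ _ hx, neg_smul, add_neg_cancel_right] at h4
  exact h4

theorem fix_all {z z' : l ⊕ l → F} {y : X} (hy : y ∈ te ψ ρ z 0) (hy' : y ∈ te ψ ρ z' 0) (h : B z' z ≠ 0) (g : G) :
    ρ g y = y := by
  let S : Subgroup G :=
    { carrier := {g | ρ g y = y}
      one_mem' := by simp
      mul_mem' := fun {a b} ha hb => by simp only [Set.mem_setOf_eq] at *; rw [map_mul, End.mul_apply, hb, ha]
      inv_mem' := fun {a} ha => by
        simp only [Set.mem_setOf_eq] at *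
        conv_lhs => rw [← ha, ← End.mul_apply, ← map_mul, inv_mul_cancel, map_one, End.one_apply] }
  suffices h : S = ⊤ from (h ▸ Subgroup.mem_top g : g ∈ S)
  refine sp_eq_top_of_tv_mem S fun x c => ?_
  by_cases hx : x = 0
  · rw [hx, spTv_zero_left]; exact S.one_mem
  obtain ⟨x', hx'⟩ := exists_form_eq_one (spB_nondeg (l := l) (F := F)) hx
  obtain ⟨v, -, h1, h2⟩ := exists_ne_zero₂ (W := ⊤) (f := B x) (g := B z) ⟨x', trivial, by simp [hx']⟩
    ⟨z', trivial, by rwa [B_symm, neg_ne_zero]⟩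
  have h3 := fix_step hψ hR hy hy' h (x := v) (by rwa [B_symm, neg_ne_zero])
  simpa [S] using mem_eig.1 (fix_step hψ hR h3 hy h2 h1) c

variable (hl : 2 ≤ Fintype.card l) (hf : ∀ y, (∀ g, ρ g y = y) → y = 0)
include hl hf

theorem gen (u v : l ⊕ l → F) {N : Submodule ℂ X}
    (h1 : ∀ x, B u x = 0 → B v x = 0 → ∀ b ≠ 0, te ψ ρ x b ≤ N)
    (h0 : B v u = 0 → ∀ y, (∀ x, B u x = 0 → B v x = 0 → y ∈ te ψ ρ x 0) → y ∈ N) (y : X) : y ∈ N := by
  classical
  let L : Subgroup G :=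
    { carrier := {g | ∀ y, y - ρ g y ∈ N}
      one_mem' := by simp
      mul_mem' := fun {a b} ha hb y => by simpa using N.add_mem (hb y) (ha (ρ b y))
      inv_mem' := fun {a} ha y => by simpa using N.neg_mem (ha (ρ a⁻¹ y)) }
  haveI : Fintype L := Fintype.ofFinite L
  have h2 : ∀ x, B u x = 0 → B v x = 0 → ∑ g : L, ρ g y ∈ te ψ ρ x 0 := fun x hu hv c => by
    have : spTv x c ∈ L := fun y => (tdec (ρ := ρ) (S := ⊤) (N := N.comap (1 - ρ (spTv x c))) hψ x (fun _ _ _ => trivial)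
      (fun b y _ hy => by
        by_cases hb : b = 0
        · simp [mem_eig.1 hy, hb]
        · simpa [mem_eig.1 hy] using N.sub_mem (h1 x hu hv b hb hy) (N.smul_mem _ (h1 x hu hv b hb hy)))
      (Submodule.mem_top (x := y)) : (1 - ρ (spTv x c)) y ∈ N)
    simp only [map_sum, mul_zero, AddChar.map_zero_eq_one, one_smul]
    exact Fintype.sum_equiv (Equiv.mulLeft (⟨_, this⟩ : L)) _ _ fun g => by simp
  have h3 : ∑ g : L, ρ g y ∈ N := by
    by_cases hB : B v u = 0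
    · exact h0 hB _ h2
    let p : (l ⊕ l → F) → l ⊕ l → F := fun x => x - (B v x / B v u) • u + (B u x / B v u) • v
    have hu : ∀ x, B u (p x) = 0 := fun x => by simp [p, B_symm v u, hB]
    have hv : ∀ x, B v (p x) = 0 := fun x => by simp [p, hB]
    obtain ⟨x, hx⟩ : ∃ x, p x ≠ 0 := by
      by_contra! h
      have : (⊤ : Submodule F (l ⊕ l → F)) ≤ Submodule.span F {u, v} := fun x _ => Submodule.mem_span_pair.2
        ⟨B v x / B v u, -(B u x / B v u), by linear_combination (norm := module) -(h x)⟩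
      have h4 := (Submodule.finrank_mono this).trans (finrank_span_le_card _)
      have h5 : ({u, v} : Finset _).card ≤ 2 := card_le_two
      simp at h4; omega
    obtain ⟨x', hx'⟩ := exists_form_eq_one (spB_nondeg (l := l) (F := F)) hx
    have h4 : B (p x) (p x') ≠ 0 := by
      conv => enter [1, 2]; simp only [p]
      simp [hx', B_symm u (p x), B_symm v (p x), hu, hv]
    rw [hf _ (fix_all hψ hR (h2 _ (hu _) (hv _)) (h2 _ (hu _) (hv _)) h4)]
    exact N.zero_mem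
  have h4 : (Fintype.card L : ℂ) • y = ∑ g : L, (y - ρ g y) + ∑ g : L, ρ g y := by
    simp [Nat.cast_smul_eq_nsmul]
  rw [← N.smul_mem_iff (show (Fintype.card L : ℂ) ≠ 0 by simp), h4]
  exact N.add_mem (N.sum_mem fun g _ => g.2 y) h3

omit hR hl hf in
theorem op_mem [DecidableEq F] (u : l ⊕ l → F) (b : F) (y : X) : op ψ ρ u (Pi.single b 1) y ∈ te ψ ρ u b :=
  tdec (S := ⊤) (N := (te ψ ρ u b).comap (op ψ ρ u (Pi.single b 1))) hψ u (fun _ _ _ => trivial)
    (fun b' y _ hy => by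
      rw [Submodule.mem_comap, op_te hψ hy]
      by_cases h : b' = b
      · exact Submodule.smul_mem _ _ (h ▸ hy)
      · simp [h]) (Submodule.mem_top (x := y))

omit hl hf in
theorem orth0 [DecidableEq F] (h2 : (2 : F) ≠ 0) {z w : l ⊕ l → F} (hB : B w z = 0) {a b : F} (h : ¬ IsSquare (a * b)) {y : X}
    (hy : y ∈ te ψ ρ z a) : op ψ ρ w (Pi.single b 1) y = 0 :=
  dec3 (N := LinearMap.ker (op ψ ρ w (Pi.single b 1))) hψ hB (fun b' b'' y h1 h3 h4 => by
    rw [LinearMap.mem_ker, op_te hψ h3]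
    by_cases h0 : y = 0
    · simp [h0]
    by_cases hb : b' = b
    · exact (h ⟨(b'' - a - b') / 2, by
        have h5 : (4 : F) ≠ 0 := by simpa [show (4 : F) = 2 * 2 by norm_num] using h2
        field_simp; linear_combination -hR z w hB _ _ _ y h1 h3 h4 h0 - 4 * a * hb⟩).elim
    · simp [hb]) hy

theorem unif (h2 : (2 : F) ≠ 0) (hi : ∀ U : Submodule ℂ X, (∀ g, ∀ v ∈ U, ρ g v ∈ U) → U = ⊥ ∨ U = ⊤) {ν : F}
    (hν : ¬ IsSquare ν) : Sq ψ ρ ∨ Sq (ψ.mulShift ν) ρ := by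
  classical
  have sq : ∀ a b : F, ¬ IsSquare a → ¬ IsSquare b → IsSquare (a * b) := fun a b ha hb => by
    have := quadraticChar_neg_one_iff_not_isSquare.2 ha
    have := quadraticChar_neg_one_iff_not_isSquare.2 hb
    refine (quadraticChar_one_iff_isSquare fun h => ?_).1 (by rw [map_mul, this, ‹quadraticChar F a = -1›]; simp)
    rcases mul_eq_zero.1 h with rfl | rfl <;> simp at ha hb
  refine or_iff_not_imp_left.2 fun h w b y hy y0 => ?_
  simp only [Sq, not_forall] at h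
  obtain ⟨z, a, x, hx, x0, ha⟩ := h
  by_contra hb
  obtain ⟨s, hs⟩ := sq _ _ hν hb
  have s0 : s ≠ 0 := by
    rintro rfl
    rcases mul_eq_zero.1 (hs.trans (mul_zero _)) with rfl | rfl <;> simp at hν hb
  have h1 : ∀ z, te ψ ρ z a ≤ LinearMap.ker (op ψ ρ w (Pi.single (s * s) 1)) := fun z x hx => by
    have hab : ¬ IsSquare (a * (s * s)) := fun ⟨r, hr⟩ => ha ⟨r / s, by field_simp; linear_combination hr⟩
    have := gen hψ hR hl hf z w (N := LinearMap.ker (op ψ ρ w (Pi.single (s * s) 1) * op ψ ρ z (Pi.single a 1)))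
      (fun v h1 h3 b' b0 y hy => by
        rw [LinearMap.mem_ker, End.mul_apply]
        by_cases h : IsSquare (b' * a)
        · refine orth0 hψ hR h2 h3 (fun ⟨r, hr⟩ => ha ?_) (te_op (by rw [B_symm, h1, neg_zero]) _ hy)
          obtain ⟨t, ht⟩ := h
          have r0 : r ≠ 0 := by rintro rfl; simp [b0, s0] at hr
          exact ⟨t * s / r, by field_simp; linear_combination s * s * ht - a * hr⟩
        · rw [orth0 hψ hR h2 h1 h hy, map_zero])
      (fun h y _ => orth0 hψ hR h2 h hab (op_mem hψ z a y)) x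
    simpa [op_te hψ hx] using this
  have h3 : (⨆ z, te ψ ρ z a) = ⊤ := (hi _ fun g v hv => (show (⨆ z, te ψ ρ z a) ≤ (⨆ z, te ψ ρ z a).comap (ρ g) from
    iSup_le fun z v hv => Submodule.mem_iSup_of_mem _ (te_map hv g)) hv).resolve_left fun h =>
      x0 ((Submodule.eq_bot_iff _).1 h x (Submodule.mem_iSup_of_mem z hx))
  have h4 : y ∈ te ψ ρ w (s * s) := mem_eig.2 fun c => by
    rw [mem_eig.1 hy, AddChar.mulShift_apply, ← hs, mul_left_comm]
  have := iSup_le h1 (h3.ge (Submodule.mem_top (x := y)))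
  simp [op_te hψ h4, y0] at this

omit hψ hR hl hf in
open Classical in
variable (ψ) in
/-- the symbol of `π u + π (-u)` -/
noncomputable def cf (b : F) : ℂ := if h : IsSquare b then ψ (2 * h.choose) + ψ (-(2 * h.choose)) else 0

omit hψ hR hl hf in
theorem cf_sq (s : F) : cf ψ (s * s) = ψ (2 * s) + ψ (-(2 * s)) := by
  have h : IsSquare (s * s) := ⟨s, rfl⟩
  rw [cf, dif_pos h]
  have := h.choose_spec
  generalize h.choose = r at this
  rcases mul_self_eq_mul_self_iff.1 this with rfl | rfl <;> simp [add_comm]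

variable (hS : Sq ψ ρ)
include hS

omit hl hf in
theorem op_qq {x w : l ⊕ l → F} (hB : B w x = 0) {s : F} (s0 : s ≠ 0) {y : X} (hy : y ∈ te ψ ρ x (s * s)) :
    op ψ ρ w (cf ψ) y = ρ (qq x w s⁻¹) y + ρ (qq x (-w) s⁻¹) y := by
  rw [show qq x (-w) s⁻¹ = qq x w (-s⁻¹) from sp_ext fun v => by
    simp [qq_smul hB, qq_smul (show B (-w) x = 0 by simp [hB])]]
  refine dec3 (N := LinearMap.eqLocus (op ψ ρ w (cf ψ)) (ρ (qq x w s⁻¹) + ρ (qq x w (-s⁻¹)))) hψ hB
    (fun b' b'' y h1 h2 h3 => ?_) hy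
  by_cases h0 : y = 0
  · simp [h0]
  obtain ⟨r, rfl⟩ := hS _ _ _ h2 h0
  have := hR x w hB _ _ _ y h1 h2 h3 h0
  rw [show 4 * (s * s * (r * r)) = (s * (2 * r)) ^ 2 by ring, sq_eq_sq_iff_eq_or_eq_neg] at this
  rw [LinearMap.mem_eqLocus, LinearMap.add_apply, op_te hψ h2, cf_sq, qq_te h1 h2 h3, qq_te h1 h2 h3, ← add_smul]
  rcases this with h | h <;> simp [h, s0, add_comm]

theorem rel (u v : l ⊕ l → F) : op ψ ρ u (cf ψ) * op ψ ρ v (cf ψ) =
    ψ (B v u) • op ψ ρ (u + v) (cf ψ) + ψ (-B v u) • op ψ ρ (u - v) (cf ψ) :=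
  LinearMap.ext fun y => gen hψ hR hl hf u v (N := LinearMap.eqLocus _ _) (fun x hu hv b b0 y hy => by
    by_cases h0 : y = 0
    · simp [h0]
    obtain ⟨s, rfl⟩ := hS _ _ _ hy h0
    have s0 : s ≠ 0 := fun h => b0 (by simp [h])
    have k : ∀ u v, B u x = 0 → B v x = 0 → ρ (qq x u s⁻¹) (ρ (qq x v s⁻¹) y) = ψ (B v u) • ρ (qq x (u + v) s⁻¹) y :=
      fun u v hu hv => by
        rw [← End.mul_apply, ← map_mul, qq_mul hu hv, map_mul, End.mul_apply, mem_eig.1 hy, map_smul]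
        congr 2; field_simp
    have hu' : B (-u) x = 0 := by simp [hu]
    have hv' : B (-v) x = 0 := by simp [hv]
    rw [LinearMap.mem_eqLocus, End.mul_apply, op_qq hψ hR hS hu s0 (te_op (by rw [B_symm, hv, neg_zero]) _ hy)]
    simp only [LinearMap.add_apply, LinearMap.smul_apply, op_qq hψ hR hS hv s0 hy, map_add,
      op_qq hψ hR hS (show B (u + v) x = 0 by simp [hu, hv]) s0 hy,
      op_qq hψ hR hS (show B (u + -v) x = 0 by simp [hu, hv]) s0 hy, k _ _ hu hv, k _ _ hu' hv, k _ _ hu hv',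
      k _ _ hu' hv', map_neg, LinearMap.neg_apply, neg_neg, smul_add, neg_add, sub_eq_add_neg]
    abel)
    (fun h y hy => by
      have k : ∀ x, B u x = 0 → B v x = 0 → op ψ ρ x (cf ψ) y = (2 : ℂ) • y := fun x hu hv => by
        rw [op_te hψ (hy x hu hv), ← mul_zero (0 : F), cf_sq]; norm_num
      have h' : B u v = 0 := by rw [B_symm, h, neg_zero]
      simp only [LinearMap.mem_eqLocus, End.mul_apply, LinearMap.add_apply, LinearMap.smul_apply, h,
        k u (by simp) h, k v h' (by simp), k (u + v) (by simp [h']) (by simp [h]),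
        k (u - v) (by simp [h']) (by simp [h]), map_smul, neg_zero, AddChar.map_zero_eq_one, one_smul]
      module) y

omit hψ hR hl hf hS in
theorem op_neg (u : l ⊕ l → F) (f : F → ℂ) : op ψ ρ (-u) f = op ψ ρ u f := by
  simp only [op, ← neg_one_smul F u, spTv_smul_left]; simp

omit hR hl hf hS in
theorem sum_ev (f : F → ℂ) (b : F) :
    ∑ d, coef ψ f d * (ψ (d * b) + ψ (-(d * b))) = f b + f (-b) := by
  simp only [mul_add, sum_add_distrib, ← mul_neg, sum_coef hψ]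

theorem exists_phi (h2 : (2 : F) ≠ 0) {W : Representation ℂ G ((l → F) → ℂ)} (hW : ∀ u c, W (spTv u c) = tv ψ u c) :
    ∃ Φ : End ℂ ((l → F) → ℂ) →ₗ[ℂ] End ℂ X, ∀ g, Φ (W g) = ρ g := by
  classical
  let Φ : End ℂ ((l → F) → ℂ) →ₗ[ℂ] End ℂ X := (bs hψ h2).constr ℂ fun u => (2 : ℂ)⁻¹ • op ψ ρ u (cf ψ)
  have h1 : ∀ u, Φ (hs ψ u) = (2 : ℂ)⁻¹ • op ψ ρ u (cf ψ) := fun u => by
    rw [← bs_apply hψ h2, Basis.constr_basis]
  have h3 : ∀ v T, Φ (T * (hs ψ v + hs ψ (-v))) = Φ T * op ψ ρ v (cf ψ) := fun v T =>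
    LinearMap.mem_eqLocus.1 (hs_ind hψ h2 (S := LinearMap.eqLocus (Φ ∘ₗ LinearMap.mulRight ℂ (hs ψ v + hs ψ (-v)))
      (LinearMap.mulRight ℂ (op ψ ρ v (cf ψ)) ∘ₗ Φ)) (fun u => by
      simp [mul_add, hs_mul, h1, rel hψ hR hl hf hS, sub_eq_add_neg, smul_comm (2 : ℂ)⁻¹]) T)
  have h4 : ∀ u c T, Φ (T * W (spTv u c)) = Φ T * ρ (spTv u c) := fun u c T => by
    let k := coef ψ fun b => ψ (c * (b / 2) ^ 2)
    have a : (2 : ℂ) • tv ψ u c = ∑ d, k d • (hs ψ (d • u) + hs ψ (-(d • u))) := ext_he hψ u fun b y hy => by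
      simp only [LinearMap.smul_apply, LinearMap.sum_apply, LinearMap.add_apply, tv_he hψ hy, ← neg_smul,
        mem_eig.1 hy, ← add_smul, smul_smul, ← sum_smul, neg_mul, k, sum_ev hψ, neg_div, neg_sq, two_mul]
    have b : (2 : ℂ) • ρ (spTv u c) = ∑ d, k d • op ψ ρ (d • u) (cf ψ) := ext_te hψ u fun b y hy => by
      by_cases h0 : y = 0
      · simp [h0]
      obtain ⟨s, rfl⟩ := hS _ _ _ hy h0
      have : ∀ d, cf ψ (d ^ 2 * (s * s)) = ψ (d * (2 * s)) + ψ (-(d * (2 * s))) := fun d => by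
        rw [show d ^ 2 * (s * s) = d * s * (d * s) by ring, cf_sq, mul_left_comm]
      simp only [LinearMap.smul_apply, LinearMap.sum_apply, op_te hψ (te_smul hy _), this,
        mem_eig.1 hy, smul_smul, ← sum_smul, k, sum_ev hψ, neg_div, neg_sq, mul_div_cancel_left₀ _ h2]
      rw [sq, two_mul]
    refine smul_right_injective _ (two_ne_zero' ℂ) ?_
    simp only [← map_smul, ← mul_smul_comm, hW, a, b, mul_sum]
    simp only [map_sum, mul_smul_comm, map_smul, h3]
  let S : Subgroup G :=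
    { carrier := {g | ∀ T, Φ (T * W g) = Φ T * ρ g}
      one_mem' := by simp
      mul_mem' := fun {a b} ha hb T => by rw [map_mul W, map_mul ρ, ← mul_assoc, hb, ha, mul_assoc]
      inv_mem' := fun {a} ha T => by
        have := ha (T * W a⁻¹)
        rw [mul_assoc, ← map_mul W, inv_mul_cancel, map_one, mul_one] at this
        rw [this, mul_assoc, ← map_mul ρ, mul_inv_cancel, map_one, mul_one] }
  refine ⟨Φ, fun g => ?_⟩
  have := (sp_eq_top_of_tv_mem S h4 ▸ Subgroup.mem_top g : g ∈ S) 1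
  rwa [one_mul, ← hs_zero (ψ := ψ), h1, show op ψ ρ 0 (cf ψ) = (2 : ℂ) • 1 from LinearMap.ext fun y => by
    rw [op_te (b := 0 * 0) hψ (mem_eig.2 fun c => by simp [spTv_zero_left]), cf_sq]; norm_num,
    inv_smul_smul₀ two_ne_zero, one_mul] at this

end H28.Wl
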