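import Mathlib
import Cfsg.Agent.H28.Wl2
import Cfsg.Agent.L.MinRep

/-!
# The four Weil characters of `Sp_{2n}(q)` (namespace `H28.Wl`)
-/

set_option autoImplicit false
set_option linter.style.haveILetI false

open Module Matrix H09 Finset Cfsg

namespace H28.Wl

section
variable {l F X : Type*} [Fintype l] [DecidableEq l] [Field F] [Fintype F] {ψ : AddChar F ℂ}
  [AddCommGroup X] [Module ℂ X] {ρ : Representation ℂ (symplecticGroup l F) X}

local notation "B" => spB l F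
local notation "G" => symplecticGroup l F

omit [Fintype F] in
theorem Sq.of_inj {Y : Type*} [AddCommGroup Y] [Module ℂ Y] {σ : Representation ℂ G Y} (h : Sq ψ ρ)
    (f : Y →ₗ[ℂ] X) (hf : Function.Injective f) (hc : ∀ g y, f (σ g y) = ρ g (f y)) : Sq ψ σ :=
  fun u b y hy y0 => h u b (f y) (mem_eig.2 fun c => by rw [← hc, mem_eig.1 hy, map_smul])
    ((map_ne_zero_iff f hf).2 y0)

variable (hψ : ψ ≠ 1) (h2 : (2 : F) ≠ 0)
include hψ

theorem triv_of_sq {ν : F} (hν : ¬ IsSquare ν) (h : Sq ψ ρ) (h' : Sq (ψ.mulShift ν) ρ) (g : G) : ρ g = 1 := by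
  suffices ρ.ker = ⊤ from (this ▸ Subgroup.mem_top g : g ∈ ρ.ker)
  refine sp_eq_top_of_tv_mem _ fun u c => ext_te (ρ := ρ) hψ u fun b y hy => ?_
  by_cases h0 : y = 0
  · simp [h0]
  have ν0 : ν ≠ 0 := by rintro rfl; simp at hν
  obtain ⟨s, rfl⟩ := h _ _ _ hy h0
  obtain ⟨r, hr⟩ := h' u (s * s / ν) y (mem_eig.2 fun c => by
    rw [mem_eig.1 hy, AddChar.mulShift_apply]; congr 2; field_simp) h0
  by_cases r0 : r = 0
  · simp [mem_eig.1 hy, show s * s = 0 by simpa [r0, ν0] using hr]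
  · exact (hν ⟨s / r, by field_simp at hr ⊢; linear_combination -hr⟩).elim

include h2
variable {W : Representation ℂ (symplecticGroup l F) ((l → F) → ℂ)} (hW : ∀ u c, W (spTv u c) = tv ψ u c)
  (hW' : ∀ g (u : l ⊕ l → F), W g * hs ψ u = hs ψ (g • u) * W g)
include hW

omit h2 in
theorem he_te {u : l ⊕ l → F} {b : F} {y} (hy : y ∈ he ψ u b) : y ∈ te ψ W u (b / 2 * (b / 2)) :=
  mem_eig.2 fun c => by rw [hW, tv_he hψ hy, sq]

theorem op_weil (u : l ⊕ l → F) : op ψ W u (cf ψ) = hs ψ u + hs ψ (-u) := ext_he hψ u fun b y hy => by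
  have a := mem_eig.1 hy 1
  have a' := mem_eig.1 hy (-1)
  simp only [one_smul, neg_smul] at a a'
  simp [op_te hψ (he_te hψ hW hy), cf_sq, a, a', add_smul, mul_div_cancel₀ _ h2]

include hW'
omit h2 in
theorem sq_weil : Sq ψ W := fun u b y hy y0 => by
  by_contra h
  refine y0 (dec (N := ⊥) hψ (hs_line0 u) (hs_line u) (fun d y hy => mem_eig.2 fun c => ?_)
    (fun b' y h1 h3 => by_contra fun y0 => h ⟨_, eig_eq hψ h1 (he_te hψ hW h3) y0⟩) hy)
  rw [← End.mul_apply, hW', End.mul_apply, mem_eig.1 hy, map_smul]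
  simp [spTv_smul]

theorem irr_weil (hl : 2 ≤ Fintype.card l) {ε : ℂ} (hε : ε * ε = 1) :
    (pm W (fun g => sg_comm (hW' g)) ε).toRepresentation.IsIrreducible := by
  refine (H05.isIrreducible_iff _).2 ⟨nontrivial_of_finrank_pos (R := ℂ) (Nat.pos_of_ne_zero fun h => ?_),
    fun U hU => or_iff_not_imp_left.2 fun h => eq_top_iff.2 fun x _ => ?_⟩
  · have := finrank_pm (l := l) hψ h2 hε
    rw [show finrank ℂ ((sg l ψ).eigenspace ε) = 0 from h] at this
    have h3 : ((Fintype.card F ^ Fintype.card l * Fintype.card F ^ Fintype.card l : ℕ) : ℂ) = (1 : ℕ) := by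
      push_cast at this ⊢; linear_combination hε - (Fintype.card F ^ Fintype.card l - ε) * this
    have := Nat.pow_eq_one.1 (Nat.eq_one_of_mul_eq_one_right (Nat.cast_injective h3))
    have := Fintype.one_lt_card (α := F)
    omega
  obtain ⟨y, hy, y0⟩ := (Submodule.ne_bot_iff _).1 h
  obtain ⟨f, hf⟩ := Module.Projective.exists_dual_eq_one ℂ (show y.1 ≠ 0 from fun h => y0 (Subtype.ext h))
  have := hs_ind hψ h2 (S := (U.map (Submodule.subtype _)).comap
    ((2 : ℂ)⁻¹ • (1 + ε • sg l ψ) ∘ₗ LinearMap.applyₗ y.1)) (fun u => ?_) (f.smulRight x.1)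
  · obtain ⟨z, hz, e⟩ := this
    have e2 := (isProj_sg hψ h2 hε).2 _ x.2
    simp only [LinearMap.smul_apply, LinearMap.comp_apply, LinearMap.applyₗ_apply_apply, LinearMap.smulRight_apply,
      hf, one_smul] at e e2
    exact Subtype.ext (e.trans e2) ▸ hz
  · have e : sg l ψ (hs ψ u y.1) = ε • hs ψ (-u) y.1 := by
      rw [← End.mul_apply, sg_hs, End.mul_apply, End.mem_eigenspace_iff.1 y.2, map_smul]
    simp only [Submodule.mem_comap, LinearMap.smul_apply, LinearMap.comp_apply, LinearMap.applyₗ_apply_apply,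
      LinearMap.add_apply, End.one_apply, e, smul_smul, hε, one_smul]
    rw [← LinearMap.add_apply, ← op_weil hψ h2 hW, op, LinearMap.sum_apply]
    exact Submodule.smul_mem _ _ (Submodule.sum_mem _ fun c _ => Submodule.smul_mem _ _ ⟨_, hU _ y hy, rfl⟩)

theorem char_eq [FiniteDimensional ℂ X] [ρ.IsIrreducible] (hl : 2 ≤ Fintype.card l)
    {Φ : End ℂ ((l → F) → ℂ) →ₗ[ℂ] End ℂ X} (h : ∀ g, Φ (W g) = ρ g) :
    ∃ ε : ℂ, (ε = 1 ∨ ε = -1) ∧ ρ.character = (pm W (fun g => sg_comm (hW' g)) ε).toRepresentation.character := by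
  classical
  by_contra! hne
  haveI : Fintype G := Fintype.ofFinite _
  haveI : Invertible (Nat.card G : ℂ) := invertibleOfNonzero (Nat.cast_ne_zero.2 Nat.card_pos.ne')
  have hc : IsClassFunction G fun g => ρ.character g⁻¹ :=
    H05.Cfsg.IsClassFunction.inv_comp (H05.Cfsg.IsCharacter.isClassFunction (H05.isCharacter_character ρ))
  have h1 : ∀ ε : ℂ, ε = 1 ∨ ε = -1 → ∀ y ∈ (sg l ψ).eigenspace ε, (∑ g, ρ.character g⁻¹ • W g) y = 0 := by
    intro ε hε y hy
    haveI := irr_weil hψ h2 hW hW' hl (ε := ε) (by rcases hε with rfl | rfl <;> simp)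
    have a := H05.sum_smul_rep_eq (pm W (fun g => sg_comm (hW' g)) ε).toRepresentation hc
    have b := Representation.char_orthonormal (pm W (fun g => sg_comm (hW' g)) ε).toRepresentation ρ
    rw [if_neg fun ⟨e⟩ => hne ε hε (Representation.char_iso e), mul_eq_zero,
      or_iff_right (inv_ne_zero (Invertible.ne_zero _))] at b
    simp only [mul_comm (ρ.character _), b, zero_div, zero_smul] at a
    simpa [LinearMap.sum_apply, Subrepresentation.toRepresentation] using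
      congrArg Subtype.val (LinearMap.congr_fun a ⟨y, hy⟩)
  have h3 : ∑ g, ρ.character g⁻¹ • W g = 0 := LinearMap.ext fun y => by
    have a := h1 _ (.inl rfl) _ ((isProj_sg hψ h2 (ε := 1) (by simp)).1 y)
    have b := h1 _ (.inr rfl) _ ((isProj_sg hψ h2 (ε := -1) (by simp)).1 y)
    simp only [LinearMap.smul_apply, LinearMap.add_apply, End.one_apply, map_smul, map_add] at a b
    rw [LinearMap.zero_apply]
    linear_combination (norm := module) a + b
  have h4 := congrArg (fun T => LinearMap.trace ℂ X (Φ T)) h3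
  have h5 := Representation.char_orthonormal ρ ρ
  simp only [map_sum, map_smul, h, map_zero, smul_eq_mul] at h4
  rw [if_pos ⟨Representation.Equiv.refl ρ⟩, sum_congr rfl fun g _ => mul_comm _ _] at h5
  rw [show ∑ g, ρ.character g⁻¹ * ρ.character g = 0 from h4] at h5
  simp at h5

end

variable {F X : Type*} [Field F] [Fintype F] {n : ℕ} {ψ : AddChar F ℂ} [AddCommGroup X] [Module ℂ X]
  [FiniteDimensional ℂ X] {ρ : Representation ℂ (symplecticGroup (Fin n) F) X}

open L.MR H10 H10.Form in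
theorem rk1_or (hψ : ψ ≠ 1) (hn : 2 ≤ n) : Rk1 ψ ρ ∨
    (Fintype.card F ^ n - 1) * (Fintype.card F ^ n - Fintype.card F) ≤ 2 * (Fintype.card F + 1) * finrank ℂ X := by
  refine or_iff_not_imp_right.2 fun hlt z w hB b b' b'' y h1 h3 h4 y0 => by_contra fun hne => hlt ?_
  have hA : IsAltF (spForm (Fin n) F) := isAltF_spForm
  obtain ⟨W₀, hW₀, hn'⟩ := exists_TS_sp F n
  have hT : (spForm (Fin n) F).TS (Submodule.span F {z, w}) := hA.ts fun x hx y hy => by
    obtain ⟨a, b, rfl⟩ := Submodule.mem_span_pair.1 hx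
    obtain ⟨c, d, rfl⟩ := Submodule.mem_span_pair.1 hy
    simp [hB, B_symm w z]
  obtain ⟨W, hW, hle, hd⟩ := hT.exists_ge hW₀ (by
    classical
    refine (finrank_span_le_card _).trans ?_
    have : ({z, w} : Finset _).card ≤ 2 := card_le_two
    simp; omega)
  have hR := isERep_ext (ρ.comp (eSp F n).toMonoidHom)
  have hk : ∀ t, t ∈ (spForm (Fin n) F).T.ker := fun t => by rw [hA.T_eq]; rfl
  have hs : ∀ a : Idx (spForm (Fin n) F) W, ∃ g, fam (ext (ρ.comp (eSp F n).toMonoidHom)) W a = ρ g ∧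
      ∀ x, g • x = (L.MR.sg a).1 x := fun a =>
    ⟨_, ext_apply _ (sg_mem hW a), fun x => spIsomEquiv_symm_smul _ x⟩
  have hf : ∀ (a : Idx (spForm (Fin n) F) W) (x : W) (b : F), ∀ y ∈ te ψ ρ x b,
      fam (ext (ρ.comp (eSp F n).toMonoidHom)) W a y ∈ te ψ ρ x b := fun a x b y hy => by
    obtain ⟨g, e, hg⟩ := hs a
    have := te_map hy g
    rwa [hg, sg_fix hW a (hW.le_perp x.2), ← e] at this
  let z' : W := ⟨z, hle (Submodule.subset_span (by simp))⟩
  let w' : W := ⟨w, hle (Submodule.subset_span (by simp))⟩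
  obtain ⟨χ, x, hx, x0, hχ⟩ := L.Wt.exists_wt (fam (ext (ρ.comp (eSp F n).toMonoidHom)) W) _
    (te ψ ρ z' b ⊓ te ψ ρ w' b' ⊓ te ψ ρ (z' + w' : W) b'') rfl
    ((Submodule.ne_bot_iff _).2 ⟨y, ⟨⟨h1, h3⟩, h4⟩, y0⟩)
    (fun a v hv => ⟨⟨hf a _ _ _ hv.1.1, hf a _ _ _ hv.1.2⟩, hf a _ _ _ hv.2⟩)
    (fun a a' v _ => fam_comm hW hR a (sg_mem hW a') (fun x hx => sg_fix hW a' (hW.le_perp hx)) v)
  obtain ⟨Q, hQ, -⟩ := exists_quad hW hR x0 hχ hψ hA
  have hQ' : ∀ (p : W) (b : F), x ∈ te ψ ρ p b → Q p = -b := fun p b hp => by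
    refine eig_eq hψ (f := fun c => ρ (spTv p (-c))) (mem_eig.2 fun c => ?_) (mem_eig.2 fun c => ?_) x0
    · obtain ⟨g, e, hg⟩ := hs (p, 0, ⟨c, hk c⟩)
      rw [show spTv p.1 (-c) = g from sp_ext fun x => by
        simp [hg, sg_apply hW, eps_alt hA, spTv_smul, B_symm x p.1, sub_eq_add_neg], ← e, hχ, hQ]
    · rw [mem_eig.1 hp]; simp
  have := bound2 hW hR x0 hχ hψ hA hQ (u := z') (v := w') (by
    simp only [QuadraticMap.polar_self]
    simp only [QuadraticMap.polar, two_smul, hQ' _ _ hx.1.1, hQ' _ _ hx.1.2, hQ' _ _ hx.2]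
    exact fun h => hne (by linear_combination -h))
  rwa [Module.natCard_eq_pow_finrank (K := F), hd, hn', Nat.card_eq_fintype_card] at this

/-- the Weil characters -/
theorem exists_chars (hn : 2 ≤ n) (h2 : (2 : F) ≠ 0) : ∃ χ : Bool → ℂ → symplecticGroup (Fin n) F → ℂ,
    (∀ b ε, ε * ε = 1 → IsIrrCharacter _ (χ b ε) ∧ 2 * χ b ε 1 = Fintype.card F ^ n + ε) ∧
    (∀ ε, ε * ε = 1 → χ true ε ≠ χ false ε) ∧ ∀ θ, IsIrrCharacter _ θ → θ 1 ≠ 1 →
      (∃ b ε, (ε = 1 ∨ ε = -1) ∧ θ = χ b ε) ∨ (Fintype.card F ^ n - 1) * (Fintype.card F ^ n - Fintype.card F) ≤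
        2 * (Fintype.card F + 1) * charDegree θ := by
  obtain ⟨ψ, hψ⟩ := L.Wt.exists_addChar (F := F) (K := ℂ) (by simpa using (CharP.char_is_prime F (ringChar F)).ne_zero)
  obtain ⟨ν, hν⟩ := FiniteField.exists_nonsquare (F := F) fun h => h2 (by
    have h3 := ringChar.Nat.cast_ringChar (R := F)
    rwa [h] at h3)
  have hl : 2 ≤ Fintype.card (Fin n) := by simpa using hn
  let φ : Bool → AddChar F ℂ := fun b => if b then ψ else ψ.mulShift ν
  have hφ : ∀ b, φ b ≠ 1 := by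
    rintro (_ | _)
    · exact AddChar.IsPrimitive.of_ne_one hψ (by rintro rfl; simp at hν)
    · exact hψ
  choose W hW' hW using fun b => exists_weil (hφ b) h2 hl
  let R := fun b ε => (pm (W b) (fun g => sg_comm (hW' b g)) ε).toRepresentation
  have one : ∀ {k} (ρ : Representation ℂ (symplecticGroup (Fin n) F) (Fin k → ℂ)), ρ.IsIrreducible →
      ∀ y, (∀ g, ρ g y = y) → y ≠ 0 → ρ.character 1 = 1 := fun ρ hρ y hy y0 => by
    have := (((H05.isIrreducible_iff _).1 hρ).2 (ℂ ∙ y) fun g v hv => by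
      obtain ⟨c, rfl⟩ := Submodule.mem_span_singleton.1 hv
      rwa [map_smul, hy]).resolve_left (by simpa using y0)
    rw [Representation.char_one, ← finrank_top, ← this, finrank_span_singleton y0, Nat.cast_one]
  have deg : ∀ b ε, ε * ε = 1 → 2 * (R b ε).character 1 = Fintype.card F ^ n + ε := fun b ε hε => by
    rw [Representation.char_one]
    exact (finrank_pm (l := Fin n) (hφ b) h2 hε).trans (by simp)
  refine ⟨fun b ε => (R b ε).character, fun b ε hε => ⟨?_, deg b ε hε⟩, fun ε hε h => ?_, fun θ hθ h1 => ?_⟩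
  · haveI := irr_weil (hφ b) h2 (hW b) (hW' b) hl hε
    exact H05.isIrrCharacter_character _
  · have s : ∀ b, Sq (φ b) (R b ε) := fun b => (sq_weil (hφ b) (hW b) (hW' b)).of_inj (Submodule.subtype _)
      Subtype.val_injective fun _ _ => rfl
    obtain ⟨e⟩ := H05.equiv_of_character_eq _ _ h
    have t := triv_of_sq hψ hν (s true) ((s false).of_inj e.toLinearEquiv.toLinearMap e.toLinearEquiv.injective
      (H05.equiv_apply_rep e))
    haveI := irr_weil (hφ true) h2 (hW _) (hW' _) hl hε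
    obtain ⟨ρ, hρ, e⟩ := H05.Cfsg.IsIrrCharacter.exists_rep (H05.isIrrCharacter_character (R true ε))
    obtain ⟨e'⟩ := H05.equiv_of_character_eq _ _ e
    haveI := H05.nontrivial_of_isIrreducible ρ
    obtain ⟨y, y0⟩ := exists_ne (0 : Fin (charDegree (R true ε).character) → ℂ)
    have a := one ρ hρ y (fun g => e'.toLinearEquiv.injective ((H05.equiv_apply_rep e' g y).trans (by
      rw [t]; rfl))) y0
    have b := deg true ε hε
    rw [← e, a] at b
    have c : (((Fintype.card F : ℤ) ^ n - 1) * (Fintype.card F ^ n - 3) : ℤ) = 0 := Int.cast_injective (α := ℂ) (by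
      push_cast; linear_combination hε - (Fintype.card F ^ n - 2 - ε) * b)
    have d : (2 : ℤ) ^ 2 ≤ (Fintype.card F : ℤ) ^ n := (pow_le_pow_left₀ (by norm_num)
      (by exact_mod_cast Fintype.one_lt_card (α := F)) 2).trans (pow_le_pow_right₀ (by
        exact_mod_cast Fintype.card_pos (α := F)) hn)
    rcases mul_eq_zero.1 c with c | c <;> omega
  obtain ⟨k, ρ, hρ, rfl⟩ := hθ
  refine (rk1_or (ρ := ρ) hψ hn).imp (fun hR => ?_) fun h => by rwa [H05.charDegree_character]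
  have hf : ∀ y, (∀ g, ρ g y = y) → y = 0 := fun y hy => by_contra fun y0 => h1 (one ρ hρ y hy y0)
  obtain ⟨b, hR, hS⟩ : ∃ b, Rk1 (φ b) ρ ∧ Sq (φ b) ρ := by
    rcases unif hψ hR hl hf h2 ((H05.isIrreducible_iff _).1 hρ).2 hν with h | h
    · exact ⟨true, hR, h⟩
    refine ⟨false, fun z w hB b b' b'' y h1 h3 h4 y0 => ?_, h⟩
    have k : ∀ u b, y ∈ te (ψ.mulShift ν) ρ u b → y ∈ te ψ ρ u (ν * b) := fun u b h => mem_eig.2 fun c => by
      rw [mem_eig.1 h, AddChar.mulShift_apply, mul_left_comm]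
    exact mul_left_cancel₀ (pow_ne_zero 2 (show ν ≠ 0 by rintro rfl; simp at hν))
      (by linear_combination hR z w hB _ _ _ y (k _ _ h1) (k _ _ h3) (k _ _ h4) y0)
  obtain ⟨Φ, hΦ⟩ := exists_phi (hφ b) hR hl hf hS h2 (hW b)
  obtain ⟨ε, h⟩ := char_eq (hφ b) h2 (hW b) (hW' b) hl hΦ
  exact ⟨b, ε, h⟩

theorem two_ne (h : Odd (Fintype.card F)) : (2 : F) ≠ 0 := fun h2 => by
  have := FiniteField.even_card_iff_char_two.1 ((ringChar.eq_iff.2 (CharTwo.of_one_ne_zero_of_two_eq_zero one_ne_zero h2)))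
  exact (Nat.not_even_iff_odd.2 h) (Nat.even_iff.2 this)

theorem gap {q n d : ℕ} (hq : 3 ≤ q) (hn : 2 ≤ n) (h : (q ^ n - 1) * (q ^ n - q) ≤ 2 * (q + 1) * d) :
    q ^ n + 1 < 2 * d := by
  obtain ⟨n, rfl⟩ := Nat.exists_eq_add_of_le hn
  have h1 : q ^ 2 ≤ q ^ (2 + n) := Nat.pow_le_pow_right (by omega) hn
  generalize q ^ (2 + n) = x at h h1
  obtain ⟨y, rfl⟩ : ∃ y, x = y + q := ⟨x - q, by nlinarith [Nat.sub_add_cancel (show q ≤ x by nlinarith)]⟩
  obtain ⟨r, rfl⟩ := Nat.exists_eq_add_of_le hq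
  rw [show y + (3 + r) - 1 = y + 2 + r by omega, Nat.add_sub_cancel] at h
  obtain ⟨z, rfl⟩ : ∃ z, y = z + (6 + 5 * r + r * r) := ⟨y - (6 + 5 * r + r * r), by
    nlinarith [Nat.sub_add_cancel (show 6 + 5 * r + r * r ≤ y by nlinarith)]⟩
  by_contra! h2
  nlinarith [Nat.mul_le_mul_left (3 + r + 1) h2, Nat.zero_le (z * z), Nat.zero_le (z * r), Nat.zero_le (z * r * r),
    Nat.zero_le (r * r), Nat.zero_le (r * r * r), Nat.zero_le (r * r * r * r)]

theorem card_weil (hn : 2 ≤ n) (h : Odd (Fintype.card F)) {ε c : ℂ} (hε : ε = 1 ∨ ε = -1)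
    (hc : 2 * c = Fintype.card F ^ n + ε) :
    Nat.card {χ : IrrCharacter (symplecticGroup (Fin n) F) // χ.1 1 = c} = 2 := by
  obtain ⟨χ, h1, h3, h4⟩ := exists_chars hn (two_ne h)
  have e : ∀ {ε : ℂ}, ε = 1 ∨ ε = -1 → ε * ε = 1 := by rintro _ (rfl | rfl) <;> simp
  have hq : 3 ≤ Fintype.card F := by
    have := Fintype.one_lt_card (α := F)
    obtain ⟨k, hk⟩ := h; omega
  have hq' : 3 ^ 2 ≤ Fintype.card F ^ n := (Nat.pow_le_pow_left hq 2).trans (Nat.pow_le_pow_right (by omega) hn)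
  let f : Bool → {χ : IrrCharacter (symplecticGroup (Fin n) F) // χ.1 1 = c} := fun b =>
    ⟨⟨χ b ε, (h1 b ε (e hε)).1⟩, mul_left_cancel₀ two_ne_zero ((h1 b ε (e hε)).2.trans hc.symm)⟩
  refine Nat.card_eq_two_iff.2 ⟨f true, f false, fun h => h3 ε (e hε) (congrArg (·.1.1) h),
    Set.eq_univ_of_forall fun θ => ?_⟩
  have h5 := (H05.Cfsg.IsIrrCharacter.charDegree_eq θ.1.2).trans θ.2
  have h6 : 2 * charDegree θ.1.1 = Fintype.card F ^ n + 1 ∨ 2 * charDegree θ.1.1 + 1 = Fintype.card F ^ n :=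
    hε.imp (fun h => Nat.cast_injective (R := ℂ) (by push_cast; rw [h5, hc, h]))
      fun h => Nat.cast_injective (R := ℂ) (by push_cast; rw [h5, hc, h]; ring)
  rcases h4 θ.1 θ.1.2 (fun h => by
    rw [H05.charDegree_eq_of_apply_one (n := 1) (by simpa using h)] at h6; omega) with ⟨b, ε', h7, h8⟩ | h7
  · obtain rfl : ε = ε' := by
      have := (h1 b ε' (e h7)).2
      rw [← h8, θ.2, hc] at this
      exact add_left_cancel this
    obtain rfl : θ = f b := Subtype.ext (Subtype.ext h8)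
    cases b <;> simp
  · have := gap hq hn h7; omega

end H28.Wl
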